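import Mathlib
import Cfsg.Agent.Lib.Classical.OrthCount

/-!
# The numbers of the recursion
-/

set_option autoImplicit false

namespace Cfsg.Agent.Char.OmegaDeg

/-- The number of nonzero singular vectors with `j` pairs. -/
def n1 (q e j : ℕ) : ℕ := (q ^ j - 1) * (q ^ (j - 1 + e) + 1)

/-- The degree bound with `j` pairs. -/
def tt (q e : ℕ) : ℕ → ℕ
  | 0 => 0
  | 1 => if e = 0 then 1 else 0
  | (k + 2) => tt q e (k + 1) + n1 q e (k + 1) + 1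

theorem tt_succ (q e j : ℕ) (hj : 1 ≤ j) : tt q e (j + 1) = tt q e j + n1 q e j + 1 := by
  obtain ⟨k, rfl⟩ : ∃ k, j = k + 1 := ⟨j - 1, by omega⟩
  rw [tt]

theorem n1_cast (q e j : ℕ) (hq : 1 ≤ q) :
    (n1 q e j : ℤ) = ((q : ℤ) ^ j - 1) * ((q : ℤ) ^ (j - 1 + e) + 1) := by
  rw [n1, Nat.cast_mul, Nat.cast_sub (Nat.one_le_pow _ _ hq)]
  push_cast
  ring

theorem tt_plus (q : ℕ) (hq : 1 ≤ q) (j : ℕ) (hj : 1 ≤ j) :
    ((q : ℤ) ^ 2 - 1) * tt q 0 j = ((q : ℤ) ^ j - 1) * ((q : ℤ) ^ (j - 1) + q) := by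
  induction j, hj using Nat.le_induction with
  | base => simp [tt]; ring
  | succ k hk ih =>
    obtain ⟨i, rfl⟩ : ∃ i, k = i + 1 := ⟨k - 1, by omega⟩
    rw [tt_succ q 0 _ hk, Nat.cast_add, Nat.cast_add, n1_cast q 0 _ hq]
    simp only [Nat.add_sub_cancel, add_zero, pow_succ] at ih ⊢
    linear_combination ih

theorem tt_minus (q : ℕ) (hq : 1 ≤ q) (j : ℕ) (hj : 1 ≤ j) :
    ((q : ℤ) ^ 2 - 1) * tt q 2 j = ((q : ℤ) ^ (j + 1) + 1) * ((q : ℤ) ^ j - q) := by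
  induction j, hj using Nat.le_induction with
  | base => simp [tt]
  | succ k hk ih =>
    obtain ⟨i, rfl⟩ : ∃ i, k = i + 1 := ⟨k - 1, by omega⟩
    rw [tt_succ q 2 _ hk, Nat.cast_add, Nat.cast_add, n1_cast q 2 _ hq]
    simp only [Nat.add_sub_cancel, pow_succ] at ih ⊢
    linear_combination ih

/-- The counts grow. -/
theorem n1_step {q e j : ℕ} (hq : 2 ≤ q) (hj : 1 ≤ j) : q * n1 q e j + q ≤ n1 q e (j + 1) + 1 := by
  obtain ⟨i, rfl⟩ : ∃ i, j = i + 1 := ⟨j - 1, by omega⟩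
  simp only [n1, Nat.add_sub_cancel]
  obtain ⟨X, hX⟩ : ∃ X, X = q ^ (i + 1) := ⟨_, rfl⟩
  obtain ⟨Y, hY⟩ : ∃ Y, Y = q ^ (i + e) := ⟨_, rfl⟩
  rw [show q ^ (i + 1 + 1) = q * X by rw [hX, ← pow_succ'], show q ^ (i + 1 + e) = q * Y by
    rw [hY, ← pow_succ', Nat.add_right_comm], ← hX, ← hY]
  have hX1 : 2 ≤ X := hX ▸ le_trans hq (Nat.le_self_pow (by omega) q)
  have hY1 : 1 ≤ Y := hY ▸ Nat.one_le_pow _ _ (by omega)
  obtain ⟨X', rfl⟩ : ∃ X', X = X' + 1 := ⟨X - 1, by omega⟩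
  obtain ⟨p, rfl⟩ : ∃ p, q = p + 1 := ⟨q - 1, by omega⟩
  have e1 : (p + 1) * (X' + 1) - 1 = (p + 1) * X' + p := by rw [mul_add, mul_one]; omega
  rw [e1, Nat.add_sub_cancel]
  nlinarith [Nat.mul_le_mul_left X' hY1, Nat.mul_le_mul_left p hY1, Nat.zero_le (X' * Y * p * (p + 1)),
    Nat.zero_le (X' * p * Y)]

theorem tt_le_n1 {q e j : ℕ} (hq : 2 ≤ q) (he : e = 0 ∨ e = 2) (hj : 2 ≤ j) : tt q e j + 1 ≤ n1 q e j := by
  induction j, hj using Nat.le_induction with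
  | base =>
    rw [tt_succ q e 1 le_rfl]
    have h4 : 4 ≤ q ^ 2 := Nat.pow_le_pow_left hq 2
    rcases he with rfl | rfl
    · simp only [tt, n1, pow_one, pow_zero, Nat.sub_self, zero_add, if_pos]
      obtain ⟨p, rfl⟩ : ∃ p, q = p + 2 := ⟨q - 2, by omega⟩
      obtain ⟨r, hr⟩ : ∃ r, (p + 2) ^ 2 = r + 1 := ⟨_, (Nat.sub_add_cancel (by omega)).symm⟩
      rw [hr, Nat.add_sub_cancel, show p + 2 - 1 = p + 1 by omega]
      simp only [Nat.reduceSub, add_zero, pow_one]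
      nlinarith
    · simp only [tt, n1, pow_one, Nat.sub_self, zero_add, Nat.reduceSub]
      obtain ⟨p, rfl⟩ : ∃ p, q = p + 2 := ⟨q - 2, by omega⟩
      obtain ⟨r, hr⟩ : ∃ r, (p + 2) ^ 2 = r + 1 := ⟨_, (Nat.sub_add_cancel (by omega)).symm⟩
      rw [show (p + 2) ^ (1 + 2) = (p + 2) * (p + 2) ^ 2 by ring, hr, Nat.add_sub_cancel,
        show p + 2 - 1 = p + 1 by omega]
      simp only [OfNat.ofNat_ne_zero, if_false]
      have hr3 : 3 ≤ r := by omega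
      nlinarith [Nat.mul_le_mul hr3 (Nat.mul_le_mul_left (p + 2) (Nat.succ_le_succ (Nat.zero_le r))), Nat.zero_le p,
        Nat.zero_le (p * r)]
  | succ k hk ih =>
    rw [tt_succ q e k (by omega)]
    have h1 := n1_step (e := e) hq (show 1 ≤ k by omega)
    have h2 : 2 * n1 q e k ≤ q * n1 q e k := Nat.mul_le_mul_right _ hq
    omega

theorem tt_le_twice {q e j : ℕ} (hq : 2 ≤ q) (he : e = 0 ∨ e = 2) (hj : 2 ≤ j) :
    tt q e (j + 1) ≤ 2 * n1 q e j := by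
  have := tt_le_n1 hq he hj
  rw [tt_succ q e j (by omega)]
  omega

theorem tt_plus_small {q j : ℕ} (hq : 4 ≤ q) (hj : 2 ≤ j) : 3 * (tt q 0 j + 1) ≤ n1 q 0 j := by
  induction j, hj using Nat.le_induction with
  | base =>
    simp only [tt, n1, pow_one, pow_zero, Nat.sub_self, zero_add, if_pos, Nat.reduceSub, add_zero]
    obtain ⟨p, rfl⟩ : ∃ p, q = p + 4 := ⟨q - 4, by omega⟩
    obtain ⟨r, hr⟩ : ∃ r, (p + 4) ^ 2 = r + 1 :=
      ⟨_, (Nat.sub_add_cancel (Nat.one_le_pow _ _ (by omega))).symm⟩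
    rw [hr, Nat.add_sub_cancel, show p + 4 - 1 = p + 3 by omega]
    nlinarith
  | succ k hk ih =>
    rw [tt_succ q 0 k (by omega)]
    have h1 := n1_step (e := 0) (show 2 ≤ q by omega) (show 1 ≤ k by omega)
    have h2 : 4 * n1 q 0 k ≤ q * n1 q 0 k := Nat.mul_le_mul_right _ hq
    omega

/-- The value classes of the plus type are large. -/
theorem class_plus {q σ j : ℕ} (hj : 2 ≤ j) (h : (5 ≤ q ∧ σ ≤ 2) ∨ (4 ≤ q ∧ σ ≤ 1)) :
    σ * tt q 0 (j + 1) ≤ (q - 1) * ((q ^ j - 1) * q ^ (j - 1)) := by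
  have hq : 4 ≤ q := by rcases h with h | h <;> omega
  have h1 := tt_plus_small hq hj
  have h2 : 3 * tt q 0 (j + 1) ≤ 4 * n1 q 0 j := by rw [tt_succ q 0 j (by omega)]; omega
  have h3 : 4 ≤ q ^ (j - 1) := le_trans hq (Nat.le_self_pow (by omega) q)
  obtain ⟨y, hy⟩ : ∃ y, y = q ^ (j - 1) := ⟨_, rfl⟩
  have h4 : 4 * σ * (y + 1) ≤ 3 * (q - 1) * y := by
    obtain ⟨p, rfl⟩ : ∃ p, q = p + 1 := ⟨q - 1, by omega⟩
    rw [Nat.add_sub_cancel]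
    rw [← hy] at h3
    rcases h with ⟨hp, hs⟩ | ⟨hp, hs⟩
    · nlinarith
    · nlinarith
  refine Nat.le_of_mul_le_mul_left (?_ : 3 * _ ≤ 3 * _) (by norm_num)
  rw [n1, add_zero, ← hy] at h2
  rw [← hy]
  calc 3 * (σ * tt q 0 (j + 1)) = σ * (3 * tt q 0 (j + 1)) := by ring
    _ ≤ σ * (4 * ((q ^ j - 1) * (y + 1))) := Nat.mul_le_mul_left _ h2
    _ = (q ^ j - 1) * (4 * σ * (y + 1)) := by ring
    _ ≤ (q ^ j - 1) * (3 * (q - 1) * y) := Nat.mul_le_mul_left _ h4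
    _ = 3 * ((q - 1) * ((q ^ j - 1) * y)) := by ring

/-- The classes of the minus type. -/
theorem class_minus {q j : ℕ} (hq : 1 ≤ q) :
    n1 q 2 j + 1 ≤ Classical.OCount.valNum q 2 j (q + 1) := by
  simp only [n1, Classical.OCount.valNum]
  have h : 1 ≤ q ^ j := Nat.one_le_pow _ _ hq
  have h' : q ^ j ≤ q ^ j * (q + 1) := Nat.le_mul_of_pos_right _ (by omega)
  rw [mul_add, mul_one]
  omega

/-- Factors are replaced by their common divisors with the modulus. -/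
theorem dvd_replace {D A B g x y : ℤ} (h : D ∣ A * B) (e : g = x * D + y * B) : D ∣ A * g := by
  rw [e, mul_add, mul_left_comm A x, mul_left_comm A y]
  exact dvd_add (dvd_mul_of_dvd_right (dvd_mul_left _ _) _) (dvd_mul_of_dvd_right h _)

theorem no_plus {q j D K : ℕ} (hq : 2 ≤ q) (hj : 3 ≤ j) (hD : D + 1 = tt q 0 (j + 1))
    (hK : K * (q ^ 2 - 1) = n1 q 0 j * n1 q 0 (j + 1))
    (h : (D : ℤ) ∣ (K : ℤ) * ((D : ℤ) - (q : ℤ) ^ (2 * j - 1))) : False := by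
  obtain ⟨i, rfl⟩ : ∃ i, j = i + 1 := ⟨j - 1, by omega⟩
  obtain ⟨y, hy⟩ : ∃ y, y = (q : ℤ) ^ i := ⟨_, rfl⟩
  have hqz : (2 : ℤ) ≤ q := by exact_mod_cast hq
  have hT := tt_plus q (by omega) (i + 1 + 1) (by omega)
  rw [← hD] at hT
  have hK' : (K : ℤ) * ((q : ℤ) ^ 2 - 1) = (n1 q 0 (i + 1) : ℤ) * n1 q 0 (i + 1 + 1) := by
    have h' := congrArg (fun n : ℕ => (n : ℤ)) hK
    push_cast [Nat.cast_sub (Nat.one_le_pow 2 q (by omega))] at h'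
    exact h'
  simp only [n1_cast q 0 _ (show 1 ≤ q by omega), Nat.add_sub_cancel, add_zero, pow_succ, ← hy] at hK'
  simp only [Nat.add_sub_cancel, pow_succ, ← hy, Nat.cast_add, Nat.cast_one] at hT
  obtain ⟨P, hP⟩ : ∃ P, P = (q : ℤ) ^ (2 * (i + 1) - 1) := ⟨_, rfl⟩
  obtain ⟨k, hk⟩ : ∃ k, k = (q : ℤ) * (y * q) + (q : ℤ) ^ 2 + q - 1 := ⟨_, rfl⟩
  have h1 : (D : ℤ) ∣ (K : ℤ) * P := by
    have := dvd_sub (dvd_mul_left (D : ℤ) (K : ℤ)) h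
    rwa [← mul_sub, sub_sub_cancel, ← hP] at this
  obtain ⟨c, hc⟩ := h1
  have hx : (y * q - 1 : ℤ) ≠ 0 := by
    have : (1 : ℤ) ≤ y := hy ▸ one_le_pow₀ (by omega)
    nlinarith
  have h2 : k ∣ (y + 1) * (y * q + 1) * (y * q * q - 1) * P := ⟨c, by
    refine mul_left_cancel₀ hx ?_
    have e : ((q : ℤ) ^ 2 - 1) * D = (y * q - 1) * k := by rw [hk]; linear_combination hT
    linear_combination ((q : ℤ) ^ 2 - 1) * hc - P * hK' + c * e⟩
  have hco : IsCoprime k (q : ℤ) := ⟨-1, y * q + q + 1, by rw [hk]; ring⟩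
  have h3 := (hco.pow_right (n := 2 * (i + 1) - 1)).dvd_of_dvd_mul_right (hP ▸ h2)
  have h4 := dvd_replace h3 (g := (q : ℤ) * (q + 1)) (x := 1) (y := -1) (by rw [hk]; ring)
  rw [← mul_assoc, mul_comm _ ((q : ℤ) + 1), ← mul_assoc] at h4
  have h5 := hco.dvd_of_dvd_mul_right h4
  rw [mul_comm ((q : ℤ) + 1), mul_assoc, mul_comm (y * q + 1), ← mul_assoc] at h5
  have h6 := dvd_replace h5 (g := (q : ℤ) ^ 2 - 1) (x := 1) (y := -(q : ℤ)) (by rw [hk]; ring)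
  rw [mul_assoc, mul_comm] at h6
  have h7 := dvd_replace h6 (g := (q : ℤ) - 1) (x := 1) (y := -(q : ℤ) ^ 2) (by rw [hk]; ring)
  have hy4 : (q : ℤ) ^ 2 ≤ y := hy ▸ pow_le_pow_right₀ (by omega) (by omega)
  have h8 := Int.le_of_dvd (by
    refine mul_pos (mul_pos ?_ ?_) ?_ <;> nlinarith) h7
  rw [hk] at h8
  nlinarith [mul_le_mul_of_nonneg_left hy4 (sq_nonneg (q : ℤ)), mul_le_mul hqz hqz (by norm_num) (by omega)]

theorem no_minus {q j D K : ℕ} (hq : 2 ≤ q) (hj : 2 ≤ j) (hD : D + 1 = tt q 2 (j + 1))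
    (hK : K * (q ^ 2 - 1) = n1 q 2 j * n1 q 2 (j + 1))
    (h : (D : ℤ) ∣ (K : ℤ) * ((D : ℤ) - (q : ℤ) ^ (2 * j + 1))) : False := by
  obtain ⟨i, rfl⟩ : ∃ i, j = i + 1 := ⟨j - 1, by omega⟩
  obtain ⟨y, hy⟩ : ∃ y, y = (q : ℤ) ^ i := ⟨_, rfl⟩
  have hqz : (2 : ℤ) ≤ q := by exact_mod_cast hq
  have hT := tt_minus q (by omega) (i + 1 + 1) (by omega)
  rw [← hD] at hT
  have hK' : (K : ℤ) * ((q : ℤ) ^ 2 - 1) = (n1 q 2 (i + 1) : ℤ) * n1 q 2 (i + 1 + 1) := by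
    have h' := congrArg (fun n : ℕ => (n : ℤ)) hK
    push_cast [Nat.cast_sub (Nat.one_le_pow 2 q (by omega))] at h'
    exact h'
  simp only [n1_cast q 2 _ (show 1 ≤ q by omega), Nat.add_sub_cancel, pow_succ, ← hy] at hK'
  simp only [pow_succ, ← hy, Nat.cast_add, Nat.cast_one] at hT
  obtain ⟨P, hP⟩ : ∃ P, P = (q : ℤ) ^ (2 * (i + 1) + 1) := ⟨_, rfl⟩
  obtain ⟨k, hk⟩ : ∃ k, k = (q : ℤ) * (y * q * q) - (q : ℤ) ^ 2 - q + 1 := ⟨_, rfl⟩
  have h1 : (D : ℤ) ∣ (K : ℤ) * P := by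
    have := dvd_sub (dvd_mul_left (D : ℤ) (K : ℤ)) h
    rwa [← mul_sub, sub_sub_cancel, ← hP] at this
  obtain ⟨c, hc⟩ := h1
  have hx : (y * q * q + 1 : ℤ) ≠ 0 := by
    have : (1 : ℤ) ≤ y := hy ▸ one_le_pow₀ (by omega)
    nlinarith
  have h2 : k ∣ (y * q - 1) * (y * q * q - 1) * (y * q * q * q + 1) * P := ⟨c, by
    refine mul_left_cancel₀ hx ?_
    have e : ((q : ℤ) ^ 2 - 1) * D = (y * q * q + 1) * k := by rw [hk]; linear_combination hT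
    linear_combination ((q : ℤ) ^ 2 - 1) * hc - P * hK' + c * e⟩
  have hco : IsCoprime k (q : ℤ) := ⟨1, q + 1 - y * q * q, by rw [hk]; ring⟩
  have h3 := (hco.pow_right (n := 2 * (i + 1) + 1)).dvd_of_dvd_mul_right (hP ▸ h2)
  have h4 := dvd_replace h3 (g := (q : ℤ) * (q + 1)) (x := -1) (y := 1) (by rw [hk]; ring)
  rw [← mul_assoc, mul_comm _ ((q : ℤ) + 1), ← mul_assoc] at h4
  have h5 := hco.dvd_of_dvd_mul_right h4
  rw [mul_comm ((q : ℤ) + 1), mul_assoc, mul_comm (y * q * q - 1), ← mul_assoc] at h5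
  have h6 := dvd_replace h5 (g := (q : ℤ) ^ 2 - 1) (x := -1) (y := (q : ℤ)) (by rw [hk]; ring)
  rw [mul_assoc, mul_comm] at h6
  have h7 := dvd_replace h6 (g := (q : ℤ) - 1) (x := -1) (y := (q : ℤ) ^ 2) (by rw [hk]; ring)
  have hy4 : (q : ℤ) ≤ y := hy ▸ le_self_pow₀ (by omega) (by omega)
  have h8 := Int.le_of_dvd (by
    refine mul_pos (mul_pos ?_ ?_) ?_ <;> nlinarith) h7
  rw [hk] at h8
  nlinarith [mul_le_mul_of_nonneg_left hy4 (sq_nonneg (q : ℤ)), mul_le_mul hqz hqz (by norm_num) (by omega)]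

theorem no_six {q j D K : ℕ} (hq : 4 ≤ q) (hj : 1 ≤ j) (hj3 : j ≤ 3) (hD : D + j = tt q 0 3)
    (hK : K * (q ^ 2 - 1) = n1 q 0 2 * n1 q 0 3)
    (h : (D : ℤ) ∣ (K : ℤ) * ((D : ℤ) - (q : ℤ) ^ 3)) : False := by
  have hqz : (4 : ℤ) ≤ q := by exact_mod_cast hq
  obtain ⟨T, hT⟩ : ∃ T, T = (q : ℤ) ^ 3 + (q : ℤ) ^ 2 + q - j := ⟨_, rfl⟩
  have hDT : (D : ℤ) = T := by
    have h' := tt_plus q (by omega) 3 (by omega)
    rw [← hD, Nat.cast_add] at h'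
    simp only [Nat.reduceSub] at h'
    refine mul_left_cancel₀ (show ((q : ℤ) ^ 2 - 1) ≠ 0 by nlinarith) ?_
    rw [hT]
    linear_combination h'
  have hK' : (K : ℤ) = ((q : ℤ) + 1) * ((q : ℤ) - 1) * ((q : ℤ) ^ 2 + q + 1) * ((q : ℤ) ^ 2 + 1) := by
    have h' := congrArg (fun n : ℕ => (n : ℤ)) hK
    push_cast [Nat.cast_sub (Nat.one_le_pow 2 q (by omega)), n1_cast q 0 _ (show 1 ≤ q by omega)] at h'
    refine mul_left_cancel₀ (show ((q : ℤ) ^ 2 - 1) ≠ 0 by nlinarith) ?_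
    linear_combination h'
  rw [hDT] at h
  have h1 : T ∣ (K : ℤ) * (q : ℤ) ^ 3 := by
    have := dvd_sub (dvd_mul_left T (K : ℤ)) h
    rwa [← mul_sub, sub_sub_cancel] at this
  rw [hK'] at h1
  -- bring the modulus to a constant
  have h2 : T ∣ (q : ℤ) ^ 3 * ((q : ℤ) + 1) * ((q : ℤ) - 1) * ((q : ℤ) ^ 2 + q + 1) * ((q : ℤ) ^ 2 + 1) := by
    rw [show (q : ℤ) ^ 3 * ((q : ℤ) + 1) * ((q : ℤ) - 1) * ((q : ℤ) ^ 2 + q + 1) * ((q : ℤ) ^ 2 + 1) =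
      ((q : ℤ) + 1) * ((q : ℤ) - 1) * ((q : ℤ) ^ 2 + q + 1) * ((q : ℤ) ^ 2 + 1) * (q : ℤ) ^ 3 by ring]
    exact h1
  have h3 := dvd_replace h2 (g := (j : ℤ) + 1) (x := -1) (y := (q : ℤ) + 1) (by rw [hT]; ring)
  rw [mul_right_comm] at h3
  have h4 := dvd_replace h3 (g := (j : ℤ)) (x := -1) (y := (q : ℤ)) (by rw [hT]; ring)
  rw [mul_right_comm, mul_right_comm _ ((q : ℤ) - 1), mul_right_comm ((q : ℤ) ^ 3)] at h4
  rcases (show j = 1 ∨ j = 2 ∨ j = 3 by omega) with rfl | rfl | rfl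
  · have h5 : T ∣ (q : ℤ) ^ 3 * ((q : ℤ) - 1) * (1 * 2) * ((q : ℤ) + 1) := by
      convert h4 using 1; push_cast; ring
    have h6 := dvd_replace h5 (g := 2) (x := -1) (y := (q : ℤ) ^ 2 + 1) (by rw [hT]; push_cast; ring)
    have h7 : T ∣ (q : ℤ) ^ 3 * (1 * 2 * 2) * ((q : ℤ) - 1) := by convert h6 using 1; ring
    have h8 := dvd_replace h7 (g := 2) (x := 1) (y := -((q : ℤ) ^ 2 + 2 * q + 3)) (by rw [hT]; push_cast; ring)
    have hco : IsCoprime T (q : ℤ) := ⟨-1, (q : ℤ) ^ 2 + q + 1, by rw [hT]; push_cast; ring⟩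
    have h9 : T ∣ 8 := (hco.pow_right (n := 3)).dvd_of_dvd_mul_left (show T ∣ (q : ℤ) ^ 3 * 8 from by convert h8 using 1; ring)
    have := Int.le_of_dvd (by norm_num) h9
    rw [hT] at this
    push_cast at this
    nlinarith
  · have h5 : T ∣ (q : ℤ) ^ 3 * (6 * ((q : ℤ) + 1)) * ((q : ℤ) - 1) := by convert h4 using 1; push_cast; ring
    have h6 := dvd_replace h5 (g := 1) (x := 1) (y := -((q : ℤ) ^ 2 + 2 * q + 3)) (by rw [hT]; push_cast; ring)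
    have h7 : T ∣ (q : ℤ) ^ 3 * 6 * ((q : ℤ) + 1) := by convert h6 using 1; ring
    have h8 := dvd_replace h7 (g := 3) (x := -1) (y := (q : ℤ) ^ 2 + 1) (by rw [hT]; push_cast; ring)
    have h9 : T ∣ (18 * (q : ℤ) ^ 2) * q := by convert h8 using 1; ring
    have h10 := dvd_replace h9 (g := 2) (x := -1) (y := (q : ℤ) ^ 2 + q + 1) (by rw [hT]; push_cast; ring)
    have h11 : T ∣ (36 * (q : ℤ)) * q := by convert h10 using 1; ring
    have h12 := dvd_replace h11 (g := 2) (x := -1) (y := (q : ℤ) ^ 2 + q + 1) (by rw [hT]; push_cast; ring)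
    have h13 : T ∣ 72 * (q : ℤ) := by convert h12 using 1; ring
    have h14 := dvd_replace h13 (g := 2) (x := -1) (y := (q : ℤ) ^ 2 + q + 1) (by rw [hT]; push_cast; ring)
    have := Int.le_of_dvd (by norm_num) h14
    rw [hT] at this h14
    push_cast at this h14
    rcases (show q = 4 ∨ q = 5 ∨ 6 ≤ q by omega) with rfl | rfl | h6
    · norm_num at h14
    · norm_num at h14
    · have : (6 : ℤ) ≤ q := by exact_mod_cast h6
      nlinarith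
  · have hTf : T = ((q : ℤ) - 1) * ((q : ℤ) ^ 2 + 2 * q + 3) := by rw [hT]; push_cast; ring
    have h5 : ((q : ℤ) - 1) * ((q : ℤ) ^ 2 + 2 * q + 3) ∣ ((q : ℤ) - 1) * (12 * (q : ℤ) ^ 3 * ((q : ℤ) + 1)) := by
      rw [← hTf]
      convert h4 using 1; push_cast; ring
    have h6 := (mul_dvd_mul_iff_left (show ((q : ℤ) - 1) ≠ 0 by omega)).1 h5
    have h7 := dvd_replace h6 (g := 2) (x := 1) (y := -((q : ℤ) + 1)) (by ring)
    have h8 : (q : ℤ) ^ 2 + 2 * q + 3 ∣ (24 * (q : ℤ) ^ 2) * q := by convert h7 using 1; ring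
    have h9 := dvd_replace h8 (g := 3) (x := 1) (y := -((q : ℤ) + 2)) (by ring)
    have h10 : (q : ℤ) ^ 2 + 2 * q + 3 ∣ (72 * (q : ℤ)) * q := by convert h9 using 1; ring
    have h11 := dvd_replace h10 (g := 3) (x := 1) (y := -((q : ℤ) + 2)) (by ring)
    have h12 : (q : ℤ) ^ 2 + 2 * q + 3 ∣ 216 * (q : ℤ) := by convert h11 using 1; ring
    have h13 := dvd_replace h12 (g := 3) (x := 1) (y := -((q : ℤ) + 2)) (by ring)
    have hle := Int.le_of_dvd (by norm_num) h13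
    have hq24 : q ≤ 24 := by
      by_contra hgt
      have : (25 : ℤ) ≤ q := by exact_mod_cast (by omega : 25 ≤ q)
      nlinarith
    rw [hT] at h1
    interval_cases q <;> norm_num at h1

end Cfsg.Agent.Char.OmegaDeg
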