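import Cfsg.Agent.Lib.Char.OmegaDeg.Fix

/-!
# A small fixed space over two pairs

With two pairs in the smaller space the fixed space has at least `2 (q - 1)` dimensions unless a Siegel
element of a totally singular plane is trivial on it.
-/

set_option autoImplicit false
set_option linter.unusedSectionVars false
set_option linter.style.haveILetI false

universe u

namespace Cfsg.Agent.Char.OmegaDeg

open Module QuadraticMap Cfsg.Agent.Classical Cfsg.Agent.Classical.OCount
open Cfsg.Agent.Small.OMinIndex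

variable {F : Type u} [Field F] [Fintype F] {V : Type u} [AddCommGroup V] [Module F V] [FiniteDimensional F V]
  {Q : QuadraticForm F V}

theorem exists_small_fix (hq : 4 ≤ Fintype.card F) {U : Submodule F V} {a f : V} {M : Type} [AddCommGroup M]
    [Module ℂ M] [FiniteDimensional ℂ M] {ρ : Representation ℂ (fixGrp Q U) M} {ψ : AddChar F ℂ}
    (L : Lv Q U a f 2 0) (hψ : ψ ≠ 1) (hsmall : mult ρ ψ a (lev Q U a f) 0 < 2 * (Fintype.card F - 1)) :
    ∃ b u, b ∈ lev Q U a f ∧ u ∈ lev Q U a f ∧ Q b = 0 ∧ Q u = 0 ∧ polar Q b u = 0 ∧ b ≠ 0 ∧ u ∉ F ∙ b ∧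
      ρ (el (fixGrp Q U) (E b u : Om Q)) * wt ρ ψ a (lev Q U a f) 0 = wt ρ ψ a (lev Q U a f) 0 := by
  classical
  haveI : Finite V := Module.finite_of_finite F
  haveI := Fintype.ofFinite V
  obtain ⟨b, b', u, u', hFr⟩ := exists_frame2 L.shW le_rfl
  obtain ⟨hQb, hQu, hbu, hb0, hub⟩ := hFr.sing
  have hsh2 : Sh Q (lev Q (lev Q U a f) b b') 1 0 := by simpa using L.shW.lev hFr.hb hFr.hb' hFr.hp
  obtain ⟨W2, hW2⟩ : ∃ W2, W2 = lev Q (lev Q U a f) b b' := ⟨_, rfl⟩
  obtain ⟨e₀, he₀⟩ : ∃ e₀, e₀ = wt ρ ψ a (lev Q U a f) 0 := ⟨_, rfl⟩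
  -- the subgroup commuting with the projector
  obtain ⟨H, hH⟩ : ∃ H : Subgroup (Om Q), ∀ g, g ∈ H ↔ g ∈ fixGrp Q U ∧ Commute (ρ (el (fixGrp Q U) g)) e₀ :=
    ⟨{ carrier := {g | g ∈ fixGrp Q U ∧ Commute (ρ (el (fixGrp Q U) g)) e₀}
       one_mem' := ⟨one_mem _, by rw [el_one, map_one]; exact Commute.one_left _⟩
       mul_mem' := fun {g h} hg hh => ⟨mul_mem hg.1 hh.1, by
         rw [el_mul hg.1 hh.1, map_mul]; exact hg.2.mul_left hh.2⟩
       inv_mem' := fun {g} hg => ⟨inv_mem hg.1, commute_inv hg.1 hg.2⟩ }, fun g => Iff.rfl⟩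
  have hle : H ≤ fixGrp Q U := fun g hg => ((hH g).1 hg).1
  have hmemH : ∀ g ∈ fixGrp Q U, ∀ {s : F}, s ≠ 0 → g • a = s • a → g • f = s⁻¹ • f → g ∈ H := by
    intro g hg s hs e1 e2
    exact (hH g).2 ⟨hg, he₀ ▸ commute_weight L hg hs e1 e2 (by rw [smul_zero', smul_zero])⟩
  have hWH : ∀ g ∈ fixGrp Q (lev Q U a f), g ∈ H := fun g hg => (hH g).2
    ⟨fixGrp_mono (lev_le U a f) hg, he₀ ▸ lev_commute L hψ hg⟩
  obtain ⟨σ, hσ⟩ : ∃ σ : Representation ℂ H (LinearMap.range e₀), ∀ g ∈ H, ∀ v,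
      ((σ (el H g) v : LinearMap.range e₀) : M) = ρ (el (fixGrp Q U) g) v.1 :=
    ⟨restrictRep hle ρ _ fun g hg => by
        rintro _ ⟨w, rfl⟩
        exact ⟨ρ (el (fixGrp Q U) g) w, (LinearMap.congr_fun ((hH g).1 hg).2.eq w).symm⟩,
      fun g hg v => restrictRep_apply _ _ _ _ hg v⟩
  have hdim : finrank ℂ (LinearMap.range e₀) < 2 * (Fintype.card F - 1) := by rw [he₀]; exact hsmall
  have hbW := hFr.hb
  obtain ⟨hbU, hab, hfb⟩ := mem_lev.1 hbW
  obtain ⟨hb'U, hab', hfb'⟩ := mem_lev.1 hFr.hb'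
  have hfr : Fr Q H b W2 := by
    refine ⟨L.space, hQb, fun w hw => ?_, hW2 ▸ hsh2.nd, fun w hw => ?_⟩
    · rw [hW2] at hw; exact (mem_lev.1 hw).2.1
    · rw [hW2] at hw
      exact hWH _ (E_mem L.space hQb hbW (mem_lev.1 hw).1 (mem_lev.1 hw).2.1)
  obtain ⟨huW, hbu', hb'u⟩ := mem_lev.1 hFr.hu
  obtain ⟨hu'W, hbu'', hb'u'⟩ := mem_lev.1 hFr.hu'
  obtain ⟨huU, hau, hfu⟩ := mem_lev.1 huW
  obtain ⟨hu'U, hau', hfu'⟩ := mem_lev.1 hu'W
  have hu2 : u ∈ W2 := hW2 ▸ hFr.hu
  have hu'2 : u' ∈ W2 := hW2 ▸ hFr.hu'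
  have hQu' : Q u' = 0 := hFr.hr.2.1
  have huu : polar Q u u' = 1 := hFr.hr.2.2
  have hsplit : ∀ y ∈ W2, y = polar Q u' y • u + polar Q u y • u' := by
    intro y hy
    rw [hW2] at hy
    have h0 := lev_proj hFr.hu hFr.hu' hFr.hr hy
    have hsh0 : Sh Q (lev Q (lev Q (lev Q U a f) b b') u u') 0 0 := by simpa using hsh2.lev hFr.hu hFr.hu' hFr.hr
    have : lev Q (lev Q (lev Q U a f) b b') u u' = ⊥ := Submodule.finrank_eq_zero.1 (by rw [hsh0.dim])
    rw [this, Submodule.mem_bot, sub_sub, sub_eq_zero] at h0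
    exact h0
  -- the invariance of the multiplicities
  obtain ⟨k, hk⟩ : ∃ k : V → ℕ, k = fun y => mult σ ψ b W2 y := ⟨_, rfl⟩
  have hmove : ∀ {μ r : F}, μ ≠ 0 → r ≠ 0 → ∀ α β : F,
      k ((r⁻¹ * μ * α) • u + (r⁻¹ * μ⁻¹ * β) • u') = k (α • u + β • u') := by
    intro μ r hμ hr α β
    obtain ⟨g1, hg1, a1, f1, u1, u1', x1⟩ := exists_scale_two (U := U) L.space L.ha L.hf huU hu'U L.hp hFr.hr
      (mem_comp.2 ⟨hau, hfu⟩) (mem_comp.2 ⟨hau', hfu'⟩) hμ
    obtain ⟨g2, hg2, a2, f2, b2, b2', x2⟩ := exists_scale_two (U := U) L.space L.ha L.hf hbU hb'U L.hp hFr.hp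
      (mem_comp.2 ⟨hab, hfb⟩) (mem_comp.2 ⟨hab', hfb'⟩) hr
    have eb1 : g1 • b = b := x1 b hab hfb (by rw [polar_comm]; exact hbu)
      (by rw [polar_comm]; exact hbu'')
    have eu2 : g2 • u = u := x2 u hau hfu hbu hb'u
    have eu2' : g2 • u' = u' := x2 u' hau' hfu' hbu'' hb'u'
    have ea : (g2 * g1) • a = (μ * r) • a := by rw [mul_smul, a1, smul_scalar, a2, smul_smul]
    have ef : (g2 * g1) • f = (μ * r)⁻¹ • f := by rw [mul_smul, f1, smul_scalar, f2, smul_smul, mul_inv]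
    have eb : (g2 * g1) • b = r • b := by rw [mul_smul, eb1, b2]
    have hgH : g2 * g1 ∈ H := hmemH _ (mul_mem hg2 hg1) (mul_ne_zero hμ hr) ea ef
    have himg : ∀ α β : F, (g2 * g1) • (α • u + β • u') = (μ * α) • u + (μ⁻¹ * β) • u' := fun α β => by
      rw [smul_add, smul_scalar, smul_scalar, mul_smul, mul_smul, u1, u1', smul_scalar, smul_scalar, eu2, eu2',
        smul_smul, smul_smul, mul_comm α, mul_comm β]
    have hgW : ∀ w ∈ W2, (g2 * g1) • w ∈ W2 := fun w hw => by
      rw [hsplit w hw, himg]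
      exact W2.add_mem (W2.smul_mem _ hu2) (W2.smul_mem _ hu'2)
    have h := mult_move (ρ := σ) hfr hψ hgH hr eb hgW (W2.add_mem (W2.smul_mem α hu2) (W2.smul_mem β hu'2))
    rw [himg, smul_add, smul_smul, smul_smul, ← mul_assoc, ← mul_assoc] at h
    rw [hk]; exact h
  have hsum : ∀ S : Finset W2, (∀ y ∈ S, k (y : V) ≠ 0) → S.card ≤ finrank ℂ (LinearMap.range e₀) := by
    intro S hS
    rw [finrank_eq_sum (ρ := σ) hfr hψ]
    refine le_trans ?_ (Finset.sum_le_sum_of_subset (Finset.subset_univ S))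
    rw [Finset.card_eq_sum_ones]
    exact Finset.sum_le_sum fun y hy => by
      have := hS y hy
      rw [hk] at this
      exact Nat.one_le_iff_ne_zero.2 this
  have hcoord : ∀ {α β α' β' : F}, α • u + β • u' = α' • u + β' • u' → α = α' ∧ β = β' := by
    intro α β α' β' h
    have hu'u : polar Q u' u = 1 := by rw [polar_comm]; exact huu
    refine ⟨?_, ?_⟩
    · have h1 := congrArg (polar Q u') h
      simp only [polar_add_right, polar_smul_right, hu'u, polar_self_zero hQu', smul_zero, add_zero, smul_eq_mul,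
        mul_one] at h1
      simpa using h1
    · have h1 := congrArg (polar Q u) h
      simp only [polar_add_right, polar_smul_right, huu, polar_self_zero hQu, smul_zero, zero_add, smul_eq_mul,
        mul_one] at h1
      simpa using h1
  have hU0 : (Finset.univ.filter fun t : F => t ≠ 0).card = Fintype.card F - 1 := by
    rw [Finset.filter_ne', Finset.card_erase_of_mem (Finset.mem_univ _), Finset.card_univ]
  -- no weight off the two axes
  have hoff : ∀ α β : F, α ≠ 0 → β ≠ 0 → k (α • u + β • u') = 0 := by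
    intro α β hα hβ
    by_contra hne
    obtain ⟨P, hP⟩ : ∃ P, P = (Finset.univ.filter fun t : F => t ≠ 0) ×ˢ (Finset.univ.filter fun t : F => t ≠ 0) :=
      ⟨_, rfl⟩
    let Φ : F × F → W2 := fun p =>
      ⟨(p.1⁻¹ * p.2 * α) • u + (p.1⁻¹ * p.2⁻¹ * β) • u', W2.add_mem (W2.smul_mem _ hu2) (W2.smul_mem _ hu'2)⟩
    have himg := hsum (P.image Φ) fun y hy => by
      obtain ⟨p, hp, rfl⟩ := Finset.mem_image.1 hy
      rw [hP, Finset.mem_product, Finset.mem_filter, Finset.mem_filter] at hp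
      show k ((p.1⁻¹ * p.2 * α) • u + (p.1⁻¹ * p.2⁻¹ * β) • u') ≠ 0
      rw [hmove hp.2.2 hp.1.2]
      exact hne
    have hfib : P.card ≤ Nat.card {t : F // t * t = 1} * (P.image Φ).card := by
      rw [Nat.card_eq_fintype_card, Fintype.card_subtype]
      refine Finset.card_le_mul_card_image _ _ fun v hv => ?_
      obtain ⟨p₀, hp₀, rfl⟩ := Finset.mem_image.1 hv
      rw [hP, Finset.mem_product, Finset.mem_filter, Finset.mem_filter] at hp₀
      refine Finset.card_le_card_of_injOn (fun p => p.1 / p₀.1) (fun p hp => ?_) (fun p hp p' hp' he => ?_)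
      · obtain ⟨hpP, hpe⟩ := Finset.mem_filter.1 hp
        rw [hP, Finset.mem_product, Finset.mem_filter, Finset.mem_filter] at hpP
        obtain ⟨h1, h2⟩ := hcoord (congrArg Subtype.val hpe)
        simp only [Finset.coe_filter, Finset.mem_univ, true_and, Set.mem_ofPred_eq]
        have := mul_left_cancel₀ (mul_ne_zero hα hβ) (show α * β * (p.1⁻¹ * p.1⁻¹) = α * β * (p₀.1⁻¹ * p₀.1⁻¹) by
          have h3 := congrArg₂ (· * ·) h1 h2
          linear_combination h3 - (α * β * p.1⁻¹ * p.1⁻¹) * mul_inv_cancel₀ hpP.2.2 +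
            (α * β * p₀.1⁻¹ * p₀.1⁻¹) * mul_inv_cancel₀ hp₀.2.2)
        field_simp [hpP.1.2, hp₀.1.2] at this ⊢
        linear_combination -this
      · obtain ⟨hpP, hpe⟩ := Finset.mem_filter.1 hp
        obtain ⟨hpP', hpe'⟩ := Finset.mem_filter.1 hp'
        rw [hP, Finset.mem_product, Finset.mem_filter, Finset.mem_filter] at hpP hpP'
        have e1 : p.1 = p'.1 := (div_left_inj' hp₀.1.2).1 he
        obtain ⟨h1, -⟩ := hcoord (congrArg Subtype.val (hpe.trans hpe'.symm))
        rw [e1] at h1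
        exact Prod.ext e1 (mul_left_cancel₀ (inv_ne_zero hpP'.1.2) (mul_right_cancel₀ hα h1))
    have hP' : P.card = (Fintype.card F - 1) * (Fintype.card F - 1) := by rw [hP, Finset.card_product, hU0]
    obtain ⟨hs2, hs1⟩ := card_sqrt_one (F := F)
    rcases (show Fintype.card F = 4 ∨ 5 ≤ Fintype.card F by omega) with h4 | h5
    · have h2 : (2 : F) = 0 := mul_self_eq_zero.1 (by
        have h0 := Nat.cast_card_eq_zero F
        rw [h4] at h0
        push_cast at h0
        linear_combination h0)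
      have := hs1 h2
      rw [h4] at hP' hdim
      nlinarith
    · obtain ⟨m, hm⟩ : ∃ m, Fintype.card F - 1 = m := ⟨_, rfl⟩
      rw [hm] at hP' hdim
      have h4m : 4 ≤ m := by omega
      nlinarith
  -- one of the axes carries no weight
  have haxes : (∀ α : F, α ≠ 0 → k (α • u) = 0) ∨ ∀ β : F, β ≠ 0 → k (β • u') = 0 := by
    by_contra hc
    push Not at hc
    obtain ⟨⟨α, hα, hkα⟩, β, hβ, hkβ⟩ := hc
    let Φ : F ⊕ F → W2 := Sum.elim (fun μ => ⟨(μ * α) • u, W2.smul_mem _ hu2⟩)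
      (fun μ => ⟨(μ⁻¹ * β) • u', W2.smul_mem _ hu'2⟩)
    have himg := hsum (((Finset.univ.filter fun t : F => t ≠ 0).disjSum
      (Finset.univ.filter fun t : F => t ≠ 0)).image Φ) fun y hy => by
      obtain ⟨p, hp, rfl⟩ := Finset.mem_image.1 hy
      rcases p with μ | μ
      · rw [Finset.inl_mem_disjSum, Finset.mem_filter] at hp
        show k ((μ * α) • u) ≠ 0
        have := hmove hp.2 one_ne_zero α 0
        rw [inv_one, one_mul, mul_zero, zero_smul, add_zero, add_zero] at this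
        rw [this]; exact hkα
      · rw [Finset.inr_mem_disjSum, Finset.mem_filter] at hp
        show k ((μ⁻¹ * β) • u') ≠ 0
        have := hmove hp.2 one_ne_zero 0 β
        rw [inv_one, one_mul, mul_zero, zero_smul, zero_add, zero_add, one_mul] at this
        rw [this]; exact hkβ
    rw [Finset.card_image_of_injOn, Finset.card_disjSum, hU0] at himg
    · omega
    · intro p hp p' hp' he
      have he' := congrArg Subtype.val he
      rcases p with μ | μ <;> rcases p' with ν | ν <;>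
        simp only [Finset.mem_coe, Finset.inl_mem_disjSum, Finset.inr_mem_disjSum, Finset.mem_filter] at hp hp' <;>
        simp only [Φ, Sum.elim_inl, Sum.elim_inr] at he'
      · obtain ⟨e1, -⟩ := hcoord (α := μ * α) (β := 0) (α' := ν * α) (β' := 0) (by rw [zero_smul, add_zero, add_zero]; exact he')
        rw [mul_right_cancel₀ hα e1]
      · obtain ⟨e1, -⟩ := hcoord (α := μ * α) (β := 0) (α' := 0) (β' := ν⁻¹ * β) (by rw [zero_smul, zero_smul, add_zero, zero_add]; exact he')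
        exact absurd e1 (mul_ne_zero hp.2 hα)
      · obtain ⟨e1, -⟩ := hcoord (α := 0) (β := μ⁻¹ * β) (α' := ν * α) (β' := 0) (by rw [zero_smul, zero_smul, add_zero, zero_add]; exact he')
        exact absurd e1.symm (mul_ne_zero hp'.2 hα)
      · obtain ⟨-, e1⟩ := hcoord (α := 0) (β := μ⁻¹ * β) (α' := 0) (β' := ν⁻¹ * β) (by rw [zero_smul, zero_add, zero_add]; exact he')
        rw [inv_inj.1 (mul_right_cancel₀ hβ e1)]
  -- the element along the axis without weights
  have hfin : ∀ (x : V), x ∈ W2 → Q x = 0 → (∀ y : W2, k (y : V) ≠ 0 → (y : V) = 0 ∨ polar Q x (y : V) = 0) →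
      ρ (el (fixGrp Q U) (E b x : Om Q)) * e₀ = e₀ := by
    intro x hx hQx hker
    have hm := hfr.mem x hx
    have hone : opA σ b x = 1 := by
      rw [opA_eq_sum hfr hψ hx, ← sum_wt (ρ := σ) hfr hψ]
      refine Finset.sum_congr rfl fun y _ => ?_
      by_cases hky : k (y : V) = 0
      · rw [hk] at hky
        rw [wt_eq_zero hfr hky, smul_zero]
      · rcases hker y hky with h | h
        · rw [h, polar_zero_right, AddChar.map_zero_eq_one, one_smul]
        · rw [h, AddChar.map_zero_eq_one, one_smul]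
    refine LinearMap.ext fun v => ?_
    have h2 := congrArg Subtype.val (LinearMap.congr_fun hone ⟨_, LinearMap.mem_range_self e₀ v⟩)
    rw [opA, hσ _ hm] at h2
    exact h2
  have hub' : u' ∉ F ∙ b := fun e => one_ne_zero (α := F) (by
    obtain ⟨t, ht⟩ := Submodule.mem_span_singleton.1 e
    rw [← huu, ← ht, polar_smul_right, polar_comm, hbu, smul_zero])
  have hcases : ∀ y : W2, k (y : V) ≠ 0 → polar Q u' (y : V) = 0 ∨ polar Q u (y : V) = 0 := fun y hy => by
    by_contra hc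
    push Not at hc
    rw [hsplit _ y.2] at hy
    exact hy (hoff _ _ hc.1 hc.2)
  rcases haxes with hz | hz
  · refine ⟨b, u', hbW, hu'W, hQb, hQu', hbu'', hb0, hub', he₀ ▸ hfin u' hu'2 hQu' fun y hy => Or.inr ?_⟩
    rcases hcases y hy with h | h
    · exact h
    · by_contra hne
      refine hy ?_
      rw [hsplit _ y.2, h, zero_smul, add_zero]
      exact hz _ hne
  · refine ⟨b, u, hbW, huW, hQb, hQu, hbu, hb0, hub, he₀ ▸ hfin u hu2 hQu fun y hy => Or.inr ?_⟩
    rcases hcases y hy with h | h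
    · by_contra hne
      refine hy ?_
      rw [hsplit _ y.2, h, zero_smul, zero_add]
      exact hz _ hne
    · exact h

end Cfsg.Agent.Char.OmegaDeg
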