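import Cfsg.Agent.Lib.Char.OmegaDeg.Reduce

/-!
# Siegel elements fixing a weight of multiplicity one
-/

set_option autoImplicit false
set_option linter.unusedSectionVars false
set_option linter.style.haveILetI false

universe u

namespace Cfsg.Agent.Char.OmegaDeg

open Module QuadraticMap Cfsg.Agent.Classical Cfsg.Agent.Classical.OCount
open Cfsg.Agent.Small.OMinIndex

variable {F : Type u} [Field F] [Fintype F] {V : Type u} [AddCommGroup V] [Module F V] [FiniteDimensional F V]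
  {Q : QuadraticForm F V}

theorem exists_sing_vec {W : Submodule F V} {j e : ℕ} (h : Sh Q W j e) (hj : 1 ≤ j) :
    ∃ x ∈ W, x ≠ 0 ∧ Q x = 0 := by
  haveI : Finite V := Module.finite_of_finite F
  have hq := Fintype.one_lt_card (α := F)
  have h1 := h.card_sing
  have h2 : 0 < (Fintype.card F ^ j - 1) * (Fintype.card F ^ (j - 1 + e) + 1) :=
    Nat.mul_pos (by have := Nat.one_lt_pow (n := j) (by omega) hq; omega) (Nat.succ_pos _)
  obtain ⟨⟨x, hx⟩⟩ := (Nat.card_pos_iff.1 (h1 ▸ h2)).1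
  exact ⟨x, hx.1, hx.2.1, hx.2.2⟩

theorem partner_in {W : Submodule F V} (hW : NonDeg Q W) {x : V} (hx : x ∈ W) (hx0 : x ≠ 0) (hQx : Q x = 0) :
    ∃ y ∈ W, IsHPair Q (x, y) :=
  exists_partner_in hx hQx (by
    by_contra! hc
    exact hx0 (hW x hx hc))

/-- A singular partner orthogonal to given vectors. -/
theorem partner_perp {W : Submodule F V} (hW : NonDeg Q W) {S : Submodule F V} (hS : S ≤ W) {x : V} (hx : x ∈ W)
    (hQx : Q x = 0) (hxS : x ∉ S) (hSx : ∀ s ∈ S, polar Q x s = 0) :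
    ∃ y ∈ W, IsHPair Q (x, y) ∧ ∀ s ∈ S, polar Q y s = 0 := by
  obtain ⟨z, hz, hzS, hzx⟩ := exists_sep_in hW hS hx hxS 1
  refine ⟨z - Q z • x, W.sub_mem hz (W.smul_mem _ hx), ⟨hQx, ?_, ?_⟩, fun s hs => ?_⟩
  · change Q (z - Q z • x) = 0
    rw [ORefl.map_sub_two, QuadraticMap.map_smul, hQx, polar_smul_right, hzx]; simp
  · change polar Q x (z - Q z • x) = 1
    rw [polar_sub_right, polar_comm Q x z, hzx, polar_smul_right, polar_self_zero hQx, smul_zero, sub_zero]
  · rw [polar_sub_left, polar_smul_left, hzS s hs, hSx s hs, smul_zero, sub_zero]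

/-- Two orthogonal pairs. -/
structure Frame2 (Q : QuadraticForm F V) (W : Submodule F V) (b b' u u' : V) : Prop where
  hb : b ∈ W
  hb' : b' ∈ W
  hp : IsHPair Q (b, b')
  hu : u ∈ lev Q W b b'
  hu' : u' ∈ lev Q W b b'
  hr : IsHPair Q (u, u')

theorem Frame2.sing {W : Submodule F V} {b b' u u' : V} (h : Frame2 Q W b b' u u') :
    Q b = 0 ∧ Q u = 0 ∧ polar Q b u = 0 ∧ b ≠ 0 ∧ u ∉ F ∙ b := by
  obtain ⟨-, h1, h2⟩ := mem_lev.1 h.hu
  refine ⟨h.hp.1, h.hr.1, h1, fun e => one_ne_zero (α := F) ?_, fun e => one_ne_zero (α := F) ?_⟩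
  · rw [← show polar Q b b' = 1 from h.hp.2.2, e, polar_zero_left]
  · obtain ⟨t, ht⟩ := Submodule.mem_span_singleton.1 e
    rw [← show polar Q u u' = 1 from h.hr.2.2, ← ht, polar_smul_left, (mem_lev.1 h.hu').2.1, smul_zero]

theorem exists_frame2 {W : Submodule F V} {j e : ℕ} (h : Sh Q W j e) (hj : 2 ≤ j) :
    ∃ b b' u u', Frame2 Q W b b' u u' := by
  obtain ⟨b, hb, hb0, hQb⟩ := exists_sing_vec h (by omega)
  obtain ⟨b', hb', hp⟩ := partner_in h.nd hb hb0 hQb
  have h2 := h.lev hb hb' hp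
  obtain ⟨u, hu, hu0, hQu⟩ := exists_sing_vec h2 (by omega)
  obtain ⟨u', hu', hr⟩ := partner_in h2.nd hu hu0 hQu
  exact ⟨b, b', u, u', hb, hb', hp, hu, hu', hr⟩

/-- Completing three independent orthogonal singular vectors. -/
theorem exists_frame_perp {W : Submodule F V} (hW : NonDeg Q W) {b u η : V} (hb : b ∈ W) (hu : u ∈ W) (hη : η ∈ W)
    (hQb : Q b = 0) (hQu : Q u = 0) (hbu : polar Q b u = 0) (hbη : polar Q b η = 0) (huη : polar Q u η = 0)
    (hb0 : b ≠ 0) (hub : u ∉ F ∙ b) (hspan : η ∉ Submodule.span F ({b, u} : Set V)) :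
    ∃ b' u', Frame2 Q W b b' u u' ∧ η ∈ lev Q (lev Q W b b') u u' := by
  have hbS : b ∉ Submodule.span F ({u, η} : Set V) := fun h => by
    obtain ⟨s, t, hst⟩ := Submodule.mem_span_pair.1 h
    by_cases ht : t = 0
    · rw [ht, zero_smul, add_zero] at hst
      have hs : s ≠ 0 := fun e => hb0 (by rw [← hst, e, zero_smul])
      exact hub (Submodule.mem_span_singleton.2 ⟨s⁻¹, by rw [← hst, smul_smul, inv_mul_cancel₀ hs, one_smul]⟩)
    · refine hspan (Submodule.mem_span_pair.2 ⟨t⁻¹, -(t⁻¹ * s), ?_⟩)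
      rw [← hst, smul_add, smul_smul, smul_smul, inv_mul_cancel₀ ht, one_smul, neg_smul]
      abel
  have hperp : ∀ (x : V), polar Q x u = 0 → polar Q x η = 0 →
      ∀ s ∈ Submodule.span F ({u, η} : Set V), polar Q x s = 0 := fun x h1 h2 s hs => by
    obtain ⟨c, d, rfl⟩ := Submodule.mem_span_pair.1 hs
    rw [polar_add_right, polar_smul_right, polar_smul_right, h1, h2, smul_zero, smul_zero, add_zero]
  obtain ⟨b', hb', hp, hb'S⟩ := partner_perp hW
    (Submodule.span_le.2 (Set.insert_subset hu (Set.singleton_subset_iff.2 hη))) hb hQb hbS (hperp b hbu hbη)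
  have hb'u : polar Q b' u = 0 := hb'S u (Submodule.subset_span (Set.mem_insert _ _))
  have hb'η : polar Q b' η = 0 := hb'S η (Submodule.subset_span (Set.mem_insert_of_mem _ rfl))
  have huW : u ∈ lev Q W b b' := mem_lev.2 ⟨hu, hbu, hb'u⟩
  have hηW : η ∈ lev Q W b b' := mem_lev.2 ⟨hη, hbη, hb'η⟩
  have huS : u ∉ F ∙ η := fun h => by
    obtain ⟨t, ht⟩ := Submodule.mem_span_singleton.1 h
    have ht0 : t ≠ 0 := fun e => hub (by rw [← ht, e, zero_smul]; exact zero_mem _)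
    exact hspan (Submodule.mem_span_pair.2 ⟨0, t⁻¹, by
      rw [← ht, zero_smul, zero_add, smul_smul, inv_mul_cancel₀ ht0, one_smul]⟩)
  obtain ⟨u', hu', hr, hu'S⟩ := partner_perp (nonDeg_lev hW hb hb' hp)
    ((Submodule.span_singleton_le_iff_mem η _).2 hηW) huW hQu huS (fun s hs => by
      obtain ⟨t, rfl⟩ := Submodule.mem_span_singleton.1 hs
      rw [polar_smul_right, huη, smul_zero])
  exact ⟨b', u', ⟨hb, hb', hp, huW, hu', hr⟩,
    mem_lev.2 ⟨hηW, huη, hu'S η (Submodule.mem_span_singleton_self η)⟩⟩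

/-- In a space with two pairs singular vectors orthogonal to a totally singular plane lie in it. -/
theorem mem_span_of_two {W : Submodule F V} {e : ℕ} (h : Sh Q W 2 e) {b u η : V} (hb : b ∈ W) (hu : u ∈ W)
    (hη : η ∈ W) (hQb : Q b = 0) (hQu : Q u = 0) (hQη : Q η = 0) (hbu : polar Q b u = 0) (hbη : polar Q b η = 0)
    (huη : polar Q u η = 0) (hb0 : b ≠ 0) (hub : u ∉ F ∙ b) : η ∈ Submodule.span F ({b, u} : Set V) := by
  by_contra hspan
  obtain ⟨b', u', hFr, hin⟩ := exists_frame_perp h.nd hb hu hη hQb hQu hbu hbη huη hb0 hub hspan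
  have h2 := (h.lev hb hFr.hb' hFr.hp).lev hFr.hu hFr.hu' hFr.hr
  have hη0 : η ≠ 0 := fun e => hspan (e ▸ zero_mem _)
  have := h2.pos hin hη0 hQη
  omega

theorem exists_ne_sq_one (hq : 4 ≤ Fintype.card F) : ∃ t : F, t ≠ 0 ∧ t ≠ 1 ∧ t ^ 2 ≠ 1 := by
  classical
  obtain ⟨t, -, ht⟩ := Finset.exists_mem_notMem_of_card_lt_card (s := ({0, 1, -1} : Finset F)) (t := Finset.univ)
    (lt_of_le_of_lt Finset.card_le_three (by rw [Finset.card_univ]; omega))
  simp only [Finset.mem_insert, Finset.mem_singleton, not_or] at ht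
  refine ⟨t, ht.1, ht.2.1, fun h => ?_⟩
  rcases mul_self_eq_one_iff.1 (show t * t = 1 by rw [← pow_two]; exact h) with h' | h'
  · exact ht.2.1 h'
  · exact ht.2.2 h'

variable {U : Submodule F V} {a f : V} {j e : ℕ} {M : Type*} [AddCommGroup M] [Module ℂ M]
  [FiniteDimensional ℂ M] {ρ : Representation ℂ (fixGrp Q U) M} {ψ : AddChar F ℂ} (L : Lv Q U a f j e) (hψ : ψ ≠ 1)
include L hψ

omit hψ in
theorem commute_weight {g : Om Q} (hg : g ∈ fixGrp Q U) {s : F} (hs : s ≠ 0) (ea : g • a = s • a)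
    (ef : g • f = s⁻¹ • f) {η : V} (hη : g • η = s • η) :
    Commute (ρ (el (fixGrp Q U) g)) (wt ρ ψ a (lev Q U a f) η) := by
  have h := conj_wt (ρ := ρ) (ψ := ψ) L.fr hg hs ea (fun w hw => L.smul_mem hg hs (inv_ne_zero hs) ea ef hw) η
  rwa [hη, smul_smul, inv_mul_cancel₀ hs, one_smul] at h

/-- Vectors `b`, `u` with room beside `η`. -/
theorem fix_commutator {η b u : V} (hη : η ∈ lev Q U a f) (h1 : mult ρ ψ a (lev Q U a f) η = 1)
    (hb : b ∈ lev Q U a f) (hu : u ∈ lev Q U a f) (hQb : Q b = 0) (hQu : Q u = 0) (hbu : polar Q b u = 0)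
    (hbη : polar Q b η = 0) (huη : polar Q u η = 0)
    (hroom : (η ∈ Submodule.span F ({b, u} : Set V) ∧ 5 ≤ finrank F (lev Q U a f)) ∨
      7 ≤ finrank F (lev Q U a f)) :
    ρ (el _ (E b u : Om Q)) * wt ρ ψ a (lev Q U a f) η = wt ρ ψ a (lev Q U a f) η := by
  obtain ⟨z, hz, z', hz', hzz, ⟨hbz, huz, hηz⟩, hbz', huz', hηz'⟩ := exists_commuting_pair L.shW.nd hb hu hη hroom
  have key : ∀ {x w : V}, x ∈ lev Q U a f → w ∈ lev Q U a f → Q x = 0 → polar Q x w = 0 → polar Q x η = 0 →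
      polar Q η w = 0 → (E x w : Om Q) ∈ fixGrp Q U ∧
        Commute (ρ (el (fixGrp Q U) (E x w : Om Q))) (wt ρ ψ a (lev Q U a f) η) := by
    intro x w hx hw hQx hxw hxη hwη
    obtain ⟨hxU, hxa, hxf⟩ := mem_lev.1 hx
    obtain ⟨hwU, hwa, hwf⟩ := mem_lev.1 hw
    have hm := E_mem L.space hQx hxU hwU hxw
    refine ⟨hm, commute_weight L hm one_ne_zero ?_ ?_ ?_⟩
    · rw [one_smul]; exact E_fix L.space hQx hxw (by rw [polar_comm]; exact hxa) (by rw [polar_comm]; exact hwa)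
    · rw [inv_one, one_smul]; exact E_fix L.space hQx hxw (by rw [polar_comm]; exact hxf) (by rw [polar_comm]; exact hwf)
    · rw [one_smul]; exact E_fix L.space hQx hxw hxη (by rw [polar_comm]; exact hwη)
  obtain ⟨m1, c1⟩ := key hb hz hQb hbz hbη hηz
  obtain ⟨m2, c2⟩ := key hu hz' hQu huz' huη hηz'
  rw [E_eq_commutator L.space hQb hQu hbu hzz hbz huz hbz' huz']
  exact comm_fix L.fr hψ hη h1 m1 m2 c1 c2

omit hψ in
theorem cancel_fix {x w w' : V} (hx : x ∈ U) (hw : w ∈ U) (hw' : w' ∈ U) (hQx : Q x = 0) (hxw : polar Q x w = 0)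
    (hxw' : polar Q x w' = 0) {P : Module.End ℂ M}
    (hc : Commute (ρ (el (fixGrp Q U) (E x w : Om Q))) P)
    (h : ρ (el _ (E x (w' + w) : Om Q)) * P = ρ (el _ (E x w : Om Q)) * P) :
    ρ (el _ (E x w' : Om Q)) * P = P := by
  have m := E_mem L.space hQx hx hw hxw
  rw [← E_mul L.space hQx hxw' hxw, el_mul (E_mem L.space hQx hx hw' hxw') m, map_mul, mul_assoc, hc.eq,
    ← mul_assoc] at h
  have h' : ρ (el _ (E x w : Om Q)) * ρ (el _ (E x w : Om Q)⁻¹) = 1 := by
    rw [← map_mul, el_inv m, mul_inv_cancel, map_one]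
  calc ρ (el _ (E x w' : Om Q)) * P
      = ρ (el _ (E x w' : Om Q)) * P * ρ (el _ (E x w : Om Q)) * ρ (el _ (E x w : Om Q)⁻¹) := by
        rw [mul_assoc _ (ρ (el _ (E x w : Om Q))), h', mul_one]
    _ = P := by rw [h, mul_assoc, h', mul_one]

/-- A torus moves `E b u` and fixes `η` outside the plane. -/
theorem fix_torus (hq : 4 ≤ Fintype.card F) {η b u : V} (hη : η ∈ lev Q U a f)
    (h1 : mult ρ ψ a (lev Q U a f) η = 1) (hb : b ∈ lev Q U a f) (hu : u ∈ lev Q U a f) (hQb : Q b = 0)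
    (hQu : Q u = 0) (hbu : polar Q b u = 0) (hbη : polar Q b η = 0) (huη : polar Q u η = 0) (hb0 : b ≠ 0)
    (hub : u ∉ F ∙ b) (hspan : η ∉ Submodule.span F ({b, u} : Set V)) :
    ρ (el _ (E b u : Om Q)) * wt ρ ψ a (lev Q U a f) η = wt ρ ψ a (lev Q U a f) η := by
  obtain ⟨b', u', hFr, hin⟩ := exists_frame_perp L.shW.nd hb hu hη hQb hQu hbu hbη huη hb0 hub hspan
  obtain ⟨⟨-, hηb, hηb'⟩, hηu, hηu'⟩ := (mem_lev.1 hin).imp_left mem_lev.1
  obtain ⟨huW, -, -⟩ := mem_lev.1 hFr.hu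
  obtain ⟨hu'W, hbu', hb'u'⟩ := mem_lev.1 hFr.hu'
  obtain ⟨hbU, hab, hfb⟩ := mem_lev.1 hb
  obtain ⟨huU, hau, hfu⟩ := mem_lev.1 hu
  obtain ⟨hb'U, hab', hfb'⟩ := mem_lev.1 hFr.hb'
  obtain ⟨hu'U, hau', hfu'⟩ := mem_lev.1 hu'W
  obtain ⟨t, ht0, -, ht2⟩ := exists_ne_sq_one (F := F) hq
  obtain ⟨g, hg, e1, -, e3, -, e5⟩ := exists_scale_two (U := U) L.space hbU hb'U huU hu'U hFr.hp hFr.hr
    (mem_comp.2 ⟨hbu, (mem_lev.1 hFr.hu).2.2⟩) (mem_comp.2 ⟨hbu', hb'u'⟩) ht0
  have hga : g • a = (1 : F) • a := by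
    rw [one_smul]
    exact e5 a (by rw [polar_comm]; exact hab) (by rw [polar_comm]; exact hab') (by rw [polar_comm]; exact hau)
      (by rw [polar_comm]; exact hau')
  have hgf : g • f = (1 : F)⁻¹ • f := by
    rw [inv_one, one_smul]
    exact e5 f (by rw [polar_comm]; exact hfb) (by rw [polar_comm]; exact hfb') (by rw [polar_comm]; exact hfu)
      (by rw [polar_comm]; exact hfu')
  have hgc : Commute (ρ (el (fixGrp Q U) g)) (wt ρ ψ a (lev Q U a f) η) :=
    commute_weight L hg one_ne_zero hga hgf (by rw [one_smul]; exact e5 η hηb hηb' hηu hηu')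
  obtain ⟨s, hs⟩ : ∃ s, s = (t ^ 2 - 1)⁻¹ := ⟨_, rfl⟩
  have hbs : polar Q b (s • u) = 0 := by rw [polar_smul_right, hbu, smul_zero]
  have hm : (E b (s • u) : Om Q) ∈ fixGrp Q U := E_mem L.space hQb hbU (U.smul_mem _ huU) hbs
  have hxc : Commute (ρ (el (fixGrp Q U) (E b (s • u) : Om Q))) (wt ρ ψ a (lev Q U a f) η) := by
    refine commute_weight L hm one_ne_zero ?_ ?_ ?_
    · rw [one_smul]; exact E_fix L.space hQb hbs (by rw [polar_comm]; exact hab)
        (by rw [polar_smul_left, polar_comm, hau, smul_zero])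
    · rw [inv_one, one_smul]; exact E_fix L.space hQb hbs (by rw [polar_comm]; exact hfb)
        (by rw [polar_smul_left, polar_comm, hfu, smul_zero])
    · rw [one_smul]; exact E_fix L.space hQb hbs hbη (by rw [polar_smul_left, huη, smul_zero])
  have hconj := conj_fix L.fr hψ hη h1 hg hm hgc hxc
  rw [conj_E L.space hQb hbs, e1, smul_scalar, e3, smul_smul,
    E_smul_left L.space hQb (by rw [polar_smul_right, hbu, smul_zero]), smul_smul] at hconj
  refine cancel_fix L hbU (U.smul_mem s huU) huU hQb hbs hbu hxc ?_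
  have hs1 : (t ^ 2 - 1) * s = 1 := by rw [hs, mul_inv_cancel₀ (sub_ne_zero.2 ht2)]
  have e : u + s • u = (t * (s * t)) • u := by
    rw [show t * (s * t) = 1 + s by linear_combination hs1, add_smul, one_smul]
  rw [e]
  exact hconj

/-- A torus on the pair and on `η` fixes the weight and moves the elements at `η`. -/
theorem fix_inside (hq : 4 ≤ Fintype.card F) {η b u : V} (hη : η ∈ lev Q U a f) (hη0 : η ≠ 0)
    (h1 : mult ρ ψ a (lev Q U a f) η = 1) (hb : b ∈ lev Q U a f) (hu : u ∈ lev Q U a f) (hQb : Q b = 0)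
    (hQu : Q u = 0) (hbu : polar Q b u = 0) (hb0 : b ≠ 0) (hub : u ∉ F ∙ b)
    (hspan : η ∈ Submodule.span F ({b, u} : Set V)) :
    ρ (el _ (E b u : Om Q)) * wt ρ ψ a (lev Q U a f) η = wt ρ ψ a (lev Q U a f) η := by
  obtain ⟨u₁, hu₁, hQu₁, hηu₁, hu₁η, hE⟩ : ∃ u₁ ∈ lev Q U a f, Q u₁ = 0 ∧ polar Q η u₁ = 0 ∧
      u₁ ∉ F ∙ η ∧ (E b u : Om Q) = E η u₁ := by
    obtain ⟨α, β, hαβ⟩ := Submodule.mem_span_pair.1 hspan
    by_cases hα : α = 0
    · have hβ : β ≠ 0 := fun e => hη0 (by rw [← hαβ, hα, e, zero_smul, zero_smul, add_zero])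
      rw [hα, zero_smul, zero_add] at hαβ
      refine ⟨(-β⁻¹) • b, Submodule.smul_mem _ _ hb, by rw [QuadraticMap.map_smul, hQb, smul_zero],
        by rw [← hαβ, polar_smul_left, polar_smul_right, polar_comm, hbu, smul_zero, smul_zero],
        fun h => hub ?_, ?_⟩
      · rw [← hαβ] at h
        obtain ⟨c, hc⟩ := Submodule.mem_span_singleton.1 h
        rw [smul_smul] at hc
        have hne : c * β ≠ 0 := fun e => by
          rw [e, zero_smul, eq_comm, smul_eq_zero, neg_eq_zero, inv_eq_zero] at hc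
          exact hc.elim hβ hb0
        exact Submodule.mem_span_singleton.2 ⟨(c * β)⁻¹ * -β⁻¹, by
          rw [← smul_smul, ← hc, smul_smul, inv_mul_cancel₀ hne, one_smul]⟩
      · have := E_combine' L.space hQb hQu hbu 0 β (-β⁻¹) 0
        rw [zero_smul, zero_smul, zero_add, add_zero, hαβ, show (0 : F) * 0 - β * -β⁻¹ = 1 by
          rw [zero_mul, mul_neg, mul_inv_cancel₀ hβ, zero_sub, neg_neg], one_smul] at this
        exact this.symm
    · refine ⟨α⁻¹ • u, Submodule.smul_mem _ _ hu, by rw [QuadraticMap.map_smul, hQu, smul_zero],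
        by rw [← hαβ, polar_add_left, polar_smul_left, polar_smul_left, polar_smul_right, polar_smul_right, hbu,
          polar_self_zero hQu, smul_zero, smul_zero, smul_zero, add_zero],
        fun h => hub ?_, ?_⟩
      · obtain ⟨c, hc⟩ := Submodule.mem_span_singleton.1 h
        rw [← hαβ] at hc
        by_cases hc0 : α⁻¹ - c * β = 0
        · have hc' : (c * α) • b = 0 := by
            have e : (c * α) • b = (α⁻¹ - c * β) • u := by
              rw [sub_smul, ← hc, smul_add, smul_smul, smul_smul, add_sub_cancel_right]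
            rw [e, hc0, zero_smul]
          have h0 : c = 0 := by simpa [hα, hb0] using hc'
          rw [h0, zero_mul, sub_zero, inv_eq_zero] at hc0
          exact absurd hc0 hα
        · refine Submodule.mem_span_singleton.2 ⟨(α⁻¹ - c * β)⁻¹ * (c * α), ?_⟩
          have e : (c * α) • b = (α⁻¹ - c * β) • u := by
            rw [sub_smul, ← hc, smul_add, smul_smul, smul_smul, add_sub_cancel_right]
          rw [← smul_smul, e, smul_smul, inv_mul_cancel₀ hc0, one_smul]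
      · have := E_combine' L.space hQb hQu hbu α β 0 α⁻¹
        rw [zero_smul, zero_add, hαβ, show α * α⁻¹ - β * 0 = 1 by rw [mul_zero, sub_zero, mul_inv_cancel₀ hα],
          one_smul] at this
        exact this.symm
  have hQη : Q η = 0 := by
    obtain ⟨α, β, hαβ⟩ := Submodule.mem_span_pair.1 hspan
    rw [← hαβ, map_two, QuadraticMap.map_smul, QuadraticMap.map_smul, hQb, hQu, polar_smul_left, polar_smul_right,
      hbu]
    simp
  have hηS : η ∉ F ∙ u₁ := fun h => by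
    obtain ⟨c, hc⟩ := Submodule.mem_span_singleton.1 h
    have hc0 : c ≠ 0 := fun e => hη0 (by rw [← hc, e, zero_smul])
    exact hu₁η (Submodule.mem_span_singleton.2 ⟨c⁻¹, by rw [← hc, smul_smul, inv_mul_cancel₀ hc0, one_smul]⟩)
  obtain ⟨η', hη', hr, hη'S⟩ := partner_perp L.shW.nd ((Submodule.span_singleton_le_iff_mem u₁ _).2 hu₁) hη hQη hηS
    (fun s hs => by
      obtain ⟨c, rfl⟩ := Submodule.mem_span_singleton.1 hs
      rw [polar_smul_right, hηu₁, smul_zero])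
  obtain ⟨hηU, haη, hfη⟩ := mem_lev.1 hη
  obtain ⟨hη'U, haη', hfη'⟩ := mem_lev.1 hη'
  obtain ⟨hu₁U, hau₁, hfu₁⟩ := mem_lev.1 hu₁
  obtain ⟨t, ht0, ht1, -⟩ := exists_ne_sq_one (F := F) hq
  obtain ⟨g, hg, e1, e2, e3, -, e5⟩ := exists_scale_two (U := U) L.space L.ha L.hf hηU hη'U L.hp hr
    (mem_comp.2 ⟨haη, hfη⟩) (mem_comp.2 ⟨haη', hfη'⟩) ht0
  have hgc : Commute (ρ (el (fixGrp Q U) g)) (wt ρ ψ a (lev Q U a f) η) := commute_weight L hg ht0 e1 e2 e3
  obtain ⟨s, hs⟩ : ∃ s, s = (t - 1)⁻¹ := ⟨_, rfl⟩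
  have hbs : polar Q η (s • u₁) = 0 := by rw [polar_smul_right, hηu₁, smul_zero]
  have hm : (E η (s • u₁) : Om Q) ∈ fixGrp Q U := E_mem L.space hQη hηU (U.smul_mem _ hu₁U) hbs
  have hxc : Commute (ρ (el (fixGrp Q U) (E η (s • u₁) : Om Q))) (wt ρ ψ a (lev Q U a f) η) := by
    refine commute_weight L hm one_ne_zero ?_ ?_ ?_
    · rw [one_smul]; exact E_fix L.space hQη hbs (by rw [polar_comm]; exact haη)
        (by rw [polar_smul_left, polar_comm, hau₁, smul_zero])
    · rw [inv_one, one_smul]; exact E_fix L.space hQη hbs (by rw [polar_comm]; exact hfη)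
        (by rw [polar_smul_left, polar_comm, hfu₁, smul_zero])
    · rw [one_smul]; exact E_fix L.space hQη hbs (polar_self_zero hQη)
        (by rw [polar_smul_left, polar_comm, hηu₁, smul_zero])
  have hconj := conj_fix L.fr hψ hη h1 hg hm hgc hxc
  rw [conj_E L.space hQη hbs, e3, smul_scalar,
    e5 u₁ hau₁ hfu₁ hηu₁ (hη'S u₁ (Submodule.mem_span_singleton_self u₁)),
    E_smul_left L.space hQη hbs, smul_smul] at hconj
  rw [hE]
  refine cancel_fix L hηU (U.smul_mem s hu₁U) hu₁U hQη hbs hηu₁ hxc ?_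
  have hs1 : (t - 1) * s = 1 := by rw [hs, mul_inv_cancel₀ (sub_ne_zero.2 ht1)]
  have e : u₁ + s • u₁ = (t * s) • u₁ := by
    rw [show t * s = 1 + s by linear_combination hs1, add_smul, one_smul]
  rw [e]
  exact hconj

end Cfsg.Agent.Char.OmegaDeg
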