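import Cfsg.Agent.Lib.Char.OmegaDeg.Fix
import Cfsg.Agent.Lib.Char.OmegaDeg.Arith

/-!
# The least case of the elliptic type

With two pairs in the smaller space, a fixed space of the least degree is carried to itself by an element
exchanging the pair, so is fixed by all Siegel elements.
-/

set_option autoImplicit false
set_option linter.unusedSectionVars false
set_option linter.style.haveILetI false

universe u

namespace Cfsg.Agent.Char.OmegaDeg

open Module QuadraticMap Cfsg.Agent.Classical Cfsg.Agent.Classical.OCount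
open Cfsg.Agent.Small.OMinIndex

variable {F : Type u} [Field F] [Fintype F] {V : Type u} [AddCommGroup V] [Module F V] [FiniteDimensional F V]
  {Q : QuadraticForm F V}

theorem wt_zero_eq {G : Subgroup (Om Q)} {M : Type*} [AddCommGroup M] [Module ℂ M] (ρ : Representation ℂ G M)
    (ψ : AddChar F ℂ) (a : V) (W : Submodule F V) [Fintype W] :
    wt ρ ψ a W 0 = (Nat.card W : ℂ)⁻¹ • ∑ w : W, opA ρ a (w : V) := by
  rw [wt, show (Fintype.ofFinite W : Fintype W) = ‹Fintype W› from Subsingleton.elim _ _]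
  congr 1
  exact Finset.sum_congr rfl fun w _ => by rw [polar_zero_right, neg_zero, AddChar.map_zero_eq_one, one_smul]

variable {U : Submodule F V} {a f : V} {M : Type} [AddCommGroup M] [Module ℂ M] [FiniteDimensional ℂ M]
  {ρ : Representation ℂ (fixGrp Q U) M} {ψ : AddChar F ℂ} (L : Lv Q U a f 2 2) (hψ : ψ ≠ 1)
include L hψ

omit hψ in
theorem lv_in {η η' : V} (hη : η ∈ lev Q U a f) (hη' : η' ∈ lev Q U a f) (hp : IsHPair Q (η, η')) :
    Lv Q (lev Q U a f) η η' 1 2 :=
  ⟨L.space, L.shW, hη, hη', hp, le_rfl⟩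

/-- No vector of the fixed space is fixed by the elements at a singular vector of the smaller space. -/
theorem sum_zero (hm0 : mult ρ ψ a (lev Q U a f) 0 ≤ n1 (Fintype.card F) 2 1)
    (hnt : ¬ Triv (zeroRep (ρ := ρ) L hψ)) {η η' : V} (hη : η ∈ lev Q U a f) (hη' : η' ∈ lev Q U a f)
    (hp : IsHPair Q (η, η')) [Fintype (lev Q (lev Q U a f) η η')] :
    (∑ w : lev Q (lev Q U a f) η η', ρ (el (fixGrp Q U) (E η (w : V) : Om Q))) * wt ρ ψ a (lev Q U a f) 0 = 0 := by
  classical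
  obtain ⟨σ, hσ⟩ : ∃ σ, σ = zeroRep (ρ := ρ) L hψ := ⟨_, rfl⟩
  have L' := lv_in L hη hη' hp
  have hdim : finrank ℂ (LinearMap.range (wt ρ ψ a (lev Q U a f) 0)) ≤ n1 (Fintype.card F) 2 1 := hm0
  have hc : ∀ c : F, c ≠ 0 → multv η η' σ ψ c = 0 := fun c hc => by
    have h := (value_bound (ρ := σ) L' hψ hc).trans hdim
    have h' := class_minus (q := Fintype.card F) (j := 1) Fintype.card_pos
    rw [show base (Fintype.card F) 2 = Fintype.card F + 1 by simp [base]] at h
    by_contra hne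
    have := Nat.le_mul_of_pos_right (valNum (Fintype.card F) 2 1 (Fintype.card F + 1)) (Nat.pos_of_ne_zero hne)
    omega
  have hg : multv η η' σ ψ 0 ≠ 0 := fun h0 => hnt (hσ ▸ mult_zero_all L' hψ fun c => by
    rcases eq_or_ne c 0 with rfl | hc'
    · exact h0
    · exact hc c hc')
  have hz : mult σ ψ η (lev Q (lev Q U a f) η η') 0 = 0 := by
    have h := (sing_bound (ρ := σ) L' hψ).trans hdim
    have := Nat.le_mul_of_pos_right
      ((Fintype.card F ^ 1 - 1) * (Fintype.card F ^ (1 - 1 + 2) + 1)) (Nat.pos_of_ne_zero hg)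
    simp only [n1] at h
    omega
  have h0 := wt_eq_zero L'.fr hz
  rw [wt_zero_eq σ, smul_eq_zero] at h0
  have h1 := h0.resolve_left (inv_ne_zero (card_ne _))
  refine LinearMap.ext fun v => ?_
  have h2 := congrArg Subtype.val (LinearMap.congr_fun h1 ⟨_, LinearMap.mem_range_self (wt ρ ψ a (lev Q U a f) 0) v⟩)
  rw [LinearMap.sum_apply, Submodule.coe_sum, LinearMap.zero_apply, Submodule.coe_zero] at h2
  rw [Module.End.mul_apply, LinearMap.sum_apply, LinearMap.zero_apply]
  rw [← h2]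
  refine Finset.sum_congr rfl fun w _ => ?_
  obtain ⟨hwW, hηw, -⟩ := mem_lev.1 w.2
  rw [opA, hσ, zeroRep, restrictRep_apply _ _ _ _ (E_mem L.space hp.1 hη hwW hηw)]

/-- On a weight of multiplicity one the elements at that weight are trivial. -/
theorem opA_fix {η η' : V} (hη : η ∈ lev Q U a f) (hη' : η' ∈ lev Q U a f) (hp : IsHPair Q (η, η'))
    (h1 : mult ρ ψ a (lev Q U a f) η = 1) {w : V} (hw : w ∈ lev Q (lev Q U a f) η η') :
    ρ (el (fixGrp Q U) (E η w : Om Q)) * wt ρ ψ a (lev Q U a f) η = wt ρ ψ a (lev Q U a f) η := by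
  classical
  have L' := lv_in L hη hη' hp
  obtain ⟨W, hW⟩ : ∃ W, W = lev Q (lev Q U a f) η η' := ⟨_, rfl⟩
  obtain ⟨hηU, haη, hfη⟩ := mem_lev.1 hη
  have hmem : ∀ x ∈ W, x ∈ U ∧ polar Q η x = 0 ∧ Commute (ρ (el (fixGrp Q U) (E η x : Om Q)))
      (wt ρ ψ a (lev Q U a f) η) := by
    intro x hx
    rw [hW] at hx
    obtain ⟨hxW, hηx, -⟩ := mem_lev.1 hx
    obtain ⟨hxU, hax, hfx⟩ := mem_lev.1 hxW
    refine ⟨hxU, hηx, commute_weight L (E_mem L.space hp.1 hηU hxU hηx) one_ne_zero ?_ ?_ ?_⟩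
    · rw [one_smul]; exact E_fix L.space hp.1 hηx (by rw [polar_comm]; exact haη) (by rw [polar_comm]; exact hax)
    · rw [inv_one, one_smul]; exact E_fix L.space hp.1 hηx (by rw [polar_comm]; exact hfη) (by rw [polar_comm]; exact hfx)
    · rw [one_smul]; exact E_fix_self L.space hp.1 hηx
  obtain ⟨K, hK⟩ : ∃ K : Set V, K = {x | x ∈ W ∧ ρ (el (fixGrp Q U) (E η x : Om Q)) * wt ρ ψ a (lev Q U a f) η =
      wt ρ ψ a (lev Q U a f) η} := ⟨_, rfl⟩
  obtain ⟨D, hD⟩ : ∃ D, D = Submodule.span F {x : V | ∃ g ∈ fixGrp Q W, ∃ y ∈ W, x = g • y - y} := ⟨_, rfl⟩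
  have hgen : ∀ g ∈ fixGrp Q W, ∀ y ∈ W, g • y - y ∈ K := by
    intro g hg y hy
    have hgW : g • y ∈ W := fixGrp_smul_mem L.space.pnd hg hy
    obtain ⟨hgyU, hηgy, hcgy⟩ := hmem _ hgW
    obtain ⟨hyU, hηy, hcy⟩ := hmem y hy
    obtain ⟨hdU, hηd, -⟩ := hmem _ (W.sub_mem hgW hy)
    rw [hK]
    refine ⟨W.sub_mem hgW hy, cancel_fix L hηU hyU hdU hp.1 hηy hηd hcy ?_⟩
    rw [sub_add_cancel]
    have hgW' : g ∈ fixGrp Q (lev Q U a f) := fixGrp_mono (by rw [hW]; exact lev_le _ _ _) hg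
    have hgη : g • η = η := hg η fun z hz => by
      rw [hW] at hz; rw [polar_comm]; exact (mem_lev.1 hz).2.1
    have hgU := fixGrp_mono (lev_le U a f) hgW'
    have hgc : Commute (ρ (el (fixGrp Q U) g)) (wt ρ ψ a (lev Q U a f) η) := commute_weight L hgU one_ne_zero
      (by rw [one_smul]; exact L.fix_a hgW') (by rw [inv_one, one_smul]; exact L.fix_f hgW')
      (by rw [one_smul]; exact hgη)
    have := conj_fix L.fr hψ hη h1 hgU (E_mem L.space hp.1 hηU hyU hηy) hgc hcy
    rwa [conj_E L.space hp.1 hηy, hgη] at this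
  have hDK : ∀ x ∈ D, ∀ t : F, t • x ∈ K := by
    intro x hx
    rw [hD] at hx
    induction hx using Submodule.span_induction with
    | mem x hx =>
      obtain ⟨g, hg, y, hy, rfl⟩ := hx
      intro t
      rw [smul_sub, ← smul_scalar]
      exact hgen g hg _ (W.smul_mem t hy)
    | zero =>
      intro t
      rw [smul_zero, hK]
      refine ⟨W.zero_mem, ?_⟩
      rw [E_zero L.space hp.1, el_one, map_one, one_mul]
    | add x y _ _ hx hy =>
      intro t
      have h1' := hx t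
      have h2' := hy t
      rw [hK] at h1' h2' ⊢
      obtain ⟨hxU, hηx, -⟩ := hmem _ h1'.1
      obtain ⟨hyU, hηy, -⟩ := hmem _ h2'.1
      rw [smul_add]
      refine ⟨W.add_mem h1'.1 h2'.1, ?_⟩
      rw [← E_mul L.space hp.1 hηx hηy, el_mul (E_mem L.space hp.1 hηU hxU hηx) (E_mem L.space hp.1 hηU hyU hηy),
        map_mul, mul_assoc, h2'.2, h1'.2]
    | smul c x _ hx => intro t; rw [smul_smul]; exact hx _
  by_cases hwD : w ∈ D
  · have := hDK w hwD 1
    rw [one_smul, hK] at this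
    exact this.2
  have hDle : D ≤ W := by
    rw [hD, Submodule.span_le]
    rintro _ ⟨g, hg, y, hy, rfl⟩
    exact W.sub_mem (fixGrp_smul_mem L.space.pnd hg hy) hy
  have hW4 : 4 ≤ finrank F W := hW ▸ L'.fourW
  have hWnd : NonDeg Q W := hW ▸ L'.shW.nd
  obtain ⟨z, hz, hzD, hzw⟩ := exists_sep_in hWnd hDle (hW ▸ hw) hwD 1
  exfalso
  have hz0 : z ≠ 0 := fun e => one_ne_zero (α := F) (by rw [← hzw, e, polar_zero_left])
  have hfixz : ∀ g ∈ fixGrp Q W, g • z = z := by
    intro g hg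
    have hgi : g⁻¹ • z = z := by
      rw [← sub_eq_zero]
      refine hWnd _ (W.sub_mem (fixGrp_smul_mem L.space.pnd (inv_mem hg) hz) hz) fun y hy => ?_
      have h := hzD (g • y - y) (hD ▸ Submodule.subset_span ⟨g, hg, y, hy, rfl⟩)
      rw [polar_sub_right] at h
      rw [polar_sub_left, ← polar_iso_smul g (g⁻¹ • z) y, smul_inv_smul]
      exact h
    rw [inv_smul_eq_iff] at hgi
    exact hgi.symm
  haveI : Finite V := Module.finite_of_finite F
  have hmany : ∃ z' ∈ W, z' ≠ 0 ∧ Q z' = Q z ∧ z' ≠ z := by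
    by_contra! hno
    have hle : Nat.card {y : V // y ∈ W ∧ y ≠ 0 ∧ Q y = Q z} ≤ 1 := by
      haveI : Subsingleton {y : V // y ∈ W ∧ y ≠ 0 ∧ Q y = Q z} :=
        ⟨fun x y => Subtype.ext ((hno _ x.2.1 x.2.2.1 x.2.2.2).trans (hno _ y.2.1 y.2.2.1 y.2.2.2).symm)⟩
      exact Finite.card_le_one_iff_subsingleton.2 inferInstance
    have hq := Fintype.one_lt_card (α := F)
    have h4 : 4 ≤ Fintype.card F ^ 2 := Nat.pow_le_pow_left hq 2
    by_cases hQz : Q z = 0
    · rw [hW, hQz, L'.shW.card_sing] at hle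
      have : 1 ≤ Fintype.card F - 1 := by omega
      have := Nat.mul_le_mul this (show 2 ≤ Fintype.card F ^ (1 - 1 + 2) + 1 by simp; omega)
      rw [pow_one] at hle
      omega
    · have h' := card_value_ge L' hQz
      rw [← hW, show base (Fintype.card F) 2 = Fintype.card F + 1 by simp [base]] at h'
      have h'' := class_minus (q := Fintype.card F) (j := 1) Fintype.card_pos
      have : 1 ≤ n1 (Fintype.card F) 2 1 := Nat.mul_pos (by rw [pow_one]; omega) (Nat.succ_pos _)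
      omega
  obtain ⟨z', hz', hz'0, hQz', hne⟩ := hmany
  obtain ⟨g, hg, hgz⟩ := move_eq L.space hWnd hW4 hz hz' hz0 hz'0 hQz'
  exact hne (hgz ▸ hfixz g hg)

/-- The exchange of the pair. -/
theorem exists_swap : ∃ h ∈ fixGrp Q U, h • a = -f ∧ h • f = -a ∧ (∀ w ∈ lev Q U a f, h • w ∈ lev Q U a f) ∧
    h * h = 1 := by
  obtain ⟨z, hz, hQz⟩ := exists_value L.shW.nd (by have := L.fourW; omega) 1
  obtain ⟨hzU, haz, hfz⟩ := mem_lev.1 hz
  have hu : Q (a + f) = 1 := by simpa using value_pair L.hp 1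
  obtain ⟨h, hh⟩ := L.space.exists_refl_two (u := a + f) (v := z) (by rw [hu]; exact one_ne_zero) one_ne_zero
    (by rw [hQz, hu, one_pow, one_mul])
  have hfa : polar Q f a = 1 := by rw [polar_comm]; exact L.hp.2.2
  have hza : polar Q z a = 0 := by rw [polar_comm]; exact haz
  have hzf : polar Q z f = 0 := by rw [polar_comm]; exact hfz
  have hm : h ∈ fixGrp Q U := fun x hx => by
    rw [hh, ORefl.refl_fix (hx z hzU), ORefl.refl_fix (hx _ (U.add_mem L.ha L.hf))]
  have ea : h • a = -f := by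
    rw [hh, ORefl.refl_fix hza, ORefl.refl_apply, hu, polar_add_left, polar_self_zero L.sing, hfa]
    simp
  have ef : h • f = -a := by
    rw [hh, ORefl.refl_fix hzf, ORefl.refl_apply, hu, polar_add_left, polar_self_zero L.hp.2.1,
      show polar Q a f = 1 from L.hp.2.2]
    simp
  refine ⟨h, hm, ea, ef, fun w hw => ?_, ?_⟩
  · obtain ⟨hwU, haw, hfw⟩ := mem_lev.1 hw
    refine mem_lev.2 ⟨fixGrp_smul_mem L.space.pnd hm hwU, ?_, ?_⟩
    · have e := polar_iso_smul h f w
      rwa [ef, hfw, polar_neg_left, neg_eq_zero] at e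
    · have e := polar_iso_smul h a w
      rwa [ea, haw, polar_neg_left, neg_eq_zero] at e
  · refine om_ext fun x => ?_
    rw [mul_smul, hh, hh, one_smul, ORefl.refl_apply, ORefl.refl_apply, ORefl.refl_apply, ORefl.refl_apply, hu, hQz]
    simp only [polar_sub_right, polar_smul_right, inv_one, one_mul, polar_add_left, polar_add_right, smul_eq_mul,
      ORefl.polar_self_two, L.sing, show Q f = 0 from L.hp.2.1, hfa, show polar Q a f = 1 from L.hp.2.2, hza, hzf,
      haz, hfz, hQz, hu]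
    module

theorem triv_of_least [Nontrivial M] (hirr : Irr ρ) (hm0 : mult ρ ψ a (lev Q U a f) 0 ≤ n1 (Fintype.card F) 2 1)
    (hns : ∀ c : F, c ≠ 0 → multv a f ρ ψ c = 0) (h1 : multv a f ρ ψ 0 ≤ 1)
    (hnt : ¬ Triv (zeroRep (ρ := ρ) L hψ)) : Triv ρ := by
  classical
  haveI : Finite V := Module.finite_of_finite F
  haveI := Fintype.ofFinite V
  obtain ⟨h, hh, hha, hhf, hhW, hh2⟩ := exists_swap L hψ
  obtain ⟨e₀, he₀⟩ : ∃ e₀, e₀ = wt ρ ψ a (lev Q U a f) 0 := ⟨_, rfl⟩
  have hρh : ρ (el (fixGrp Q U) h) * ρ (el (fixGrp Q U) h) = 1 := by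
    rw [← map_mul, ← el_mul hh hh, hh2, el_one, map_one]
  have hhi : h⁻¹ = h := inv_eq_of_mul_eq_one_right hh2
  -- the image of the fixed space has no other weight
  have hkill : ∀ η ∈ lev Q U a f, η ≠ 0 →
      wt ρ ψ a (lev Q U a f) η * (ρ (el (fixGrp Q U) h) * e₀) = 0 := by
    intro η hη hη0
    by_cases hm : mult ρ ψ a (lev Q U a f) η = 0
    · rw [wt_eq_zero L.fr hm, zero_mul]
    have hQη : Q η = 0 := by
      by_contra hQη
      rw [mult_eq L hψ hη hη0, hns _ hQη] at hm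
      exact hm rfl
    have hmη : mult ρ ψ a (lev Q U a f) η = 1 := by
      have := mult_eq (ρ := ρ) L hψ hη hη0
      rw [hQη] at this
      omega
    obtain ⟨η', hη', hp⟩ := partner_in L.shW.nd hη hη0 hQη
    have hp' : IsHPair Q (h • η, h • η') :=
      ⟨(form_smul h η).trans hp.1, (form_smul h η').trans hp.2.1, (polar_iso_smul h η η').trans hp.2.2⟩
    have hmap : ∀ w ∈ lev Q (lev Q U a f) η η', h • w ∈ lev Q (lev Q U a f) (h • η) (h • η') := fun w hw => by
      obtain ⟨hw1, hw2, hw3⟩ := mem_lev.1 hw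
      exact mem_lev.2 ⟨hhW _ hw1, (polar_iso_smul h _ _).trans hw2, (polar_iso_smul h _ _).trans hw3⟩
    have hb : Function.Bijective (fun w : lev Q (lev Q U a f) η η' =>
        (⟨h • (w : V), hmap _ w.2⟩ : lev Q (lev Q U a f) (h • η) (h • η'))) := by
      refine ⟨fun w w' e => Subtype.ext (smul_inj h (congrArg Subtype.val e)), fun w => ?_⟩
      obtain ⟨hw1, hw2, hw3⟩ := mem_lev.1 w.2
      have hhh : h • h • (w : V) = w := by rw [← mul_smul, hh2, one_smul]
      refine ⟨⟨h • (w : V), mem_lev.2 ⟨hhW _ hw1, ?_, ?_⟩⟩, Subtype.ext hhh⟩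
      · rw [← polar_iso_smul h, hhh]; exact hw2
      · rw [← polar_iso_smul h, hhh]; exact hw3
    have hsum : (∑ w : lev Q (lev Q U a f) η η', ρ (el (fixGrp Q U) (E η (w : V) : Om Q))) *
        (ρ (el (fixGrp Q U) h) * e₀) = 0 := by
      have hz := sum_zero L hψ hm0 hnt (hhW η hη) (hhW η' hη') hp'
      rw [← he₀, ← Fintype.sum_equiv (Equiv.ofBijective _ hb)
        (fun w => ρ (el (fixGrp Q U) (E (h • η) (h • (w : V)) : Om Q))) _ (fun w => rfl)] at hz
      have e : (∑ w : lev Q (lev Q U a f) η η', ρ (el (fixGrp Q U) (E η (w : V) : Om Q))) * ρ (el (fixGrp Q U) h) =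
          ρ (el (fixGrp Q U) h) *
            ∑ w : lev Q (lev Q U a f) η η', ρ (el (fixGrp Q U) (E (h • η) (h • (w : V)) : Om Q)) := by
        rw [Finset.sum_mul, Finset.mul_sum]
        refine Finset.sum_congr rfl fun w _ => ?_
        obtain ⟨hwW, hηw, -⟩ := mem_lev.1 w.2
        have hm' := E_mem L.space hQη (mem_lev.1 hη).1 (mem_lev.1 hwW).1 hηw
        rw [← conj_E L.space hQη hηw, el_mul (mul_mem hh hm') (inv_mem hh), el_mul hh hm', map_mul ρ, map_mul ρ,
          hhi, ← mul_assoc, ← mul_assoc, hρh, one_mul]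
      rw [← mul_assoc, e, mul_assoc, hz, mul_zero]
    have hfix : wt ρ ψ a (lev Q U a f) η * ∑ w : lev Q (lev Q U a f) η η', ρ (el (fixGrp Q U) (E η (w : V) : Om Q)) =
        (Nat.card (lev Q (lev Q U a f) η η') : ℂ) • wt ρ ψ a (lev Q U a f) η := by
      rw [Finset.mul_sum, Finset.sum_congr rfl (g := fun _ => wt ρ ψ a (lev Q U a f) η) fun w _ => ?_,
        Finset.sum_const, Finset.card_univ, Nat.card_eq_fintype_card, Nat.cast_smul_eq_nsmul]
      obtain ⟨hwW, hηw, -⟩ := mem_lev.1 w.2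
      obtain ⟨hwU, haw, hfw⟩ := mem_lev.1 hwW
      obtain ⟨hηU, haη, hfη⟩ := mem_lev.1 hη
      have hc : Commute (ρ (el (fixGrp Q U) (E η (w : V) : Om Q))) (wt ρ ψ a (lev Q U a f) η) := by
        refine commute_weight L (E_mem L.space hQη hηU hwU hηw) one_ne_zero ?_ ?_ ?_
        · rw [one_smul]; exact E_fix L.space hQη hηw (by rw [polar_comm]; exact haη) (by rw [polar_comm]; exact haw)
        · rw [inv_one, one_smul]; exact E_fix L.space hQη hηw (by rw [polar_comm]; exact hfη) (by rw [polar_comm]; exact hfw)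
        · rw [one_smul]; exact E_fix_self L.space hQη hηw
      rw [← hc.eq]
      exact opA_fix L hψ hη hη' hp hmη w.2
    have h3 := congrArg (fun x => wt ρ ψ a (lev Q U a f) η * x) hsum
    simp only [← mul_assoc, hfix, mul_zero, smul_mul_assoc, smul_eq_zero] at h3
    rw [← mul_assoc]
    exact h3.resolve_left (card_ne _)
  have hinv : ρ (el (fixGrp Q U) h) * e₀ = e₀ * (ρ (el (fixGrp Q U) h) * e₀) := by
    conv_lhs => rw [← one_mul (ρ (el (fixGrp Q U) h) * e₀), ← sum_wt (ρ := ρ) L.fr hψ, Finset.sum_mul]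
    rw [Finset.sum_eq_single (0 : lev Q U a f), Submodule.coe_zero, he₀]
    · exact fun η _ hne => hkill η η.2 fun e => hne (Subtype.ext e)
    · exact fun hn => absurd (Finset.mem_univ _) hn
  have hAa : ∀ w ∈ lev Q U a f, ρ (el (fixGrp Q U) (E a w : Om Q)) * e₀ = e₀ := fun w hw => by
    have h' := opA_mul_wt (ρ := ρ) (ψ := ψ) L.fr hw 0
    rw [polar_zero_right, AddChar.map_zero_eq_one, one_smul] at h'
    rw [he₀]
    exact h'
  -- vectors whose elements fix the space
  obtain ⟨S, hS⟩ : ∃ S : Set V, S = {x | x ∈ U ∧ Q x = 0 ∧ ∀ z ∈ U, polar Q x z = 0 →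
      ρ (el (fixGrp Q U) (E x z : Om Q)) * e₀ = e₀} := ⟨_, rfl⟩
  have haS : a ∈ S := by
    rw [hS]
    refine ⟨L.ha, L.sing, fun z hz haz => ?_⟩
    have hw := lev_proj L.ha L.hf L.hp hz
    rw [haz, zero_smul, sub_zero] at hw
    have e : (E a z : Om Q) = E a (z - polar Q f z • a) := by
      rw [← E_add_smul L.space L.sing (mem_lev.1 hw).2.1 (polar Q f z), sub_add_cancel]
    rw [e]
    exact hAa _ hw
  have hscal : ∀ x ∈ S, ∀ t : F, t • x ∈ S := by
    intro x hx t
    rw [hS] at hx ⊢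
    obtain ⟨hxU, hQx, hx'⟩ := hx
    refine ⟨U.smul_mem _ hxU, by rw [QuadraticMap.map_smul, hQx, smul_zero], fun z hz htz => ?_⟩
    rcases eq_or_ne t 0 with rfl | ht
    · rw [zero_smul] at htz ⊢
      rw [(E_eq_one_iff L.space (QuadraticMap.map_zero Q) htz).2 (Or.inl rfl), el_one, map_one, one_mul]
    · rw [polar_smul_left, smul_eq_mul] at htz
      have hxz := (mul_eq_zero.1 htz).resolve_left ht
      rw [E_smul_left L.space hQx hxz]
      exact hx' _ (U.smul_mem _ hz) (by rw [polar_smul_right, hxz, smul_zero])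
  have hmove : ∀ g ∈ fixGrp Q U, ρ (el (fixGrp Q U) g⁻¹) * e₀ = e₀ * (ρ (el (fixGrp Q U) g⁻¹) * e₀) →
      ∀ x ∈ S, g • x ∈ S := by
    intro g hg hge x hx
    rw [hS] at hx ⊢
    obtain ⟨hxU, hQx, hx'⟩ := hx
    refine ⟨fixGrp_smul_mem L.space.pnd hg hxU, (form_smul g x).trans hQx, fun z hz hgz => ?_⟩
    obtain ⟨z, rfl⟩ : ∃ z', g • z' = z := ⟨g⁻¹ • z, smul_inv_smul g z⟩
    have hzU : z ∈ U := by
      have := fixGrp_smul_mem L.space.pnd (inv_mem hg) hz
      rwa [inv_smul_smul] at this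
    rw [polar_iso_smul] at hgz
    have hm := E_mem L.space hQx hxU hzU hgz
    rw [← conj_E L.space hQx hgz, el_mul (mul_mem hg hm) (inv_mem hg), el_mul hg hm, map_mul ρ, map_mul ρ,
      mul_assoc, hge, mul_assoc (ρ (el (fixGrp Q U) g)), ← mul_assoc (ρ (el (fixGrp Q U) (E x z : Om Q))),
      hx' z hzU hgz, ← hge, ← mul_assoc, ← map_mul, el_inv hg, mul_inv_cancel, map_one, one_mul]
  have hfS : f ∈ S := by
    have h' := hscal _ (hmove h hh (by rw [hhi]; exact hinv) a haS) (-1)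
    rwa [hha, neg_one_smul, neg_neg] at h'
  have hidem : e₀ * e₀ = e₀ := he₀ ▸ wt_idem L.fr hψ (zero_mem _)
  -- elements fixing the space move the set
  have hmove' : ∀ x ∈ S, ∀ z ∈ U, polar Q x z = 0 → ∀ y ∈ S, (E x z : Om Q) • y ∈ S := by
    intro x hx z hz hxz y hy
    rw [hS] at hx
    obtain ⟨hxU, hQx, hx'⟩ := hx
    refine hmove _ (E_mem L.space hQx hxU hz hxz) ?_ y hy
    rw [E_inv L.space hQx hxz, hx' _ (U.neg_mem hz) (by rw [polar_neg_right, hxz, neg_zero]), hidem]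
  have hreach : ∀ (x y k : V), x ∈ S → y ∈ S → IsHPair Q (x, y) → x ∈ U → y ∈ U → k ∈ U → Q k = 0 →
      polar Q x k ≠ 0 → k ∈ S := by
    intro x y k hx hy hxy hxU hyU hkU hQk hne
    obtain ⟨β, hβ⟩ : ∃ β, β = polar Q x k := ⟨_, rfl⟩
    obtain ⟨w, hw⟩ : ∃ w, w = β⁻¹ • (k - polar Q y k • x - β • y) := ⟨_, rfl⟩
    obtain ⟨hp1, hp2⟩ := mem_comp.1 (exists_split hxy k)
    change polar Q x (k - polar Q y k • x - polar Q x k • y) = 0 at hp1
    change polar Q y (k - polar Q y k • x - polar Q x k • y) = 0 at hp2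
    rw [← hβ] at hp1 hp2
    have hxw : polar Q x w = 0 := by rw [hw, polar_smul_right, hp1, smul_zero]
    have hwy : polar Q w y = 0 := by rw [hw, polar_smul_left, polar_comm, hp2, smul_zero]
    have hwU : w ∈ U := hw ▸ U.smul_mem _ (U.sub_mem (U.sub_mem hkU (U.smul_mem _ hxU)) (U.smul_mem _ hyU))
    have hβw : β • w = k - polar Q y k • x - β • y := by
      rw [hw, smul_smul, mul_inv_cancel₀ (hβ ▸ hne), one_smul]
    have hk : k = polar Q y k • x + β • y + β • w := by rw [hβw]; abel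
    have hQw : polar Q y k * β + β * β * Q w = 0 := by
      have h0 := hQk
      rw [hk, map_two, map_two, QuadraticMap.map_smul, QuadraticMap.map_smul, QuadraticMap.map_smul,
        show Q x = 0 from hxy.1, show Q y = 0 from hxy.2.1] at h0
      simp only [polar_add_left, polar_smul_left, polar_smul_right, hxw, polar_comm Q y w, hwy,
        show polar Q x y = 1 from hxy.2.2, smul_eq_mul] at h0
      linear_combination h0
    have hβ0 : β ≠ 0 := hβ ▸ hne
    have hm := hscal _ (hmove' x hx w hwU hxw y hy) β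
    rw [E_partner L.space hxy.1 hxw hxy.2.2, hwy, zero_add] at hm
    have e : β • (y + w - Q w • x) = k := by
      conv_rhs => rw [hk]
      have hc : β * Q w = -polar Q y k := by
        refine mul_left_cancel₀ hβ0 ?_
        linear_combination hQw
      rw [smul_sub, smul_add, smul_smul, hc, neg_smul]
      abel
    rwa [e] at hm
  have hall : ∀ x ∈ U, Q x = 0 → x ∈ S := by
    intro x hxU hQx
    rcases eq_or_ne x 0 with rfl | hx0
    · simpa using hscal a haS 0
    by_cases hax : polar Q a x = 0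
    swap
    · exact hreach a f x haS hfS L.hp L.ha L.hf hxU hQx hax
    have hp' : IsHPair Q (f, a) := ⟨L.hp.2.1, L.hp.1, (polar_comm _ _ _).trans L.hp.2.2⟩
    by_cases hfx : polar Q f x = 0
    swap
    · exact hreach f a x hfS haS hp' L.hf L.ha hxU hQx hfx
    have hxW : x ∈ lev Q U a f := mem_lev.2 ⟨hxU, hax, hfx⟩
    obtain ⟨w, hw, hwp⟩ := partner_in L.shW.nd hxW hx0 hQx
    obtain ⟨hwU, haw, hfw⟩ := mem_lev.1 hw
    have hEm := E_mem L.space L.sing L.ha hwU haw
    have he : (E a w : Om Q) • x = x - a := by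
      rw [E_apply_perp L.space L.sing haw hax, polar_comm Q w x, show polar Q x w = 1 from hwp.2.2, one_smul]
    have hQy : Q (x - a) = 0 := by rw [← he, form_smul, hQx]
    have hy : x - a ∈ S := hreach f a (x - a) hfS haS hp' L.hf L.ha (U.sub_mem hxU L.ha) hQy (by
      rw [polar_sub_right, hfx, polar_comm, show polar Q a f = 1 from L.hp.2.2, zero_sub]
      exact neg_ne_zero.2 one_ne_zero)
    have := hmove' a haS (-w) (U.neg_mem hwU) (by rw [polar_neg_right, haw, neg_zero]) _ hy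
    rwa [← E_inv L.space L.sing haw, ← he, inv_smul_smul] at this
  -- the common fixed space
  obtain ⟨Φ, hΦ⟩ : ∃ Φ : Submodule ℂ M, Φ = ⨅ x : {p : V × V // p.1 ∈ U ∧ p.2 ∈ U ∧ Q p.1 = 0 ∧ polar Q p.1 p.2 = 0},
      LinearMap.ker (ρ (el (fixGrp Q U) (E x.1.1 x.1.2 : Om Q)) - 1) := ⟨_, rfl⟩
  have hmemΦ : ∀ v : M, v ∈ Φ ↔ ∀ x z, x ∈ U → z ∈ U → Q x = 0 → polar Q x z = 0 →
      ρ (el (fixGrp Q U) (E x z : Om Q)) v = v := fun v => by
    simp only [hΦ, Submodule.mem_iInf, LinearMap.mem_ker, LinearMap.sub_apply, Module.End.one_apply, sub_eq_zero,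
      Subtype.forall, Prod.forall, and_imp]
  have hΦinv : ∀ g, ∀ v ∈ Φ, ρ g v ∈ Φ := by
    intro g v hv
    rw [hmemΦ] at hv ⊢
    intro x z hx hz hQx hxz
    have hgi : (g⁻¹ : fixGrp Q U).1 ∈ fixGrp Q U := (g⁻¹).2
    have hx' := fixGrp_smul_mem L.space.pnd hgi hx
    have hz' := fixGrp_smul_mem L.space.pnd hgi hz
    have hm := E_mem L.space hQx hx hz hxz
    have h' := hv _ _ hx' hz' ((form_smul _ x).trans hQx) ((polar_iso_smul _ x z).trans hxz)
    rw [← conj_E L.space hQx hxz, el_mul (mul_mem hgi hm) (inv_mem hgi), el_mul hgi hm, Subgroup.coe_inv,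
      inv_inv, ← Subgroup.coe_inv, el_coe, el_coe, map_mul ρ, map_mul ρ, Module.End.mul_apply,
      Module.End.mul_apply] at h'
    have h'' := congrArg (ρ g) h'
    rwa [← Module.End.mul_apply, ← map_mul, mul_inv_cancel, map_one, Module.End.one_apply] at h''
  rcases hirr Φ hΦinv with hbot | htop
  · exfalso
    refine hnt ?_
    intro x z hx hz hQx hxz
    refine LinearMap.ext fun v => ?_
    have hv : (v : M) ∈ Φ := by
      rw [hmemΦ]
      intro x' z' hx' hz' hQx' hxz'
      obtain ⟨u, hu⟩ := v.2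
      have h' := hall x' hx' hQx'
      rw [hS] at h'
      have := LinearMap.congr_fun (h'.2.2 z' hz' hxz') u
      rw [Module.End.mul_apply, he₀, hu] at this
      exact this
    rw [hbot, Submodule.mem_bot] at hv
    have hv0 : v = 0 := Subtype.ext hv
    rw [hv0, map_zero, map_zero]
  · intro x z hx hz hQx hxz
    refine LinearMap.ext fun v => ?_
    exact (hmemΦ v).1 (htop ▸ Submodule.mem_top) x z hx hz hQx hxz

end Cfsg.Agent.Char.OmegaDeg
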