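import Cfsg.Agent.Lib.Char.OmegaDeg.Reduce

/-!
# The class of the Siegel elements of two orthogonal singular vectors

Its number of elements, and the divisibility coming from the sum over it.
-/

set_option autoImplicit false
set_option linter.unusedSectionVars false
set_option linter.style.haveILetI false

universe u

namespace Cfsg.Agent.Char.OmegaDeg

open Module QuadraticMap Cfsg.Agent.Classical Cfsg.Agent.Classical.OCount
open Cfsg.Agent.Small.OMinIndex

variable {F : Type u} [Field F] [Fintype F] {V : Type u} [AddCommGroup V] [Module F V] [FiniteDimensional F V]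
  {Q : QuadraticForm F V}

/-- Orthogonal independent singular pairs of `U`. -/
def SPair (Q : QuadraticForm F V) (U : Submodule F V) (p : V × V) : Prop :=
  p.1 ∈ U ∧ p.2 ∈ U ∧ Q p.1 = 0 ∧ Q p.2 = 0 ∧ polar Q p.1 p.2 = 0 ∧ p.1 ≠ 0 ∧ p.2 ∉ F ∙ p.1

theorem SPair.smul {U : Submodule F V} {p : V × V} (h : SPair Q U p) (hQ : PND Q) {g : Om Q} (hg : g ∈ fixGrp Q U) :
    SPair Q U (g • p.1, g • p.2) := by
  obtain ⟨h1, h2, h3, h4, h5, h6, h7⟩ := h
  refine ⟨fixGrp_smul_mem hQ hg h1, fixGrp_smul_mem hQ hg h2, (form_smul g _).trans h3, (form_smul g _).trans h4,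
    (polar_iso_smul g _ _).trans h5, fun e => h6 (smul_inj g (by rw [smul_zero']; exact e)), fun e => h7 ?_⟩
  obtain ⟨t, ht⟩ := Submodule.mem_span_singleton.1 e
  rw [← smul_scalar] at ht
  exact Submodule.mem_span_singleton.2 ⟨t, smul_inj g ht⟩

theorem card_det : Nat.card {m : (F × F) × F × F // m.1.1 * m.2.2 - m.1.2 * m.2.1 = 1} =
    (Fintype.card F ^ 2 - 1) * Fintype.card F := by
  classical
  let e : {m : (F × F) × F × F // m.1.1 * m.2.2 - m.1.2 * m.2.1 = 1} ≃
      Σ v : {v : F × F // v ≠ 0}, {w : F × F // v.1.1 * w.2 - v.1.2 * w.1 = 1} :=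
    { toFun := fun m => ⟨⟨m.1.1, fun h => by
          have := m.2
          rw [h] at this
          simp at this⟩, m.1.2, m.2⟩
      invFun := fun s => ⟨(s.1.1, s.2.1), s.2.2⟩
      left_inv := fun m => rfl
      right_inv := fun s => rfl }
  have hf : ∀ v : {v : F × F // v ≠ 0},
      Nat.card {w : F × F // v.1.1 * w.2 - v.1.2 * w.1 = 1} = Fintype.card F := by
    intro v
    let φ : (F × F) →ₗ[F] F := v.1.1 • LinearMap.snd F F F - v.1.2 • LinearMap.fst F F F
    have hφ : φ ≠ 0 := fun h => v.2 (Prod.ext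
      (by simpa [φ] using LinearMap.congr_fun h (0, 1))
      (by simpa [φ] using LinearMap.congr_fun h (1, 0)))
    have := card_fibre hφ (1 : F)
    rw [finrank_prod, finrank_self] at this
    simpa [φ] using this
  rw [Nat.card_congr e, Nat.card_sigma, Finset.sum_congr rfl fun v _ => hf v, Finset.sum_const, Finset.card_univ,
    smul_eq_mul, Fintype.card_subtype_compl, Fintype.card_prod, pow_two, Fintype.card_subtype_eq]

variable {U : Submodule F V}

theorem card_fibre_E (hS : Space Q) {p₀ : V × V} (h₀ : SPair Q U p₀) :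
    Nat.card {p : {p : V × V // SPair Q U p} // (E p.1.1 p.1.2 : Om Q) = E p₀.1 p₀.2} =
      (Fintype.card F ^ 2 - 1) * Fintype.card F := by
  obtain ⟨a, w⟩ := p₀
  obtain ⟨haU, hwU, ha, hw, haw, ha0, hwa⟩ := h₀
  change a ∈ U at haU; change w ∈ U at hwU; change Q a = 0 at ha; change Q w = 0 at hw
  change polar Q a w = 0 at haw; change a ≠ 0 at ha0; change w ∉ F ∙ a at hwa
  have hw0 : w ≠ 0 := fun e => hwa (e ▸ zero_mem _)
  have haw' : a ∉ F ∙ w := fun h => by
    obtain ⟨t, ht⟩ := Submodule.mem_span_singleton.1 h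
    have ht0 : t ≠ 0 := fun e => ha0 (by rw [← ht, e, zero_smul])
    exact hwa (Submodule.mem_span_singleton.2 ⟨t⁻¹, by rw [← ht, smul_smul, inv_mul_cancel₀ ht0, one_smul]⟩)
  have hli : ∀ s t : F, s • a + t • w = 0 → s = 0 ∧ t = 0 := fun s t h => by
    by_cases ht : t = 0
    · rw [ht, zero_smul, add_zero] at h
      exact ⟨(smul_eq_zero.1 h).resolve_right ha0, ht⟩
    · exact absurd (Submodule.mem_span_singleton.2 ⟨-(t⁻¹ * s), by
        rw [neg_smul, ← smul_smul, eq_neg_of_add_eq_zero_left h, smul_neg, neg_neg, smul_smul, inv_mul_cancel₀ ht,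
          one_smul]⟩) hwa
  have hdet : ∀ m : (F × F) × F × F, m.1.1 * m.2.2 - m.1.2 * m.2.1 = 1 →
      SPair Q U (m.1.1 • a + m.1.2 • w, m.2.1 • a + m.2.2 • w) := by
    rintro ⟨⟨α, β⟩, γ, δ⟩ hd
    change α * δ - β * γ = 1 at hd
    have hs : ∀ s t : F, Q (s • a + t • w) = 0 := fun s t => by
      rw [map_two, QuadraticMap.map_smul, QuadraticMap.map_smul, ha, hw, polar_smul_left, polar_smul_right, haw]
      simp
    refine ⟨U.add_mem (U.smul_mem _ haU) (U.smul_mem _ hwU), U.add_mem (U.smul_mem _ haU) (U.smul_mem _ hwU), hs α β,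
      hs γ δ, ?_, fun e => ?_, fun e => ?_⟩
    · simp only [polar_add_left, polar_add_right, polar_smul_left, polar_smul_right, polar_self_zero ha,
        polar_self_zero hw, haw, polar_comm Q w a, smul_zero, add_zero]
    · obtain ⟨e1, e2⟩ := hli α β e
      rw [e1, e2] at hd
      simp at hd
    · obtain ⟨t, ht⟩ := Submodule.mem_span_singleton.1 e
      change t • (α • a + β • w) = γ • a + δ • w at ht
      obtain ⟨e1, e2⟩ := hli (t * α - γ) (t * β - δ) (by rw [← sub_eq_zero] at ht; rw [← ht]; module)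
      rw [sub_eq_zero] at e1 e2
      rw [← e1, ← e2] at hd
      exact one_ne_zero (α := F) (by linear_combination -hd)
  rw [← card_det]
  refine (Nat.card_eq_of_bijective
    (fun m : {m : (F × F) × F × F // m.1.1 * m.2.2 - m.1.2 * m.2.1 = 1} =>
      (⟨⟨_, hdet m.1 m.2⟩, by
        show (E (m.1.1.1 • a + m.1.1.2 • w) (m.1.2.1 • a + m.1.2.2 • w) : Om Q) = E a w
        rw [E_combine' hS ha hw haw, m.2, one_smul]⟩ :
        {p : {p : V × V // SPair Q U p} // (E p.1.1 p.1.2 : Om Q) = E a w})) ⟨fun m m' h => ?_, fun p => ?_⟩).symm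
  · have h1 := congrArg (fun x : {p : {p : V × V // SPair Q U p} // (E p.1.1 p.1.2 : Om Q) = E a w} => x.1.1.1) h
    have h2 := congrArg (fun x : {p : {p : V × V // SPair Q U p} // (E p.1.1 p.1.2 : Om Q) = E a w} => x.1.1.2) h
    simp only at h1 h2
    obtain ⟨e1, e2⟩ := hli _ _ (show (m.1.1.1 - m'.1.1.1) • a + (m.1.1.2 - m'.1.1.2) • w = 0 by
      rw [← sub_eq_zero] at h1; rw [← h1]; module)
    obtain ⟨e3, e4⟩ := hli _ _ (show (m.1.2.1 - m'.1.2.1) • a + (m.1.2.2 - m'.1.2.2) • w = 0 by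
      rw [← sub_eq_zero] at h2; rw [← h2]; module)
    exact Subtype.ext (Prod.ext (Prod.ext (sub_eq_zero.1 e1) (sub_eq_zero.1 e2))
      (Prod.ext (sub_eq_zero.1 e3) (sub_eq_zero.1 e4)))
  · obtain ⟨⟨⟨x, z⟩, -, -, hx, hz, hxz, hx0, hzx⟩, hE⟩ := p
    change Q x = 0 at hx; change Q z = 0 at hz; change polar Q x z = 0 at hxz; change x ≠ 0 at hx0
    change z ∉ F ∙ x at hzx; change (E x z : Om Q) = E a w at hE
    have hz0 : z ≠ 0 := fun e => hzx (e ▸ zero_mem _)
    have hxz' : x ∉ F ∙ z := fun h => by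
      obtain ⟨t, ht⟩ := Submodule.mem_span_singleton.1 h
      have ht0 : t ≠ 0 := fun e => hx0 (by rw [← ht, e, zero_smul])
      exact hzx (Submodule.mem_span_singleton.2 ⟨t⁻¹, by rw [← ht, smul_smul, inv_mul_cancel₀ ht0, one_smul]⟩)
    have happ : ∀ v, polar Q x v • z - polar Q z v • x = polar Q a v • w - polar Q w v • a := fun v => by
      have h := congrArg (fun g : Om Q => g • v) hE
      rw [E_apply hS hx hxz, E_apply hS ha haw, hz, hw, zero_mul, zero_mul, add_zero, add_zero, add_sub_assoc,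
        add_sub_assoc, add_right_inj] at h
      exact h
    obtain ⟨v, hv, hvx⟩ := ORefl.exists_polar_sep hS.pnd hxz' 1
    obtain ⟨v', hv', hvz⟩ := ORefl.exists_polar_sep hS.pnd hzx 1
    have e1 := happ v
    rw [polar_comm Q x v, hvx, polar_comm Q z v, hv z (Submodule.mem_span_singleton_self z), one_smul, zero_smul,
      sub_zero] at e1
    have e2 := happ v'
    rw [polar_comm Q z v', hvz, polar_comm Q x v', hv' x (Submodule.mem_span_singleton_self x), one_smul, zero_smul,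
      zero_sub, neg_eq_iff_eq_neg, neg_sub] at e2
    obtain ⟨α, β, hxab⟩ : ∃ α β : F, x = α • a + β • w :=
      ⟨polar Q w v', -polar Q a v', by rw [e2]; module⟩
    obtain ⟨γ, δ, hzab⟩ : ∃ γ δ : F, z = γ • a + δ • w :=
      ⟨-polar Q w v, polar Q a v, by rw [e1]; module⟩
    have hd : α * δ - β * γ = 1 := by
      have h := hE
      rw [hxab, hzab, E_combine' hS ha hw haw] at h
      obtain ⟨u, hu, hua⟩ := ORefl.exists_polar_sep hS.pnd haw' 1
      have h' := congrArg (fun g : Om Q => g • u) h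
      rw [E_apply hS ha (by rw [polar_smul_right, haw, smul_zero]), E_apply hS ha haw, QuadraticMap.map_smul, hw,
        polar_comm Q a u, hua, polar_smul_left, polar_comm Q w u, hu w (Submodule.mem_span_singleton_self w)] at h'
      simp only [smul_zero, zero_mul, add_zero, zero_smul, sub_zero, one_smul, add_right_inj] at h'
      exact smul_left_injective F hw0 (h'.trans (one_smul F w).symm)
    exact ⟨⟨((α, β), γ, δ), hd⟩, Subtype.ext (Subtype.ext (Prod.ext hxab.symm hzab.symm))⟩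

theorem card_pairs_through {k e : ℕ} (hsh : Sh Q U (k + 1) e) {x : V} (hx : x ∈ U) (hx0 : x ≠ 0)
    (hQx : Q x = 0) :
    Nat.card {z : V // SPair Q U (x, z)} =
      Fintype.card F * ((Fintype.card F ^ k - 1) * (Fintype.card F ^ (k - 1 + e) + 1)) := by
  obtain ⟨f, hf, hp⟩ := exists_partner_in hx hQx (by
    by_contra! hc
    exact hx0 (hsh.nd x hx hc))
  have hW : Sh Q (lev Q U x f) k e := by simpa using hsh.lev hx hf hp
  rw [← hW.card_sing, ← Nat.card_eq_fintype_card, ← Nat.card_prod]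
  have hfx : polar Q f x = 1 := by rw [polar_comm]; exact hp.2.2
  have hmem : ∀ (t : F) (w : {w : V // w ∈ lev Q U x f ∧ w ≠ 0 ∧ Q w = 0}), SPair Q U (x, w.1 + t • x) := by
    intro t w
    obtain ⟨hwU, hxw, hfw⟩ := mem_lev.1 w.2.1
    refine ⟨hx, U.add_mem hwU (U.smul_mem _ hx), hQx, ?_, ?_, hx0, fun h => w.2.2.1 ?_⟩
    · show Q (w.1 + t • x) = 0
      rw [map_two, w.2.2.2, QuadraticMap.map_smul, hQx, polar_smul_right, polar_comm Q w.1 x, hxw]; simp
    · show polar Q x (w.1 + t • x) = 0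
      rw [polar_add_right, hxw, polar_smul_right, polar_self_zero hQx, smul_zero, add_zero]
    · obtain ⟨s, hs⟩ := Submodule.mem_span_singleton.1 h
      have e := congrArg (polar Q f) hs
      rw [polar_smul_right, polar_add_right, hfw, polar_smul_right, hfx, zero_add] at e
      have e' : s = t := by simpa using e
      rw [e'] at hs
      exact add_eq_right.1 hs.symm
  refine (Nat.card_eq_of_bijective (fun p : F × {w : V // w ∈ lev Q U x f ∧ w ≠ 0 ∧ Q w = 0} =>
    (⟨_, hmem p.1 p.2⟩ : {z : V // SPair Q U (x, z)})) ⟨fun p p' h => ?_, fun z => ?_⟩).symm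
  · have h' : p.2.1 + p.1 • x = p'.2.1 + p'.1 • x := congrArg Subtype.val h
    have e := congrArg (polar Q f) h'
    rw [polar_add_right, polar_add_right, (mem_lev.1 p.2.2.1).2.2, (mem_lev.1 p'.2.2.1).2.2, polar_smul_right,
      polar_smul_right, hfx] at e
    simp only [zero_add, smul_eq_mul, mul_one] at e
    rw [e] at h'
    exact Prod.ext e (Subtype.ext (add_right_cancel h'))
  · obtain ⟨z, -, hzU, -, hQz, hxz, -, hzx⟩ := z
    change z ∈ U at hzU; change Q z = 0 at hQz; change polar Q x z = 0 at hxz; change z ∉ F ∙ x at hzx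
    refine ⟨(polar Q f z, ⟨z - polar Q f z • x, ?_, fun e => hzx ?_, ?_⟩), Subtype.ext (sub_add_cancel _ _)⟩
    · have := lev_proj hx hf hp hzU
      rwa [hxz, zero_smul, sub_zero] at this
    · exact Submodule.mem_span_singleton.2 ⟨_, (sub_eq_zero.1 e).symm⟩
    · rw [ORefl.map_sub_two, hQz, QuadraticMap.map_smul, hQx, polar_smul_right, polar_comm Q z x, hxz, smul_zero,
        smul_zero, add_zero, sub_zero]

/-- The elements of the class. -/
noncomputable def clSet (Q : QuadraticForm F V) (U : Submodule F V) : Set (fixGrp Q U) :=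
  {g | ∃ p, SPair Q U p ∧ (g : Om Q) = E p.1 p.2}

theorem card_clSet (hS : Space Q) {k e : ℕ} (hsh : Sh Q U (k + 1) e) :
    Nat.card (clSet Q U) * (Fintype.card F ^ 2 - 1) =
      (Fintype.card F ^ k - 1) * (Fintype.card F ^ (k - 1 + e) + 1) *
        ((Fintype.card F ^ (k + 1) - 1) * (Fintype.card F ^ (k + e) + 1)) := by
  classical
  haveI : Finite V := Module.finite_of_finite F
  haveI := Fintype.ofFinite V
  haveI := finite_om Q
  haveI := Fintype.ofFinite (fixGrp Q U)
  let φ : {p : V × V // SPair Q U p} → clSet Q U := fun p =>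
    ⟨⟨E p.1.1 p.1.2, E_mem hS p.2.2.2.1 p.2.1 p.2.2.1 p.2.2.2.2.2.1⟩, p.1, p.2, rfl⟩
  have h1 : Nat.card {p : V × V // SPair Q U p} =
      Nat.card (clSet Q U) * ((Fintype.card F ^ 2 - 1) * Fintype.card F) := by
    rw [← Nat.card_congr (Equiv.sigmaFiberEquiv φ), Nat.card_sigma]
    rw [Finset.sum_congr rfl fun g _ => ?_, Finset.sum_const, Finset.card_univ, smul_eq_mul,
      ← Nat.card_eq_fintype_card]
    obtain ⟨p₀, hp₀, hg⟩ := g.2
    rw [← card_fibre_E hS hp₀]
    refine Nat.card_congr (Equiv.subtypeEquivRight fun p => ⟨fun h => ?_, fun h => ?_⟩)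
    · rw [← hg, ← h]
    · exact Subtype.ext (Subtype.ext (h.trans hg.symm))
  have h2 : Nat.card {p : V × V // SPair Q U p} =
      (Fintype.card F ^ (k + 1) - 1) * (Fintype.card F ^ (k + e) + 1) *
        (Fintype.card F * ((Fintype.card F ^ k - 1) * (Fintype.card F ^ (k - 1 + e) + 1))) := by
    let ee : {p : V × V // SPair Q U p} ≃
        Σ x : {x : V // x ∈ U ∧ x ≠ 0 ∧ Q x = 0}, {z : V // SPair Q U (x.1, z)} :=
      { toFun := fun p => ⟨⟨p.1.1, p.2.1, p.2.2.2.2.2.2.1, p.2.2.2.1⟩, p.1.2, p.2⟩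
        invFun := fun s => ⟨(s.1.1, s.2.1), s.2.2⟩
        left_inv := fun p => rfl
        right_inv := fun s => rfl }
    rw [Nat.card_congr ee, Nat.card_sigma,
      Finset.sum_congr rfl fun x _ => card_pairs_through hsh x.2.1 x.2.2.1 x.2.2.2, Finset.sum_const,
      Finset.card_univ, smul_eq_mul, ← Nat.card_eq_fintype_card, hsh.card_sing, Nat.add_sub_cancel]
  refine Nat.eq_of_mul_eq_mul_right (Fintype.card_pos (α := F)) ?_
  linear_combination h2 - h1

/-- The degree divides the class times the value on it. -/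
theorem dvd_class {a f : V} {j e : ℕ} {M : Type} [AddCommGroup M] [Module ℂ M] [FiniteDimensional ℂ M]
    [Nontrivial M] {ρ : Representation ℂ (fixGrp Q U) M} (hirr : Irr ρ) (L : Lv Q U a f j e) {b : V}
    (hb : b ∈ lev Q U a f) (hb0 : b ≠ 0) (hQb : Q b = 0) {v : ℤ}
    (hv : LinearMap.trace ℂ M (opA ρ a b) = (v : ℂ)) : (finrank ℂ M : ℤ) ∣ (Nat.card (clSet Q U) : ℤ) * v := by
  classical
  haveI := finite_om Q
  haveI := Fintype.ofFinite (fixGrp Q U)
  obtain ⟨Cl, hCl⟩ : ∃ Cl, Cl = Finset.univ.filter (fun g => g ∈ clSet Q U) := ⟨_, rfl⟩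
  have hcard : Cl.card = Nat.card (clSet Q U) := by
    rw [hCl, ← Fintype.card_subtype, ← Nat.card_eq_fintype_card]
  obtain ⟨Y, hY⟩ : ∃ Y, Y = ∑ g ∈ Cl, ρ g := ⟨_, rfl⟩
  have hint : IsIntegral ℤ Y := by
    let φ := MonoidAlgebra.lift ℤ (Module.End ℂ M) (fixGrp Q U) ρ
    have hY' : Y = φ (∑ g ∈ Cl, MonoidAlgebra.single g 1) := by
      rw [map_sum, hY]
      exact Finset.sum_congr rfl fun g _ => by rw [MonoidAlgebra.lift_single, one_smul]
    rw [hY']
    exact (IsIntegral.of_finite ℤ _).map φ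
  have hinv : ∀ h g : fixGrp Q U, g ∈ clSet Q U → h * g * h⁻¹ ∈ clSet Q U := by
    rintro h g ⟨p, hp, hg⟩
    refine ⟨_, hp.smul L.space.pnd h.2, ?_⟩
    rw [Subgroup.coe_mul, Subgroup.coe_mul, Subgroup.coe_inv, hg, conj_E L.space hp.2.2.1 hp.2.2.2.2.1]
  obtain ⟨s, hs⟩ := Small.MinDeg.schur ρ hirr Y fun h => by
    rw [hY, Finset.mul_sum, Finset.sum_mul]
    refine Finset.sum_equiv (MulAut.conj h).toEquiv (fun x => ?_) fun x _ => ?_
    · simp only [hCl, Finset.mem_filter, Finset.mem_univ, true_and, MulEquiv.toEquiv_eq_coe, EquivLike.coe_coe,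
        MulAut.conj_apply]
      refine ⟨hinv h x, fun hx => ?_⟩
      simpa [mul_assoc] using hinv h⁻¹ _ hx
    · rw [MulEquiv.toEquiv_eq_coe, EquivLike.coe_coe, MulAut.conj_apply, ← map_mul, ← map_mul, inv_mul_cancel_right]
  have hs' : IsIntegral ℤ s := by
    have hinj : Function.Injective (algebraMap ℂ (Module.End ℂ M)) := (algebraMap ℂ (Module.End ℂ M)).injective
    refine (isIntegral_algebraMap_iff hinj).1 ?_
    rw [Algebra.algebraMap_eq_smul_one, ← hs]
    exact hint
  have htr : s * (finrank ℂ M : ℂ) = (Cl.card : ℂ) * (v : ℂ) := by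
    have h := congrArg (LinearMap.trace ℂ M) hY
    rw [map_sum, hs, map_smul, LinearMap.trace_one, smul_eq_mul,
      Finset.sum_congr rfl (g := fun _ => (v : ℂ)) fun g hg => ?_] at h
    · rw [h, Finset.sum_const, nsmul_eq_mul]
    rw [hCl, Finset.mem_filter] at hg
    obtain ⟨-, ⟨x, z⟩, ⟨hx, hz, hQx, hQz, hxz, hx0, hzx⟩, hgE⟩ := hg
    change (g : Om Q) = E x z at hgE
    obtain ⟨k, hk, hconj⟩ := exists_conj_E L.space L.sh.nd L.six L.ha L.hf L.hp hb hb0 hQb hx hz hQx hQz hxz hx0 hzx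
    have hxm : (E x z : Om Q) ∈ fixGrp Q U := E_mem L.space hQx hx hz hxz
    rw [← hv, opA, ← hconj, el_mul (mul_mem hk hxm) (inv_mem hk), el_mul hk hxm, map_mul ρ, map_mul ρ,
      LinearMap.trace_mul_cycle, ← map_mul ρ (el _ k⁻¹), el_inv hk, inv_mul_cancel, map_one, one_mul, ← hgE, el_coe]
  have hD : (finrank ℂ M : ℂ) ≠ 0 := Nat.cast_ne_zero.2 finrank_pos.ne'
  obtain ⟨z, hz⟩ : ∃ z : ℤ, s = z := by
    refine (IsIntegral.exists_int_iff_exists_rat hs').1 ⟨((Cl.card : ℚ) * (v : ℚ)) / finrank ℂ M, ?_⟩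
    push_cast
    rw [eq_div_iff hD, htr]
  rw [hz] at htr
  have hzi : z * (finrank ℂ M : ℤ) = (Cl.card : ℤ) * v := by exact_mod_cast htr
  rw [← hcard]
  exact ⟨z, by linear_combination -hzi⟩

end Cfsg.Agent.Char.OmegaDeg
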