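import Cfsg.Agent.Lib.Char.OmegaDeg.Moves
import Cfsg.Agent.Lib.Classical.Elusive.OrthTsCount
import Cfsg.Agent.Lib.Small.QuadModels

/-!
# The numbers of vectors of one value in a subspace
-/

set_option autoImplicit false
set_option linter.unusedSectionVars false
set_option linter.style.haveILetI false

universe u

namespace Cfsg.Agent.Char.OmegaDeg

open Module QuadraticMap Cfsg.Agent.Classical Cfsg.Agent.Classical.OCount
open Cfsg.Agent.Small.OMinIndex Cfsg.Agent.Classical.Elusive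

variable {F : Type u} [Field F] [Fintype F] {V : Type u} [AddCommGroup V] [Module F V] [FiniteDimensional F V]
  {Q : QuadraticForm F V}

/-- The least number of vectors of one nonzero value in the anisotropic rest. -/
def base (q e : ℕ) : ℕ := if e = 2 then q + 1 else 0

/-- `j` pairs and an anisotropic rest of dimension `e`. -/
structure Sh (Q : QuadraticForm F V) (U : Submodule F V) (j e : ℕ) : Prop where
  nd : NonDeg Q U
  dim : finrank F U = 2 * j + e
  sing : Nat.card {x : V // x ∈ U ∧ Q x = 0} = valNum (Fintype.card F) e j 1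
  val : ∀ c : F, c ≠ 0 →
    valNum (Fintype.card F) e j (base (Fintype.card F) e) ≤ Nat.card {x : V // x ∈ U ∧ Q x = c}

theorem Sh.card_sing {U : Submodule F V} {j e : ℕ} (h : Sh Q U j e) :
    Nat.card {x : V // x ∈ U ∧ x ≠ 0 ∧ Q x = 0} =
      (Fintype.card F ^ j - 1) * (Fintype.card F ^ (j - 1 + e) + 1) := by
  classical
  haveI : Finite V := Module.finite_of_finite F
  haveI := Fintype.ofFinite V
  have h1 := h.sing
  rw [OTs.valNum_one Fintype.card_pos, Nat.card_eq_fintype_card, Fintype.card_subtype] at h1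
  rw [Nat.card_eq_fintype_card, Fintype.card_subtype, ← Nat.add_sub_cancel (_ * _) 1, ← h1,
    ← Finset.card_erase_of_mem
      (show (0 : V) ∈ Finset.univ.filter (fun v => v ∈ U ∧ Q v = 0) by simp)]
  congr 1
  ext v
  simp only [Finset.mem_filter, Finset.mem_univ, true_and, Finset.mem_erase]
  tauto

theorem Sh.pos {U : Submodule F V} {j e : ℕ} (h : Sh Q U j e) {x : V} (hx : x ∈ U) (hx0 : x ≠ 0) (hQx : Q x = 0) :
    1 ≤ j := by
  haveI : Finite V := Module.finite_of_finite F
  by_contra hj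
  obtain rfl : j = 0 := by omega
  have h1 := h.card_sing
  rw [pow_zero, Nat.sub_self, zero_mul] at h1
  haveI : Nonempty {x : V // x ∈ U ∧ x ≠ 0 ∧ Q x = 0} := ⟨⟨x, hx, hx0, hQx⟩⟩
  exact (Nat.card_pos.ne') h1

/-- Splitting off a pair. -/
theorem Sh.lev {U : Submodule F V} {j e : ℕ} (h : Sh Q U j e) {a f : V} (ha : a ∈ U) (hf : f ∈ U)
    (hp : IsHPair Q (a, f)) : Sh Q (lev Q U a f) (j - 1) e := by
  haveI : Finite V := Module.finite_of_finite F
  obtain ⟨T, hT⟩ : ∃ T, T = Q.comp U.subtype := ⟨_, rfl⟩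
  have hp' : IsHPair T (⟨a, ha⟩, ⟨f, hf⟩) := by subst hT; exact hp
  have ha0 : a ≠ 0 := fun e => one_ne_zero (α := F) (by
    rw [← show polar Q a f = 1 from hp.2.2, e, polar_zero_left])
  obtain ⟨k, rfl⟩ : ∃ k, j = k + 1 := ⟨j - 1, by have := h.pos ha ha0 hp.1; omega⟩
  have hmem : ∀ x : comp T (⟨a, ha⟩, ⟨f, hf⟩), ((x : U) : V) ∈ OmegaDeg.lev Q U a f := fun x => by
    subst hT
    exact mem_lev.2 ⟨x.1.2, (mem_comp.1 x.2).1, (mem_comp.1 x.2).2⟩
  have hval : ∀ c, Nat.card {x : V // x ∈ U ∧ Q x = c} =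
      (Fintype.card F - 1) * Fintype.card F ^ (2 * k + e) +
        Fintype.card F * Nat.card {x : V // x ∈ OmegaDeg.lev Q U a f ∧ Q x = c} := by
    intro c
    have h1 := card_value hp' c
    have hd := finrank_comp hp'
    rw [h.dim] at hd
    rw [show finrank F (comp T (⟨a, ha⟩, ⟨f, hf⟩)) = 2 * k + e by omega] at h1
    rw [show Nat.card {x : V // x ∈ U ∧ Q x = c} = Nat.card {x : U // T x = c} from Nat.card_congr
      { toFun := fun x => ⟨⟨x.1, x.2.1⟩, by subst hT; exact x.2.2⟩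
        invFun := fun x => ⟨x.1.1, x.1.2, by subst hT; exact x.2⟩
        left_inv := fun x => rfl
        right_inv := fun x => rfl }, h1]
    congr 2
    exact Nat.card_congr
      { toFun := fun w => ⟨((w.1 : U) : V), hmem w.1, by subst hT; exact w.2⟩
        invFun := fun x => ⟨⟨⟨x.1, (mem_lev.1 x.2.1).1⟩, by subst hT; exact mem_comp.2 (mem_lev.1 x.2.1).2⟩,
          by subst hT; exact x.2.2⟩
        left_inv := fun w => rfl
        right_inv := fun x => rfl }
  refine ⟨nonDeg_lev h.nd ha hf hp, ?_, ?_, fun c hc => ?_⟩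
  · have h1 := finrank_comp hp'
    rw [h.dim] at h1
    have e1 : (comp T (⟨a, ha⟩, ⟨f, hf⟩)).map U.subtype = OmegaDeg.lev Q U a f := by
      refine le_antisymm ?_ fun x hx => ⟨⟨x, (mem_lev.1 hx).1⟩, by subst hT; exact mem_comp.2 (mem_lev.1 hx).2, rfl⟩
      rintro _ ⟨w, hw, rfl⟩
      exact hmem ⟨w, hw⟩
    rw [← e1, Submodule.finrank_map_subtype_eq]
    omega
  · have h1 := hval 0
    rw [h.sing, valNum_succ Fintype.card_pos] at h1
    rw [Nat.add_sub_cancel]
    exact (Nat.eq_of_mul_eq_mul_left Fintype.card_pos (Nat.add_left_cancel h1)).symm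
  · have h1 := h.val c hc
    rw [hval c, valNum_succ Fintype.card_pos] at h1
    rw [Nat.add_sub_cancel]
    exact Nat.le_of_mul_le_mul_left (Nat.le_of_add_le_add_left h1) Fintype.card_pos

section Tops

variable {ι : Type} [Fintype ι] [DecidableEq ι] {R : Type} [Fintype R] [DecidableEq R]

theorem sh_formOf {m e : ℕ} (hR : Fintype.card R = e) (ee : ι ≃ (Fin m ⊕ Fin m) ⊕ R)
    (P : QuadraticForm F (R → F)) (hP : PND P) (h0 : ∀ z, P z = 0 → z = 0)
    (hb : ∀ c : F, c ≠ 0 → base (Fintype.card F) e ≤ Nat.card {z : R → F // P z = c}) :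
    Sh (OOmega.formOf m ee P) (⊤ : Submodule F (ι → F)) m e := by
  have hs := OTs.shape_formOf ee P hP h0
  have hc : ∀ c : F, Nat.card {x : ι → F // x ∈ (⊤ : Submodule F (ι → F)) ∧ OOmega.formOf m ee P x = c} =
      valNum (Fintype.card F) e m (Nat.card {z : R → F // P z = c}) := fun c => by
    rw [← hR, ← OCount.card_stdQ m P c]
    refine Nat.card_congr ((LinearEquiv.funCongrLeft F F ee.symm).toEquiv.subtypeEquiv fun x => ?_)
    simp only [Submodule.mem_top, true_and]
    rfl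
  refine ⟨fun x _ hx => hs.pnd x fun w => hx w Submodule.mem_top, ?_, ?_, fun c hc0 => ?_⟩
  · rw [finrank_top, hs.dim, hR]
  · rw [hc, Nat.card_eq_one_iff_unique.2 ⟨⟨fun a b => Subtype.ext ((h0 _ a.2).trans (h0 _ b.2).symm)⟩,
      ⟨⟨0, QuadraticMap.map_zero P⟩⟩⟩]
  · rw [hc]
    exact Nat.add_le_add_left (Nat.mul_le_mul_left _ (hb c hc0)) _

end Tops

theorem plane_values (a b : F) (hab : ∀ z₁ z₂ : F, z₁ ^ 2 + a * z₁ * z₂ + b * z₂ ^ 2 = 0 → z₁ = 0 ∧ z₂ = 0) (c : F)
    (hc : c ≠ 0) : Fintype.card F + 1 ≤ Nat.card {z : Fin 2 → F // planeForm a b z = c} := by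
  haveI : Finite (Fin 2 → F) := inferInstance
  have hP := OOmega.pnd_plane hab
  obtain ⟨w, -, hw⟩ := exists_value (Q := planeForm a b) (U := (⊤ : Submodule F (Fin 2 → F)))
    (fun x _ hx => hP x fun y => hx y Submodule.mem_top) (by rw [finrank_top]; simp) c
  rw [← Small.QuadModels.card_one_plane a b hab]
  obtain ⟨μ, hμ⟩ : ∃ μ : (Fin 2 → F) → (Fin 2 → F),
      μ = fun z => ![w 0 * z 0 - b * (w 1 * z 1), w 0 * z 1 + w 1 * z 0 + a * (w 1 * z 1)] := ⟨_, rfl⟩
  have hmul : ∀ z, planeForm a b (μ z) = c * planeForm a b z := fun z => by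
    rw [← hw, hμ, planeForm_apply, planeForm_apply, planeForm_apply]
    simp only [Matrix.cons_val_zero, Matrix.cons_val_one]
    ring
  refine Nat.card_le_card_of_injective
    (fun z => (⟨μ z.1, by rw [hmul, z.2, mul_one]⟩ : {z : Fin 2 → F // planeForm a b z = c})) fun z z' h => ?_
  have hsub : μ (z.1 - z'.1) = 0 := by
    have h0 := congrFun (congrArg Subtype.val h) 0
    have h1 := congrFun (congrArg Subtype.val h) 1
    simp only [hμ, Matrix.cons_val_zero, Matrix.cons_val_one] at h0 h1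
    rw [hμ]
    funext i
    fin_cases i
    · show w 0 * (z.1 0 - z'.1 0) - b * (w 1 * (z.1 1 - z'.1 1)) = 0
      linear_combination h0
    · show w 0 * (z.1 1 - z'.1 1) + w 1 * (z.1 0 - z'.1 0) + a * (w 1 * (z.1 1 - z'.1 1)) = 0
      linear_combination h1
  have h2 := hmul (z.1 - z'.1)
  rw [hsub, QuadraticMap.map_zero] at h2
  have h3 := ((mul_eq_zero.1 h2.symm).resolve_left hc)
  rw [planeForm_apply] at h3
  obtain ⟨e0, e1⟩ := hab _ _ h3
  refine Subtype.ext (funext fun i => ?_)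
  fin_cases i
  · exact sub_eq_zero.1 e0
  · exact sub_eq_zero.1 e1

end Cfsg.Agent.Char.OmegaDeg
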