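import Cfsg.Agent.Lib.Char.OmegaDeg.Weights
import Cfsg.Agent.Lib.Char.OmegaDeg.Shape

/-!
# One step from a subspace to the orthogonal of one of its pairs

The multiplicity of a weight depends only on the value of the form at it.  If a Siegel element of two
orthogonal singular vectors of the smaller space is trivial on all the weight spaces it fixes, only the
weight zero occurs.
-/

set_option autoImplicit false
set_option linter.unusedSectionVars false
set_option linter.style.haveILetI false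

universe u

namespace Cfsg.Agent.Char.OmegaDeg

open Module QuadraticMap Cfsg.Agent.Classical Cfsg.Agent.Classical.OCount
open Cfsg.Agent.Small.OMinIndex

variable {F : Type u} [Field F] [Fintype F] {V : Type u} [AddCommGroup V] [Module F V] [FiniteDimensional F V]
  {Q : QuadraticForm F V}

/-! ### Sums over the vectors of a subspace -/

section Sums

variable {W : Submodule F V} [Fintype W] (g : F → ℂ)

theorem sum_shift {v : V} (hv : v ∈ W) (hQv : Q v = 0) (h : W → ℂ)
    (hinv : ∀ (η : W) (t : F), h (η + t • ⟨v, hv⟩) = h η) (hsupp : ∀ η : W, polar Q v (η : V) = 0 → h η = 0) :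
    (Fintype.card F : ℂ) * ∑ η : W, h η * g (Q (η : V)) = (∑ η : W, h η) * ∑ c : F, g c := by
  have e : ∀ t : F, ∑ η : W, h η * g (Q (η : V)) = ∑ η : W, h η * g (Q (η : V) + t * polar Q v (η : V)) := by
    intro t
    refine (Fintype.sum_equiv (Equiv.addRight (t • (⟨v, hv⟩ : W))) _ _ fun η => ?_).symm
    rw [Equiv.coe_addRight, hinv]
    congr 2
    rw [Submodule.coe_add, Submodule.coe_smul, map_two, QuadraticMap.map_smul, hQv, polar_smul_right,
      polar_comm Q (η : V) v, smul_zero, add_zero, smul_eq_mul]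
  calc (Fintype.card F : ℂ) * ∑ η : W, h η * g (Q (η : V))
      = ∑ _t : F, ∑ η : W, h η * g (Q (η : V)) := by rw [Finset.sum_const, Finset.card_univ, nsmul_eq_mul]
    _ = ∑ t : F, ∑ η : W, h η * g (Q (η : V) + t * polar Q v (η : V)) := Finset.sum_congr rfl fun t _ => e t
    _ = ∑ η : W, h η * ∑ t : F, g (Q (η : V) + t * polar Q v (η : V)) := by
        rw [Finset.sum_comm]; simp only [Finset.mul_sum]
    _ = _ := by
        rw [Finset.sum_mul]
        refine Finset.sum_congr rfl fun η _ => ?_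
        by_cases hη : polar Q v (η : V) = 0
        · rw [hsupp η hη, zero_mul, zero_mul]
        · congr 1
          exact Fintype.sum_equiv ((Equiv.mulRight₀ _ hη).trans (Equiv.addLeft (Q (η : V)))) _ _ fun t => rfl

variable {ψ : AddChar F ℂ} (hψ : ψ ≠ 1) (hW : NonDeg Q W) {b : V} (hb : b ∈ W) (hQb : Q b = 0) (hb0 : b ≠ 0)
include hψ hW hb hQb hb0

theorem sum_value : (Fintype.card F : ℂ) * ((∑ η : W, g (Q (η : V))) -
    ∑ η : W, ψ (polar Q b (η : V)) * g (Q (η : V))) = (Nat.card W : ℂ) * ∑ c : F, g c := by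
  classical
  have hinv : ∀ (η : W) (t : F), polar Q b ((η + t • ⟨b, hb⟩ : W) : V) = polar Q b (η : V) := fun η t => by
    rw [Submodule.coe_add, Submodule.coe_smul, polar_add_right, polar_smul_right, polar_self_zero hQb, smul_zero,
      add_zero]
  have h1 := sum_shift g hb hQb (fun η : W => 1 - ψ (polar Q b (η : V)))
    (fun η t => by rw [hinv]) (fun η h => by rw [h, AddChar.map_zero_eq_one, sub_self])
  have hs : ∑ η : W, ψ (polar Q b (η : V)) = 0 := by
    rw [Finset.sum_congr rfl fun η _ => by rw [polar_comm], sum_psi hψ hW hb, if_neg hb0]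
  simp only [sub_mul, one_mul, Finset.sum_sub_distrib, hs, sub_zero, Finset.sum_const, Finset.card_univ,
    nsmul_eq_mul, mul_one] at h1
  rw [h1, Nat.card_eq_fintype_card]

open scoped _root_.Classical in
theorem sum_fixed {u : V} (hu : u ∈ W) (hQu : Q u = 0) (hbu : polar Q b u = 0) :
    (Fintype.card F : ℂ) * ((∑ η : W, if polar Q b (η : V) = 0 ∧ polar Q u (η : V) = 0 then g (Q (η : V)) else 0) -
      ∑ η : W, ψ (polar Q b (η : V)) * g (Q (η : V))) =
      (Nat.card {η : W // polar Q b (η : V) = 0 ∧ polar Q u (η : V) = 0} : ℂ) * ∑ c : F, g c := by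
  classical
  have hinv : ∀ (η : W) (t : F), polar Q b ((η + t • ⟨b, hb⟩ : W) : V) = polar Q b (η : V) := fun η t => by
    rw [Submodule.coe_add, Submodule.coe_smul, polar_add_right, polar_smul_right, polar_self_zero hQb, smul_zero,
      add_zero]
  have h1 := sum_shift g hb hQb (fun η : W => if polar Q b (η : V) = 0 then (0 : ℂ) else ψ (polar Q b (η : V)))
    (fun η t => by rw [hinv]) (fun η h => if_pos h)
  have h2 := sum_shift g hu hQu
    (fun η : W => if polar Q b (η : V) = 0 ∧ polar Q u (η : V) ≠ 0 then (1 : ℂ) else 0)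
    (fun η t => by
      rw [Submodule.coe_add, Submodule.coe_smul, polar_add_right, polar_add_right, polar_smul_right,
        polar_smul_right, polar_self_zero hQu, hbu, smul_zero, add_zero, add_zero])
    (fun η h => if_neg fun h' => h'.2 h)
  have hs : ∑ η : W, ψ (polar Q b (η : V)) = 0 := by
    rw [Finset.sum_congr rfl fun η _ => by rw [polar_comm], sum_psi hψ hW hb, if_neg hb0]
  have key : ∀ k : W → ℂ,
      (∑ η : W, if polar Q b (η : V) = 0 ∧ polar Q u (η : V) = 0 then k η else 0) -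
        ∑ η : W, ψ (polar Q b (η : V)) * k η =
      -((∑ η : W, (if polar Q b (η : V) = 0 then (0 : ℂ) else ψ (polar Q b (η : V))) * k η) +
        ∑ η : W, (if polar Q b (η : V) = 0 ∧ polar Q u (η : V) ≠ 0 then (1 : ℂ) else 0) * k η) := by
    intro k
    rw [← Finset.sum_sub_distrib, ← Finset.sum_add_distrib, ← Finset.sum_neg_distrib]
    refine Finset.sum_congr rfl fun η _ => ?_
    by_cases p : polar Q b (η : V) = 0
    · by_cases r : polar Q u (η : V) = 0
      · rw [if_pos ⟨p, r⟩, if_pos p, if_neg (fun h => h.2 r), p, AddChar.map_zero_eq_one]; ring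
      · rw [if_neg (fun h => r h.2), if_pos p, if_pos ⟨p, r⟩, p, AddChar.map_zero_eq_one]; ring
    · rw [if_neg (fun h => p h.1), if_neg p, if_neg (fun h => p h.1)]; ring
  have h3 := key fun _ => 1
  simp only [mul_one, hs, sub_zero] at h3
  rw [key, Nat.card_eq_fintype_card, Fintype.card_subtype, ← Finset.sum_boole, h3]
  linear_combination (-1 : ℂ) * h1 - h2

end Sums

/-! ### The level -/

/-- A pair in a subspace with `j + 1` pairs. -/
structure Lv (Q : QuadraticForm F V) (U : Submodule F V) (a f : V) (j e : ℕ) : Prop where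
  space : Space Q
  sh : Sh Q U (j + 1) e
  ha : a ∈ U
  hf : f ∈ U
  hp : IsHPair Q (a, f)
  four : 4 ≤ 2 * j + e

variable {U : Submodule F V} {a f : V} {j e : ℕ}

namespace Lv

variable (L : Lv Q U a f j e)
include L

theorem sing : Q a = 0 := L.hp.1

theorem shW : Sh Q (lev Q U a f) j e := by simpa using L.sh.lev L.ha L.hf L.hp

theorem fourW : 4 ≤ finrank F (lev Q U a f) := by rw [L.shW.dim]; exact L.four

theorem six : 6 ≤ finrank F U := by
  have := L.four
  rw [L.sh.dim]
  omega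

theorem fr : Fr Q (fixGrp Q U) a (lev Q U a f) :=
  ⟨L.space, L.sing, fun _ hw => (mem_lev.1 hw).2.1, L.shW.nd,
    fun _ hw => E_mem L.space L.sing L.ha (mem_lev.1 hw).1 (mem_lev.1 hw).2.1⟩

theorem a_ne : a ≠ 0 := fun e => one_ne_zero (α := F) (by
  rw [← show polar Q a f = 1 from L.hp.2.2, e, polar_zero_left])

theorem fix_a {g : Om Q} (hg : g ∈ fixGrp Q (lev Q U a f)) : g • a = a :=
  hg a fun u hu => by rw [polar_comm]; exact (mem_lev.1 hu).2.1

theorem fix_f {g : Om Q} (hg : g ∈ fixGrp Q (lev Q U a f)) : g • f = f :=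
  hg f fun u hu => by rw [polar_comm]; exact (mem_lev.1 hu).2.2

/-- An element scaling the pair carries the orthogonal to itself. -/
theorem smul_mem {g : Om Q} (hg : g ∈ fixGrp Q U) {s t : F} (hs : s ≠ 0) (ht : t ≠ 0) (ea : g • a = s • a)
    (ef : g • f = t • f) {w : V} (hw : w ∈ lev Q U a f) : g • w ∈ lev Q U a f := by
  obtain ⟨h1, h2, h3⟩ := mem_lev.1 hw
  refine mem_lev.2 ⟨fixGrp_smul_mem L.space.pnd hg h1, ?_, ?_⟩
  · have h := polar_iso_smul g a w
    rw [ea, h2, polar_smul_left, smul_eq_mul] at h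
    exact (mul_eq_zero.1 h).resolve_left hs
  · have h := polar_iso_smul g f w
    rw [ef, h3, polar_smul_left, smul_eq_mul] at h
    exact (mul_eq_zero.1 h).resolve_left ht

end Lv

variable {M : Type*} [AddCommGroup M] [Module ℂ M] (ρ : Representation ℂ (fixGrp Q U) M) (ψ : AddChar F ℂ)

/-- All Siegel elements of `U` act trivially. -/
def Triv : Prop :=
  ∀ x z : V, x ∈ U → z ∈ U → Q x = 0 → polar Q x z = 0 → ρ (el (fixGrp Q U) (E x z : Om Q)) = 1

variable (a f)

open scoped _root_.Classical in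
/-- The multiplicity of the weights of one value. -/
noncomputable def multv (c : F) : ℕ :=
  if h : ∃ y ∈ lev Q U a f, y ≠ 0 ∧ Q y = c then mult ρ ψ a (lev Q U a f) h.choose else 0

variable {ρ ψ a f} [FiniteDimensional ℂ M] (L : Lv Q U a f j e) (hψ : ψ ≠ 1)
include L hψ

theorem mult_eq {y : V} (hy : y ∈ lev Q U a f) (hy0 : y ≠ 0) :
    mult ρ ψ a (lev Q U a f) y = multv a f ρ ψ (Q y) := by
  have h : ∃ z ∈ lev Q U a f, z ≠ 0 ∧ Q z = Q y := ⟨y, hy, hy0, rfl⟩
  rw [multv, dif_pos h]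
  obtain ⟨hz, hz0, hQz⟩ := h.choose_spec
  obtain ⟨g, hg, hgy⟩ := move_eq L.space L.shW.nd L.fourW hy hz hy0 hz0 hQz
  have hm := mult_move (ρ := ρ) L.fr hψ (fixGrp_mono (lev_le U a f) hg) one_ne_zero
    (by rw [one_smul]; exact L.fix_a hg) (fun w hw => fixGrp_smul_mem L.space.pnd hg hw) hy
  rw [inv_one, one_smul, hgy] at hm
  exact hm.symm

theorem finrank_split :
    finrank ℂ M = mult ρ ψ a (lev Q U a f) 0 +
      ∑ c : F, Nat.card {y : V // y ∈ lev Q U a f ∧ y ≠ 0 ∧ Q y = c} * multv a f ρ ψ c := by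
  classical
  haveI : Finite V := Module.finite_of_finite F
  haveI := Fintype.ofFinite V
  rw [finrank_eq_sum L.fr hψ, ← Finset.add_sum_erase _ _ (Finset.mem_univ (0 : lev Q U a f))]
  congr 1
  rw [← Finset.sum_fiberwise (Finset.univ.erase (0 : lev Q U a f)) (fun y => Q (y : V))]
  refine Finset.sum_congr rfl fun c _ => ?_
  rw [Finset.sum_congr rfl (g := fun _ => multv a f ρ ψ c) fun y hy => ?_, Finset.sum_const, smul_eq_mul]
  · congr 1
    rw [← Nat.card_eq_finsetCard]
    exact Nat.card_congr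
      { toFun := fun y => ⟨y.1.1, y.1.2, fun e0 => (Finset.mem_erase.1 (Finset.mem_filter.1 y.2).1).1 (Subtype.ext e0),
          (Finset.mem_filter.1 y.2).2⟩
        invFun := fun y => ⟨⟨y.1, y.2.1⟩, Finset.mem_filter.2 ⟨Finset.mem_erase.2
          ⟨fun e0 => y.2.2.1 (congrArg Subtype.val e0), Finset.mem_univ _⟩, y.2.2.2⟩⟩
        left_inv := fun y => rfl
        right_inv := fun y => rfl }
  · obtain ⟨h1, h2⟩ := Finset.mem_filter.1 hy
    rw [mult_eq L hψ y.2 (fun e0 => (Finset.mem_erase.1 h1).1 (Subtype.ext e0)), h2]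

theorem le_finrank (c : F) :
    mult ρ ψ a (lev Q U a f) 0 +
      Nat.card {y : V // y ∈ lev Q U a f ∧ y ≠ 0 ∧ Q y = c} * multv a f ρ ψ c ≤ finrank ℂ M := by
  rw [finrank_split L hψ]
  exact Nat.add_le_add_left (Finset.single_le_sum
    (f := fun c => Nat.card {y : V // y ∈ lev Q U a f ∧ y ≠ 0 ∧ Q y = c} * multv a f ρ ψ c)
    (fun _ _ => Nat.zero_le _) (Finset.mem_univ c)) _

theorem triv_of_opA (h : ∀ w ∈ lev Q U a f, opA ρ a w = 1) : Triv ρ := by
  intro x z hx hz hQx hxz
  by_cases hx0 : x = 0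
  · subst hx0
    rw [(E_eq_one_iff L.space hQx hxz).2 (Or.inl rfl), el_one, map_one]
  have h6 := L.six
  obtain ⟨g, hg, hgx⟩ := move_eq L.space L.sh.nd (by omega) hx L.ha hx0 L.a_ne (L.sing.trans hQx.symm)
  have h1 : polar Q a (g • z) = 0 := by rw [← hgx, polar_iso_smul, hxz]
  obtain ⟨w, hw⟩ : ∃ w, w = g • z - polar Q f (g • z) • a := ⟨_, rfl⟩
  have hwW : w ∈ lev Q U a f := by
    have := lev_proj L.ha L.hf L.hp (fixGrp_smul_mem L.space.pnd hg hz)
    rwa [h1, zero_smul, sub_zero, ← hw] at this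
  have hE : (E a (g • z) : Om Q) = E a w := by
    rw [← E_add_smul L.space L.sing (mem_lev.1 hwW).2.1 (polar Q f (g • z)), hw, sub_add_cancel]
  have hxm : (E x z : Om Q) ∈ fixGrp Q U := E_mem L.space hQx hx hz hxz
  have e1 : ρ (el _ g) * ρ (el _ (E x z : Om Q)) * ρ (el _ g⁻¹) = 1 := by
    rw [← map_mul, ← map_mul, ← el_mul hg hxm, ← el_mul (mul_mem hg hxm) (inv_mem hg), conj_E L.space hQx hxz,
      hgx, hE]
    exact h w hwW
  have h' : ρ (el _ g⁻¹) * ρ (el (fixGrp Q U) g) = 1 := by rw [← map_mul, el_inv hg, inv_mul_cancel, map_one]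
  calc ρ (el _ (E x z : Om Q))
      = ρ (el _ g⁻¹) * (ρ (el _ g) * ρ (el _ (E x z : Om Q)) * ρ (el _ g⁻¹)) * ρ (el _ g) := by
        rw [← mul_assoc, ← mul_assoc, h', one_mul, mul_assoc, h', mul_one]
    _ = 1 := by rw [e1, mul_one, h']

/-- The contradiction from a fixed Siegel element. -/
theorem multv_eq_zero {b u : V} (hb : b ∈ lev Q U a f) (hu : u ∈ lev Q U a f) (hQb : Q b = 0) (hQu : Q u = 0)
    (hbu : polar Q b u = 0) (hb0 : b ≠ 0) (hub : u ∉ F ∙ b)
    (hzero : ρ (el _ (E b u : Om Q)) * wt ρ ψ a (lev Q U a f) 0 = wt ρ ψ a (lev Q U a f) 0)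
    (hfix : ∀ η ∈ lev Q U a f, η ≠ 0 → mult ρ ψ a (lev Q U a f) η ≠ 0 → polar Q b η = 0 → polar Q u η = 0 →
      ρ (el _ (E b u : Om Q)) * wt ρ ψ a (lev Q U a f) η = wt ρ ψ a (lev Q U a f) η) (c : F) :
    multv a f ρ ψ c = 0 := by
  classical
  haveI : Finite V := Module.finite_of_finite F
  haveI := Fintype.ofFinite V
  obtain ⟨W, hW⟩ : ∃ W, W = lev Q U a f := ⟨_, rfl⟩
  have hbU := (mem_lev.1 hb).1
  have huU := (mem_lev.1 hu).1
  have hba : polar Q b a = 0 := by rw [polar_comm]; exact (mem_lev.1 hb).2.1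
  have hua : polar Q u a = 0 := by rw [polar_comm]; exact (mem_lev.1 hu).2.1
  have hbf : polar Q b f = 0 := by rw [polar_comm]; exact (mem_lev.1 hb).2.2
  have huf : polar Q u f = 0 := by rw [polar_comm]; exact (mem_lev.1 hu).2.2
  have hym : (E b u : Om Q) ∈ fixGrp Q U := E_mem L.space hQb hbU huU hbu
  have hya : (E b u : Om Q) • a = a := E_fix L.space hQb hbu hba hua
  have hyf : (E b u : Om Q) • f = f := E_fix L.space hQb hbu hbf huf
  -- the trace on each weight
  have ht : ∀ η : lev Q U a f, LinearMap.trace ℂ M (ρ (el _ (E b u : Om Q)) * wt ρ ψ a (lev Q U a f) (η : V)) =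
      if polar Q b (η : V) = 0 ∧ polar Q u (η : V) = 0 then (mult ρ ψ a (lev Q U a f) (η : V) : ℂ) else 0 := by
    intro η
    by_cases hfe : polar Q b (η : V) = 0 ∧ polar Q u (η : V) = 0
    · rw [if_pos hfe]
      have e : ρ (el _ (E b u : Om Q)) * wt ρ ψ a (lev Q U a f) (η : V) = wt ρ ψ a (lev Q U a f) (η : V) := by
        by_cases h0 : (η : V) = 0
        · rw [h0]; exact hzero
        by_cases hm : mult ρ ψ a (lev Q U a f) (η : V) = 0
        · rw [wt_eq_zero L.fr hm, mul_zero]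
        · exact hfix _ η.2 h0 hm hfe.1 hfe.2
      rw [e, trace_wt L.fr hψ η.2]
    · rw [if_neg hfe]
      have hmem : (E b u : Om Q) • (η : V) ∈ lev Q U a f :=
        L.smul_mem hym one_ne_zero one_ne_zero (by rw [one_smul]; exact hya) (by rw [one_smul]; exact hyf) η.2
      refine trace_moved L.fr hψ η.2 hmem (fun e0 => hfe ?_) ?_
      · rw [E_apply L.space hQb hbu, hQu, zero_mul, add_zero, sub_eq_add_neg, add_assoc, add_eq_left,
          ← sub_eq_add_neg, sub_eq_zero] at e0
        have hb' : polar Q b (η : V) = 0 := by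
          by_contra hne
          refine hub (Submodule.mem_span_singleton.2 ⟨(polar Q b (η : V))⁻¹ * polar Q u (η : V), ?_⟩)
          rw [← smul_smul, ← e0, smul_smul, inv_mul_cancel₀ hne, one_smul]
        rw [hb', zero_smul] at e0
        exact ⟨hb', (smul_eq_zero.1 e0.symm).resolve_right hb0⟩
      · have h1 := conj_wt (ρ := ρ) (ψ := ψ) L.fr hym one_ne_zero (by rw [one_smul]; exact hya)
          (fun w hw => L.smul_mem hym one_ne_zero one_ne_zero (by rw [one_smul]; exact hya)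
            (by rw [one_smul]; exact hyf) hw) (η : V)
        rwa [inv_one, one_smul] at h1
  -- the conjugate element
  obtain ⟨g, hg, hconj⟩ := exists_conj_E L.space L.sh.nd L.six L.ha L.hf L.hp hb hb0 hQb hbU huU hQb hQu hbu hb0 hub
  have hB : LinearMap.trace ℂ M (opA ρ a b) = LinearMap.trace ℂ M (ρ (el _ (E b u : Om Q))) := by
    rw [opA, ← hconj, el_mul (mul_mem hg hym) (inv_mem hg), el_mul hg hym, map_mul ρ, map_mul ρ,
      LinearMap.trace_mul_cycle, ← map_mul ρ (el _ g⁻¹), el_inv hg, inv_mul_cancel, map_one, one_mul]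
  have hY : LinearMap.trace ℂ M (ρ (el _ (E b u : Om Q))) =
      ∑ η : lev Q U a f,
        if polar Q b (η : V) = 0 ∧ polar Q u (η : V) = 0 then (mult ρ ψ a (lev Q U a f) (η : V) : ℂ) else 0 := by
    rw [← Finset.sum_congr rfl fun η _ => ht η, ← map_sum, ← Finset.mul_sum, sum_wt L.fr hψ, mul_one]
  have hA := trace_opA (ρ := ρ) L.fr hψ hb
  -- both sums in terms of the values
  have hm : ∀ η : lev Q U a f, (mult ρ ψ a (lev Q U a f) (η : V) : ℂ) = (multv a f ρ ψ (Q (η : V)) : ℂ) +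
      if (η : V) = 0 then (mult ρ ψ a (lev Q U a f) 0 : ℂ) - (multv a f ρ ψ 0 : ℂ) else 0 := by
    intro η
    by_cases h0 : (η : V) = 0
    · rw [if_pos h0, h0, QuadraticMap.map_zero]; ring
    · rw [if_neg h0, add_zero, mult_eq L hψ η.2 h0]
  have hd : ∀ η : lev Q U a f, ψ (polar Q b (η : V)) * (mult ρ ψ a (lev Q U a f) (η : V) : ℂ) -
      (if polar Q b (η : V) = 0 ∧ polar Q u (η : V) = 0 then (mult ρ ψ a (lev Q U a f) (η : V) : ℂ) else 0) =
      ψ (polar Q b (η : V)) * (multv a f ρ ψ (Q (η : V)) : ℂ) -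
        (if polar Q b (η : V) = 0 ∧ polar Q u (η : V) = 0 then (multv a f ρ ψ (Q (η : V)) : ℂ) else 0) := by
    intro η
    rw [hm η]
    by_cases h0 : (η : V) = 0
    · have hbu' : polar Q b (η : V) = 0 ∧ polar Q u (η : V) = 0 := by
        rw [h0, polar_zero_right, polar_zero_right]; exact ⟨rfl, rfl⟩
      rw [if_pos h0, if_pos hbu', if_pos hbu', hbu'.1, AddChar.map_zero_eq_one]; ring
    · rw [if_neg h0, add_zero]
  have hS := sum_fixed (fun c => (multv a f ρ ψ c : ℂ)) hψ L.shW.nd hb hQb hb0 hu hQu hbu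
  have h0' : (∑ η : lev Q U a f,
      if polar Q b (η : V) = 0 ∧ polar Q u (η : V) = 0 then (multv a f ρ ψ (Q (η : V)) : ℂ) else 0) -
        ∑ η : lev Q U a f, ψ (polar Q b (η : V)) * (multv a f ρ ψ (Q (η : V)) : ℂ) = 0 := by
    rw [← neg_sub, neg_eq_zero, ← Finset.sum_sub_distrib, ← Finset.sum_congr rfl fun η _ => hd η,
      Finset.sum_sub_distrib, ← hY, ← hB, hA, sub_eq_zero]
    exact Finset.sum_congr rfl fun η _ => mul_comm _ _
  rw [h0', mul_zero, eq_comm, mul_eq_zero] at hS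
  haveI : Nonempty {η : lev Q U a f // polar Q b (η : V) = 0 ∧ polar Q u (η : V) = 0} :=
    ⟨⟨0, polar_zero_right Q _, polar_zero_right Q _⟩⟩
  have hS' : ∑ c : F, multv a f ρ ψ c = 0 := by
    exact_mod_cast hS.resolve_left (Nat.cast_ne_zero.2 Nat.card_pos.ne')
  exact (Finset.sum_eq_zero_iff.1 hS') c (Finset.mem_univ c)

theorem mult_zero_all (h : ∀ c : F, multv a f ρ ψ c = 0) : Triv ρ :=
  triv_of_opA L hψ fun _ hw => trivial_of_mult L.fr hψ (fun y hy hy0 => by rw [mult_eq L hψ hy hy0, h]) hw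

/-- The value at the Siegel element of two orthogonal singular vectors. -/
theorem trace_single (h0 : ∀ c : F, c ≠ 0 → multv a f ρ ψ c = 0) {b : V} (hb : b ∈ lev Q U a f) (hQb : Q b = 0)
    (hb0 : b ≠ 0) : (Fintype.card F : ℂ) * ((finrank ℂ M : ℂ) - LinearMap.trace ℂ M (opA ρ a b)) =
      (Nat.card (lev Q U a f) : ℂ) * (multv a f ρ ψ 0 : ℂ) := by
  classical
  haveI : Finite V := Module.finite_of_finite F
  haveI := Fintype.ofFinite V
  rw [trace_opA L.fr hψ hb, finrank_eq_sum (ρ := ρ) L.fr hψ, Nat.cast_sum, ← Finset.sum_sub_distrib]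
  have hm : ∀ η : lev Q U a f,
      (mult ρ ψ a (lev Q U a f) (η : V) : ℂ) - (mult ρ ψ a (lev Q U a f) (η : V) : ℂ) * ψ (polar Q b (η : V)) =
      (multv a f ρ ψ (Q (η : V)) : ℂ) - ψ (polar Q b (η : V)) * (multv a f ρ ψ (Q (η : V)) : ℂ) := by
    intro η
    by_cases h : (η : V) = 0
    · rw [h, polar_zero_right, AddChar.map_zero_eq_one]; ring
    · rw [mult_eq L hψ η.2 h]; ring
  rw [Finset.sum_congr rfl fun η _ => hm η, Finset.sum_sub_distrib,
    sum_value (fun c => (multv a f ρ ψ c : ℂ)) hψ L.shW.nd hb hQb hb0,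
    Finset.sum_eq_single (0 : F) (fun c _ hc => by rw [h0 c hc, Nat.cast_zero])
      (fun h => absurd (Finset.mem_univ _) h)]

end Cfsg.Agent.Char.OmegaDeg
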