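import Cfsg.Agent.Lib.Char.OmegaDeg.Hyper
import Cfsg.Agent.Lib.Char.OmegaDeg.Family
import Cfsg.Agent.Lib.Char.OmegaDeg.Integral
import Cfsg.Agent.Lib.Classical.OrthIndex
import Cfsg.Agent.Lib.Char.SpecialLinearMinDegree

/-!
# The least degrees for the two even types
-/

set_option autoImplicit false
set_option linter.unusedSectionVars false
set_option linter.style.haveILetI false

universe u

namespace Cfsg.Agent.Char.OmegaDeg

open Module QuadraticMap Cfsg.Agent.Classical Cfsg.Agent.Classical.OCount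
open Cfsg.Agent.Small.OMinIndex

variable {F : Type u} [Field F] [Fintype F] {V : Type u} [AddCommGroup V] [Module F V] [FiniteDimensional F V]
  {Q : QuadraticForm F V}

theorem exists_lv (hS : Space Q) {U : Submodule F V} {j e : ℕ} (hsh : Sh Q U (j + 1) e) (h4 : 4 ≤ 2 * j + e) :
    ∃ a f, Lv Q U a f j e := by
  obtain ⟨a, ha, ha0, hQa⟩ := exists_sing_vec hsh (by omega)
  obtain ⟨f, hf, hp⟩ := partner_in hsh.nd ha ha0 hQa
  exact ⟨a, f, hS, hsh, ha, hf, hp, h4⟩

theorem exists_psi (F : Type u) [Field F] [Fintype F] : ∃ ψ : AddChar F ℂ, ψ ≠ 1 := by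
  haveI : Fact (Nat.Prime (ringChar F)) := ⟨CharP.char_is_prime F _⟩
  classical
  obtain ⟨ψ, x, hx⟩ := Char.SLPerm.exists_nontrivial_addChar (F := F) (L := ℂ) (ringChar F)
    (Nat.cast_ne_zero.2 (Fact.out : (ringChar F).Prime).ne_zero)
  exact ⟨ψ, AddChar.ne_one_iff.2 ⟨x, hx⟩⟩

variable {U : Submodule F V} {a f : V} {j e : ℕ} {M : Type} [AddCommGroup M] [Module ℂ M]
  [FiniteDimensional ℂ M] {ρ : Representation ℂ (fixGrp Q U) M} {ψ : AddChar F ℂ} (L : Lv Q U a f j e) (hψ : ψ ≠ 1)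
include L hψ

theorem mult_eq_one (hc : ∀ c : F, multv a f ρ ψ c ≤ 1) {η : V} (hη : η ∈ lev Q U a f) (hη0 : η ≠ 0)
    (hm : mult ρ ψ a (lev Q U a f) η ≠ 0) : mult ρ ψ a (lev Q U a f) η = 1 := by
  have := hc (Q η)
  have h := mult_eq (ρ := ρ) L hψ hη hη0
  omega

theorem sing_of_weight (hns : ∀ c : F, c ≠ 0 → multv a f ρ ψ c = 0) {η : V} (hη : η ∈ lev Q U a f) (hη0 : η ≠ 0)
    (hm : mult ρ ψ a (lev Q U a f) η ≠ 0) : Q η = 0 := by
  by_contra hQ
  rw [mult_eq L hψ hη hη0, hns _ hQ] at hm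
  exact hm rfl

theorem trace_value (hns : ∀ c : F, c ≠ 0 → multv a f ρ ψ c = 0) (h1 : multv a f ρ ψ 0 = 1) {b : V}
    (hb : b ∈ lev Q U a f) (hQb : Q b = 0) (hb0 : b ≠ 0) :
    LinearMap.trace ℂ M (opA ρ a b) = (((finrank ℂ M : ℤ) - (Fintype.card F : ℤ) ^ (2 * j + e - 1) : ℤ) : ℂ) := by
  have h := trace_single L hψ hns hb hQb hb0
  have h4 := L.four
  rw [h1, Nat.cast_one, mul_one, natCard_eq_pow_finrank (K := F), L.shW.dim, Nat.card_eq_fintype_card,
    show 2 * j + e = 2 * j + e - 1 + 1 by omega, Nat.cast_pow, pow_succ'] at h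
  have hq : (Fintype.card F : ℂ) ≠ 0 := Nat.cast_ne_zero.2 Fintype.card_ne_zero
  have h' := mul_left_cancel₀ hq h
  push_cast
  linear_combination -h'

theorem degree_dvd [Nontrivial M] (hirr : Irr ρ) (hns : ∀ c : F, c ≠ 0 → multv a f ρ ψ c = 0)
    (h1 : multv a f ρ ψ 0 = 1) (hj : 1 ≤ j) :
    ∃ K : ℕ, K * (Fintype.card F ^ 2 - 1) = n1 (Fintype.card F) e j * n1 (Fintype.card F) e (j + 1) ∧
      (finrank ℂ M : ℤ) ∣ (K : ℤ) * ((finrank ℂ M : ℤ) - (Fintype.card F : ℤ) ^ (2 * j + e - 1)) := by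
  obtain ⟨b, hb, hb0, hQb⟩ := exists_sing_vec L.shW hj
  refine ⟨_, ?_, dvd_class hirr L hb hb0 hQb (trace_value L hψ hns h1 hb hQb hb0)⟩
  rw [card_clSet L.space L.sh, n1, n1, Nat.add_sub_cancel]

theorem triv_of_zero (hnsing : ∀ c : F, c ≠ 0 → multv a f ρ ψ c = 0) (h0 : multv a f ρ ψ 0 = 0) : Triv ρ :=
  mult_zero_all L hψ fun c => by
    rcases eq_or_ne c 0 with rfl | hc
    · exact h0
    · exact hnsing c hc

theorem sing_le (hT : finrank ℂ M < tt (Fintype.card F) e (j + 1)) (he : e = 0 ∨ e = 2) (hj : 2 ≤ j) :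
    multv a f ρ ψ 0 ≤ 1 := by
  by_contra hne
  have h1 := sing_bound (ρ := ρ) L hψ
  have h2 := tt_le_twice (q := Fintype.card F) Fintype.one_lt_card he hj
  have h3 := Nat.mul_le_mul_left
    ((Fintype.card F ^ j - 1) * (Fintype.card F ^ (j - 1 + e) + 1)) (show 2 ≤ multv a f ρ ψ 0 by omega)
  simp only [n1] at h2
  omega

omit hψ in
theorem plus_nonsing (hψ : ψ ≠ 1) (he : e = 0) (hq : 4 ≤ Fintype.card F) (hj : 2 ≤ j)
    (hT : finrank ℂ M < tt (Fintype.card F) e (j + 1)) (c : F) (hc : c ≠ 0) : multv a f ρ ψ c = 0 := by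
  subst he
  by_contra hne
  obtain ⟨h2, h1⟩ := card_sqrt_one (F := F)
  have hσ : 0 < Nat.card {t : F // t * t = 1} := by
    haveI : Nonempty {t : F // t * t = 1} := ⟨⟨1, one_mul 1⟩⟩
    exact Nat.card_pos
  have hσ' : (5 ≤ Fintype.card F ∧ Nat.card {t : F // t * t = 1} ≤ 2) ∨
      (4 ≤ Fintype.card F ∧ Nat.card {t : F // t * t = 1} ≤ 1) := by
    rcases (show Fintype.card F = 4 ∨ 5 ≤ Fintype.card F by omega) with h4 | h5
    · refine Or.inr ⟨hq, h1 (mul_self_eq_zero.1 ?_)⟩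
      have h0 := Nat.cast_card_eq_zero F
      rw [h4] at h0
      push_cast at h0
      linear_combination h0
    · exact Or.inl ⟨h5, h2⟩
  have h3 := class_bound (ρ := ρ) L hψ hc
  have h4 := class_plus hj hσ'
  have h5 := (Nat.mul_lt_mul_left hσ).2 hT
  rw [show valNum (Fintype.card F) 0 j (base (Fintype.card F) 0) =
    (Fintype.card F ^ j - 1) * Fintype.card F ^ (j - 1) by simp [valNum, base]] at h3
  have h6 := Nat.le_mul_of_pos_right ((Fintype.card F ^ j - 1) * Fintype.card F ^ (j - 1)) (Nat.pos_of_ne_zero hne)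
  have h7 := Nat.mul_le_mul_left (Fintype.card F - 1) h6
  omega

omit L hψ in
theorem plus_six (hS : Space Q) (hq : 4 ≤ Fintype.card F) (hsh : Sh Q U 3 0) : Low Q U (tt (Fintype.card F) 0 3) := by
  refine low_of_irr fun M _ _ _ ρ _ hirr hT => ?_
  obtain ⟨a, f, L⟩ := exists_lv hS (j := 2) hsh (by norm_num)
  obtain ⟨ψ, hψ⟩ := exists_psi F
  have hns := plus_nonsing (ρ := ρ) L hψ rfl hq le_rfl hT
  have hg := sing_le (ρ := ρ) L hψ hT (Or.inl rfl) le_rfl
  by_cases hsmall : mult ρ ψ a (lev Q U a f) 0 < 2 * (Fintype.card F - 1)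
  · obtain ⟨b, u, hb, hu, hQb, hQu, hbu, hb0, hub, hzero⟩ := exists_small_fix hq L hψ hsmall
    refine mult_zero_all L hψ fun c => multv_eq_zero L hψ hb hu hQb hQu hbu hb0 hub hzero (fun η hη hη0 hm hbη huη => ?_) c
    have hQη := sing_of_weight L hψ hns hη hη0 hm
    refine fix_inside L hψ hq hη hη0 ?_ hb hu hQb hQu hbu hb0 hub
      (mem_span_of_two L.shW hb hu hη hQb hQu hQη hbu hbη huη hb0 hub)
    exact mult_eq_one L hψ (fun c => by
      rcases eq_or_ne c 0 with rfl | hc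
      · exact hg
      · rw [hns c hc]; exact Nat.zero_le _) hη hη0 hm
  rcases Nat.le_one_iff_eq_zero_or_eq_one.1 hg with h0 | h1
  · exact triv_of_zero L hψ hns h0
  exfalso
  have hlow := sing_bound (ρ := ρ) L hψ
  rw [h1, mul_one] at hlow
  change _ + n1 _ 0 2 ≤ _ at hlow
  have hT3 : tt (Fintype.card F) 0 3 = 2 * Fintype.card F + n1 (Fintype.card F) 0 2 + 1 := by
    rw [tt_succ _ 0 2 (by norm_num), tt_succ _ 0 1 le_rfl]
    simp only [tt, n1, pow_one, Nat.sub_self, zero_add, if_pos, pow_zero]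
    omega
  obtain ⟨K, hK, hdvd⟩ := degree_dvd L hψ hirr hns h1 (by norm_num)
  exact no_six hq (j := tt (Fintype.card F) 0 3 - finrank ℂ M) (by omega) (by omega) (by omega) hK hdvd

omit L hψ in
theorem plus_step (hS : Space Q) (hq : 4 ≤ Fintype.card F) (hj : 3 ≤ j) (hsh : Sh Q U (j + 1) 0)
    (ih : ∀ W : Submodule F V, Sh Q W j 0 → Low Q W (tt (Fintype.card F) 0 j)) :
    Low Q U (tt (Fintype.card F) 0 (j + 1)) := by
  refine low_of_irr fun M _ _ _ ρ _ hirr hT => ?_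
  obtain ⟨a, f, L⟩ := exists_lv hS hsh (by omega)
  obtain ⟨ψ, hψ⟩ := exists_psi F
  have hns := plus_nonsing (ρ := ρ) L hψ rfl hq (by omega) hT
  have hg := sing_le (ρ := ρ) L hψ hT (Or.inl rfl) (by omega)
  by_cases hsmall : mult ρ ψ a (lev Q U a f) 0 < tt (Fintype.card F) 0 j
  · obtain ⟨b, b', u, u', hFr⟩ := exists_frame2 L.shW (by omega)
    obtain ⟨hQb, hQu, hbu, hb0, hub⟩ := hFr.sing
    have hu : u ∈ lev Q U a f := (mem_lev.1 hFr.hu).1
    have hzero := zero_fix L hψ (ih _ L.shW) hsmall hFr.hb hu hQb hbu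
    refine mult_zero_all L hψ fun c =>
      multv_eq_zero L hψ hFr.hb hu hQb hQu hbu hb0 hub hzero (fun η hη hη0 hm hbη huη => ?_) c
    have h1 : mult ρ ψ a (lev Q U a f) η = 1 := mult_eq_one L hψ (fun c => by
      rcases eq_or_ne c 0 with rfl | hc
      · exact hg
      · rw [hns c hc]; exact Nat.zero_le _) hη hη0 hm
    by_cases hspan : η ∈ Submodule.span F ({b, u} : Set V)
    · exact fix_commutator L hψ hη h1 hFr.hb hu hQb hQu hbu hbη huη (Or.inl ⟨hspan, by rw [L.shW.dim]; omega⟩)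
    · exact fix_torus L hψ hq hη h1 hFr.hb hu hQb hQu hbu hbη huη hb0 hub hspan
  rcases Nat.le_one_iff_eq_zero_or_eq_one.1 hg with h0 | h1
  · exact triv_of_zero L hψ hns h0
  exfalso
  have hlow := sing_bound (ρ := ρ) L hψ
  rw [h1, mul_one] at hlow
  change _ + n1 _ 0 j ≤ _ at hlow
  obtain ⟨K, hK, hdvd⟩ := degree_dvd L hψ hirr hns h1 (by omega)
  have hT' := tt_succ (Fintype.card F) 0 j (by omega)
  exact no_plus (by omega) hj (D := finrank ℂ M) (by omega) hK hdvd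

omit L hψ in
theorem minus_six (hS : Space Q) (hsh : Sh Q U 2 2) : Low Q U (n1 (Fintype.card F) 2 1) := by
  refine low_of_irr fun M _ _ _ ρ _ _ hT => ?_
  obtain ⟨a, f, L⟩ := exists_lv hS (j := 1) hsh (by norm_num)
  obtain ⟨ψ, hψ⟩ := exists_psi F
  have hns : ∀ c : F, c ≠ 0 → multv a f ρ ψ c = 0 := fun c hc => by
    by_contra hne
    have h1 := value_bound (ρ := ρ) L hψ hc
    have h2 := class_minus (q := Fintype.card F) (j := 1) Fintype.card_pos
    rw [show base (Fintype.card F) 2 = Fintype.card F + 1 by simp [base]] at h1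
    have h3 := Nat.le_mul_of_pos_right (valNum (Fintype.card F) 2 1 (Fintype.card F + 1)) (Nat.pos_of_ne_zero hne)
    omega
  refine triv_of_zero L hψ hns ?_
  by_contra hne
  have h1 := sing_bound (ρ := ρ) L hψ
  have h3 := Nat.le_mul_of_pos_right ((Fintype.card F ^ 1 - 1) * (Fintype.card F ^ (1 - 1 + 2) + 1))
    (Nat.pos_of_ne_zero hne)
  simp only [n1] at hT
  omega

omit L hψ in
theorem minus_eight (hS : Space Q) (hsh : Sh Q U 3 2) : Low Q U (tt (Fintype.card F) 2 3) := by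
  refine low_of_irr fun M _ _ _ ρ _ hirr hT => ?_
  obtain ⟨a, f, L⟩ := exists_lv hS (j := 2) hsh (by norm_num)
  obtain ⟨ψ, hψ⟩ := exists_psi F
  have hq : 2 ≤ Fintype.card F := Fintype.one_lt_card
  have hT3 : tt (Fintype.card F) 2 3 = n1 (Fintype.card F) 2 1 + n1 (Fintype.card F) 2 2 + 2 := by
    rw [tt_succ _ 2 2 (by norm_num), tt_succ _ 2 1 le_rfl]
    simp only [tt, OfNat.ofNat_ne_zero, if_false]
    omega
  have hns : ∀ c : F, c ≠ 0 → multv a f ρ ψ c = 0 := fun c hc => by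
    by_contra hne
    have h1 := value_bound (ρ := ρ) L hψ hc
    rw [show base (Fintype.card F) 2 = Fintype.card F + 1 by simp [base]] at h1
    have h3 := Nat.le_mul_of_pos_right (valNum (Fintype.card F) 2 2 (Fintype.card F + 1)) (Nat.pos_of_ne_zero hne)
    have key : tt (Fintype.card F) 2 3 ≤ valNum (Fintype.card F) 2 2 (Fintype.card F + 1) := by
      rw [hT3]
      simp only [n1, valNum, Nat.reduceSub, Nat.reduceAdd, pow_one, zero_add]
      obtain ⟨p, hp⟩ : ∃ p, Fintype.card F = p + 2 := ⟨Fintype.card F - 2, by omega⟩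
      obtain ⟨r, hr⟩ : ∃ r, (p + 2) ^ 2 = r + 1 := ⟨_, (Nat.sub_add_cancel (Nat.one_le_pow _ _ (by omega))).symm⟩
      rw [hp, hr, Nat.add_sub_cancel, show p + 2 - 1 = p + 1 by omega]
      nlinarith
    omega
  have hg := sing_le (ρ := ρ) L hψ hT (Or.inr rfl) le_rfl
  have finish : ∀ {b u : V}, b ∈ lev Q U a f → u ∈ lev Q U a f → Q b = 0 → Q u = 0 → polar Q b u = 0 → b ≠ 0 →
      u ∉ F ∙ b → ρ (el (fixGrp Q U) (E b u : Om Q)) * wt ρ ψ a (lev Q U a f) 0 = wt ρ ψ a (lev Q U a f) 0 →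
      Triv ρ := by
    intro b u hb hu hQb hQu hbu hb0 hub hzero
    refine mult_zero_all L hψ fun c => multv_eq_zero L hψ hb hu hQb hQu hbu hb0 hub hzero (fun η hη hη0 hm hbη huη => ?_) c
    have hQη := sing_of_weight L hψ hns hη hη0 hm
    refine fix_commutator L hψ hη ?_ hb hu hQb hQu hbu hbη huη
      (Or.inl ⟨mem_span_of_two L.shW hb hu hη hQb hQu hQη hbu hbη huη hb0 hub, by rw [L.shW.dim]; omega⟩)
    exact mult_eq_one L hψ (fun c => by
      rcases eq_or_ne c 0 with rfl | hc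
      · exact hg
      · rw [hns c hc]; exact Nat.zero_le _) hη hη0 hm
  obtain ⟨b, b', u, u', hFr⟩ := exists_frame2 L.shW le_rfl
  obtain ⟨hQb, hQu, hbu, hb0, hub⟩ := hFr.sing
  have hu : u ∈ lev Q U a f := (mem_lev.1 hFr.hu).1
  by_cases hnt : Triv (zeroRep (ρ := ρ) L hψ)
  · refine finish hFr.hb hu hQb hQu hbu hb0 hub ?_
    refine LinearMap.ext fun w => ?_
    have h2 := congrArg Subtype.val
      (LinearMap.congr_fun (hnt b u hFr.hb hu hQb hbu) ⟨_, LinearMap.mem_range_self _ w⟩)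
    rw [zeroRep, restrictRep_apply _ _ _ _ (E_mem L.space hQb hFr.hb hu hbu)] at h2
    exact h2
  by_cases hle : mult ρ ψ a (lev Q U a f) 0 ≤ n1 (Fintype.card F) 2 1
  · exact triv_of_least L hψ hirr hle hns hg hnt
  rcases Nat.le_one_iff_eq_zero_or_eq_one.1 hg with h0 | h1
  · exact triv_of_zero L hψ hns h0
  exfalso
  have hlow := sing_bound (ρ := ρ) L hψ
  rw [h1, mul_one] at hlow
  change _ + n1 _ 2 2 ≤ _ at hlow
  obtain ⟨K, hK, hdvd⟩ := degree_dvd L hψ hirr hns h1 (by omega)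
  exact no_minus hq le_rfl (D := finrank ℂ M) (show finrank ℂ M + 1 = tt (Fintype.card F) 2 3 by omega) hK (by simpa using hdvd)

omit L hψ in
theorem minus_step (hS : Space Q) (hj : 3 ≤ j) (hsh : Sh Q U (j + 1) 2)
    (ih : ∀ W : Submodule F V, Sh Q W j 2 → Low Q W (tt (Fintype.card F) 2 j)) :
    Low Q U (tt (Fintype.card F) 2 (j + 1)) := by
  refine low_of_irr fun M _ _ _ ρ _ hirr hT => ?_
  obtain ⟨a, f, L⟩ := exists_lv hS hsh (by omega)
  obtain ⟨ψ, hψ⟩ := exists_psi F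
  have hq : 2 ≤ Fintype.card F := Fintype.one_lt_card
  have hg := sing_le (ρ := ρ) L hψ hT (Or.inr rfl) (by omega)
  have hcl := class_minus (q := Fintype.card F) (j := j) Fintype.card_pos
  have hb2 : base (Fintype.card F) 2 = Fintype.card F + 1 := by simp [base]
  have hc1 : ∀ c : F, multv a f ρ ψ c ≤ 1 := fun c => by
    rcases eq_or_ne c 0 with rfl | hc
    · exact hg
    by_contra hne
    have h1 := value_bound (ρ := ρ) L hψ hc
    rw [hb2] at h1
    have h2 := tt_le_twice (q := Fintype.card F) (e := 2) hq (Or.inr rfl) (show 2 ≤ j by omega)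
    have h3 := Nat.mul_le_mul_left (valNum (Fintype.card F) 2 j (Fintype.card F + 1))
      (show 2 ≤ multv a f ρ ψ c by omega)
    omega
  by_cases hsmall : mult ρ ψ a (lev Q U a f) 0 < tt (Fintype.card F) 2 j
  · obtain ⟨b, b', u, u', hFr⟩ := exists_frame2 L.shW (by omega)
    obtain ⟨hQb, hQu, hbu, hb0, hub⟩ := hFr.sing
    have hu : u ∈ lev Q U a f := (mem_lev.1 hFr.hu).1
    have hzero := zero_fix L hψ (ih _ L.shW) hsmall hFr.hb hu hQb hbu
    exact mult_zero_all L hψ fun c =>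
      multv_eq_zero L hψ hFr.hb hu hQb hQu hbu hb0 hub hzero (fun η hη hη0 hm hbη huη =>
        fix_commutator L hψ hη (mult_eq_one L hψ hc1 hη hη0 hm) hFr.hb hu hQb hQu hbu hbη huη
          (Or.inr (by rw [L.shW.dim]; omega))) c
  have hT' := tt_succ (Fintype.card F) 2 j (by omega)
  have hns : ∀ c : F, c ≠ 0 → multv a f ρ ψ c = 0 := fun c hc => by
    by_contra hne
    have h1 := value_bound (ρ := ρ) L hψ hc
    rw [hb2] at h1
    have h3 := Nat.le_mul_of_pos_right (valNum (Fintype.card F) 2 j (Fintype.card F + 1)) (Nat.pos_of_ne_zero hne)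
    omega
  rcases Nat.le_one_iff_eq_zero_or_eq_one.1 hg with h0 | h1
  · exact triv_of_zero L hψ hns h0
  exfalso
  have hlow := sing_bound (ρ := ρ) L hψ
  rw [h1, mul_one] at hlow
  change _ + n1 _ 2 j ≤ _ at hlow
  obtain ⟨K, hK, hdvd⟩ := degree_dvd L hψ hirr hns h1 (by omega)
  exact no_minus hq (show 2 ≤ j by omega) (D := finrank ℂ M) (by omega) hK (by simpa using hdvd)

omit L hψ in
theorem low_plus (hS : Space Q) (hq : 4 ≤ Fintype.card F) :
    ∀ j, 3 ≤ j → ∀ U : Submodule F V, Sh Q U j 0 → Low Q U (tt (Fintype.card F) 0 j) := by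
  intro j hj
  induction j, hj using Nat.le_induction with
  | base => exact fun U h => plus_six hS hq h
  | succ k hk ih => exact fun U h => plus_step hS hq hk h ih

omit L hψ in
theorem low_minus (hS : Space Q) :
    ∀ j, 3 ≤ j → ∀ U : Submodule F V, Sh Q U j 2 → Low Q U (tt (Fintype.card F) 2 j) := by
  intro j hj
  induction j, hj using Nat.le_induction with
  | base => exact fun U h => minus_eight hS h
  | succ k hk ih => exact fun U h => minus_step hS hk h ih

omit L hψ in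
/-- The bound for the group of matrices. -/
theorem le_degree {ι : Type} [Fintype ι] [DecidableEq ι] {Q : QuadraticForm F (ι → F)} (hS : Space Q) {T : ℕ}
    (hlow : Low Q ⊤ T) {k : ℕ} (ρ : Representation ℂ (Cfsg.Omega F ⇑Q) (Fin k → ℂ)) (hirr : ρ.IsIrreducible)
    (hk : 2 ≤ k) : T ≤ k := by
  by_contra hlt
  have hmap : (OOmega.rootGroup Q).map (ORefl.toMat Q).toMonoidHom = Cfsg.Omega F ⇑Q := by
    rw [OOmega.omega_eq_map, hS.commutator_eq]
  obtain ⟨e, he⟩ : ∃ e : Om Q ≃* ↥(Cfsg.Omega F ⇑Q), e =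
      ((OOmega.rootGroup Q).equivMapOfInjective _ (ORefl.toMat Q).injective).trans (MulEquiv.subgroupCongr hmap) :=
    ⟨_, rfl⟩
  have hmem : ∀ g : Om Q, g ∈ fixGrp Q (⊤ : Submodule F (ι → F)) := fun g z hz => by
    rw [hS.pnd z fun w => by rw [polar_comm]; exact hz w Submodule.mem_top, smul_zero']
  obtain ⟨σ, hσ⟩ : ∃ σ : Representation ℂ (fixGrp Q (⊤ : Submodule F (ι → F))) (Fin k → ℂ),
      σ = ρ.comp (e.toMonoidHom.comp (fixGrp Q (⊤ : Submodule F (ι → F))).subtype) := ⟨_, rfl⟩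
  have htriv := hlow (Fin k → ℂ) σ (by rw [finrank_fintype_fun_eq_card, Fintype.card_fin]; omega)
  have hone : ∀ g : Om Q, ρ (e g) = 1 := by
    intro g
    have h : g ∈ (ρ.comp e.toMonoidHom).ker := by
      rw [eq_top_of_E hS (K := (ρ.comp e.toMonoidHom).ker) fun x z hx hxz => ?_]
      · trivial
      have h' := htriv x z Submodule.mem_top Submodule.mem_top hx hxz
      rw [el_of_mem (hmem _), hσ] at h'
      exact h'
    exact h
  obtain ⟨S, hS'⟩ : ∃ S : Subrepresentation ρ, S.toSubmodule = ℂ ∙ (Pi.single ⟨0, by omega⟩ 1 : Fin k → ℂ) :=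
    ⟨⟨_, fun g v hv => by
      obtain ⟨g', rfl⟩ := e.surjective g
      rw [hone g']; exact hv⟩, rfl⟩
  have hd : finrank ℂ S.toSubmodule = 1 := by
    rw [hS']
    exact finrank_span_singleton (Pi.single_ne_zero_iff.2 one_ne_zero)
  haveI : IsSimpleOrder (Subrepresentation ρ) := hirr
  rcases eq_bot_or_eq_top S with h | h
  · rw [h] at hd
    have : finrank ℂ (⊥ : Submodule ℂ (Fin k → ℂ)) = 1 := hd
    rw [finrank_bot] at this
    omega
  · rw [h] at hd
    have : finrank ℂ (⊤ : Submodule ℂ (Fin k → ℂ)) = 1 := hd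
    rw [finrank_top, finrank_fintype_fun_eq_card, Fintype.card_fin] at this
    omega

omit L hψ in
theorem plus_formula {q n : ℕ} (hq : 2 ≤ q) (hn : 1 ≤ n) :
    (q ^ n - 1) * (q ^ (n - 1) + q) / (q ^ 2 - 1) = tt q 0 n := by
  have h4 : 4 ≤ q ^ 2 := Nat.pow_le_pow_left hq 2
  refine Nat.div_eq_of_eq_mul_right (by omega) ?_
  have h := tt_plus q (by omega) n hn
  zify [Nat.one_le_pow n q (by omega), show 1 ≤ q ^ 2 by omega]
  linear_combination -h

omit L hψ in
theorem minus_formula {q n : ℕ} (hq : 2 ≤ q) (hn : 2 ≤ n) :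
    (q ^ n + 1) * (q ^ (n - 1) - q) / (q ^ 2 - 1) = tt q 2 (n - 1) := by
  have h4 : 4 ≤ q ^ 2 := Nat.pow_le_pow_left hq 2
  refine Nat.div_eq_of_eq_mul_right (by omega) ?_
  have h := tt_minus q (by omega) (n - 1) (by omega)
  rw [show n - 1 + 1 = n by omega] at h
  zify [show q ≤ q ^ (n - 1) from Nat.le_self_pow (by omega) q, show 1 ≤ q ^ 2 by omega]
  linear_combination -h

end Cfsg.Agent.Char.OmegaDeg
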