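import Cfsg.Agent.Lib.Small.OMinIndex.Moves
import Cfsg.Agent.Lib.Small.OMinIndex.Dual

/-!
# Elements of `Ω` fixing the orthogonal of a nondegenerate subspace

Siegel elements and products of four reflections move the vectors of one value of a nondegenerate
subspace into one another.
-/

set_option autoImplicit false
set_option linter.unusedSectionVars false

namespace Cfsg.Agent.Char.OmegaDeg

open Module QuadraticMap Cfsg.Agent.Classical Cfsg.Agent.Classical.OCount
open Cfsg.Agent.Small.OMinIndex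

variable {F : Type*} [Field F] [Finite F] {V : Type*} [AddCommGroup V] [Module F V] [FiniteDimensional F V]
  {Q : QuadraticForm F V}

theorem polar_iso_smul (g : Om Q) (v w : V) : polar Q (g • v) (g • w) = polar Q v w :=
  Small.OMinIndex.polar_smul g v w

/-- The elements fixing the orthogonal of `U`. -/
def fixGrp (Q : QuadraticForm F V) (U : Submodule F V) : Subgroup (Om Q) where
  carrier := {g | ∀ z, (∀ u ∈ U, polar Q u z = 0) → g • z = z}
  one_mem' := fun _ _ => one_smul _ _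
  mul_mem' := fun {g h} hg hh z hz => by rw [mul_smul, hh z hz, hg z hz]
  inv_mem' := fun {g} hg z hz => by rw [inv_smul_eq_iff, hg z hz]

theorem mem_fixGrp {U : Submodule F V} {g : Om Q} :
    g ∈ fixGrp Q U ↔ ∀ z, (∀ u ∈ U, polar Q u z = 0) → g • z = z := Iff.rfl

theorem fixGrp_mono {W U : Submodule F V} (h : W ≤ U) : fixGrp Q W ≤ fixGrp Q U :=
  fun _ hg z hz => hg z fun u hu => hz u (h hu)

theorem fixGrp_fix {U : Submodule F V} {g : Om Q} (hg : g ∈ fixGrp Q U) {z : V}
    (hz : ∀ u ∈ U, polar Q u z = 0) : g • z = z := hg z hz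

/-- A nondegenerate subspace is carried to itself. -/
theorem fixGrp_smul_mem (hQ : PND Q) {U : Submodule F V} {g : Om Q} (hg : g ∈ fixGrp Q U) {x : V} (hx : x ∈ U) :
    g • x ∈ U := by
  by_contra hc
  obtain ⟨y, hy, hyx⟩ := ORefl.exists_polar_sep hQ hc 1
  have h2 : g • y = y := hg y fun u hu => by rw [polar_comm]; exact hy u hu
  rw [← h2, polar_iso_smul, hy x hx] at hyx
  exact zero_ne_one hyx

theorem E_mem (hS : Space Q) {U : Submodule F V} {a w : V} (ha : Q a = 0) (haU : a ∈ U) (hwU : w ∈ U)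
    (hw : polar Q a w = 0) : (E a w : Om Q) ∈ fixGrp Q U :=
  fun _ hz => E_fix hS ha hw (hz a haU) (hz w hwU)

/-! ### Nondegenerate subspaces -/

theorem pnd_restrict {U : Submodule F V} (hU : NonDeg Q U) : PND (Q.comp U.subtype) :=
  fun x hx => Subtype.ext (hU x.1 x.2 fun y hy => hx ⟨y, hy⟩)

theorem exists_sep_in {U : Submodule F V} (hU : NonDeg Q U) {S : Submodule F V} (hS : S ≤ U) {x : V} (hx : x ∈ U)
    (hxS : x ∉ S) (c : F) : ∃ z ∈ U, (∀ s ∈ S, polar Q z s = 0) ∧ polar Q z x = c := by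
  obtain ⟨z, hz, hzx⟩ := ORefl.exists_polar_sep (pnd_restrict hU) (H := S.comap U.subtype) (x := ⟨x, hx⟩) hxS c
  exact ⟨z.1, z.2, fun s hs => hz ⟨s, hS hs⟩ hs, hzx⟩

/-- The orthogonal of a pair inside `U`. -/
def lev (Q : QuadraticForm F V) (U : Submodule F V) (a f : V) : Submodule F V := perpIn Q (perpIn Q U a) f

theorem mem_lev {U : Submodule F V} {a f x : V} :
    x ∈ lev Q U a f ↔ x ∈ U ∧ polar Q a x = 0 ∧ polar Q f x = 0 := by
  rw [lev, mem_perpIn, mem_perpIn, and_assoc]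

theorem lev_le (U : Submodule F V) (a f : V) : lev Q U a f ≤ U := fun _ h => (mem_lev.1 h).1

theorem lev_proj {U : Submodule F V} {a f : V} (ha : a ∈ U) (hf : f ∈ U) (hp : IsHPair Q (a, f)) {x : V} (hx : x ∈ U) :
    x - polar Q f x • a - polar Q a x • f ∈ lev Q U a f := by
  obtain ⟨h1, h2⟩ := mem_comp.1 (exists_split hp x)
  exact mem_lev.2 ⟨U.sub_mem (U.sub_mem hx (U.smul_mem _ ha)) (U.smul_mem _ hf), h1, h2⟩

theorem nonDeg_lev {U : Submodule F V} (hU : NonDeg Q U) {a f : V} (ha : a ∈ U) (hf : f ∈ U)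
    (hp : IsHPair Q (a, f)) : NonDeg Q (lev Q U a f) := nonDeg_comp hU ha hf hp

/-- Every value is taken. -/
theorem exists_value {U : Submodule F V} (hU : NonDeg Q U) (h2 : 2 ≤ finrank F U) (c : F) :
    ∃ v ∈ U, Q v = c := by
  haveI := Fintype.ofFinite F
  obtain ⟨z, hz, hQz⟩ := hU.exists_ns fun e => by rw [e, finrank_bot] at h2; omega
  by_cases h : (2 : F) = 0
  · obtain ⟨r, hr⟩ := Small.QuadBasis.exists_sq h (c / Q z)
    exact ⟨r • z, U.smul_mem _ hz, by
      rw [QuadraticMap.map_smul, hr, smul_eq_mul, div_mul_cancel₀ _ hQz]⟩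
  · have hN : NonDeg Q (perpIn Q U z) := fun x hx hperp => by
      obtain ⟨hxU, hzx⟩ := mem_perpIn.1 hx
      refine hU x hxU fun u hu => ?_
      have hzz : polar Q z z = 2 * Q z := Small.QuadBasis.p_self Q z
      have hu' : u - (polar Q z u / polar Q z z) • z ∈ perpIn Q U z := mem_perpIn.2
        ⟨U.sub_mem hu (U.smul_mem _ hz), by
          rw [polar_sub_right, polar_smul_right, smul_eq_mul,
            div_mul_cancel₀ _ (by rw [hzz]; exact mul_ne_zero h hQz), sub_self]⟩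
      have h1 := hperp _ hu'
      rwa [polar_sub_right, polar_smul_right, polar_comm Q x z, hzx, smul_zero, sub_zero] at h1
    obtain ⟨z', hz', hQz'⟩ := hN.exists_ns fun e => by
      have h1 := finrank_perpIn (Q := Q) U z
      rw [e, finrank_bot] at h1
      omega
    obtain ⟨hz'U, hzz'⟩ := mem_perpIn.1 hz'
    obtain ⟨s, t, hst⟩ := Small.QuadBasis.exists_form_rep h (Q z) (Q z') c hQz hQz'
    refine ⟨s • z + t • z', U.add_mem (U.smul_mem _ hz) (U.smul_mem _ hz'U), ?_⟩
    rw [map_two, QuadraticMap.map_smul, QuadraticMap.map_smul, polar_smul_left, polar_smul_right, hzz',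
      smul_zero, smul_zero, smul_eq_mul, smul_eq_mul]
    linear_combination hst

/-- Two vectors orthogonal to a small subspace that are not orthogonal to each other. -/
theorem exists_polar_one {U : Submodule F V} (hU : NonDeg Q U) {S : Submodule F V} (hS : S ≤ U)
    {L : Submodule F V} (hL : ∀ z, z ∈ L ↔ z ∈ U ∧ ∀ s ∈ S, polar Q z s = 0)
    (hlt : finrank F S < finrank F L) : ∃ z ∈ L, ∃ z' ∈ L, polar Q z z' = 1 := by
  obtain ⟨x, hx, hxS⟩ : ∃ x ∈ L, x ∉ S := SetLike.not_le_iff_exists.mp fun h => by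
    have := Submodule.finrank_mono h
    omega
  obtain ⟨z, hz, hzS, hzx⟩ := exists_sep_in hU hS ((hL x).1 hx).1 hxS 1
  exact ⟨z, (hL z).2 ⟨hz, hzS⟩, x, hx, hzx⟩

theorem exists_commuting_pair {U : Submodule F V} (hU : NonDeg Q U) {b u η : V} (hb : b ∈ U) (hu : u ∈ U)
    (hη : η ∈ U) (h : (η ∈ Submodule.span F {b, u} ∧ 5 ≤ finrank F U) ∨ 7 ≤ finrank F U) :
    ∃ z ∈ U, ∃ z' ∈ U, polar Q z z' = 1 ∧ (polar Q b z = 0 ∧ polar Q u z = 0 ∧ polar Q η z = 0) ∧
      polar Q b z' = 0 ∧ polar Q u z' = 0 ∧ polar Q η z' = 0 := by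
  classical
  obtain ⟨L, hL⟩ : ∃ L, L = perpIn Q (perpIn Q (perpIn Q U b) u) η := ⟨_, rfl⟩
  have hmem : ∀ z, z ∈ L ↔ z ∈ U ∧ ∀ s ∈ Submodule.span F ({b, u, η} : Set V), polar Q z s = 0 := by
    intro z
    constructor
    · intro hz
      rw [hL, mem_perpIn, mem_perpIn, mem_perpIn] at hz
      refine ⟨hz.1.1.1, fun s hs => ?_⟩
      have hle : Submodule.span F ({b, u, η} : Set V) ≤ LinearMap.ker (Q.polarBilin z) := by
        refine Submodule.span_le.2 fun w hw => ?_
        simp only [Set.mem_insert_iff, Set.mem_singleton_iff] at hw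
        rw [SetLike.mem_coe, LinearMap.mem_ker, polarBilin_apply_apply, polar_comm]
        rcases hw with rfl | rfl | rfl
        · exact hz.1.1.2
        · exact hz.1.2
        · exact hz.2
      simpa using hle hs
    · rintro ⟨hz, hs⟩
      rw [hL, mem_perpIn, mem_perpIn, mem_perpIn]
      refine ⟨⟨⟨hz, ?_⟩, ?_⟩, ?_⟩ <;> rw [polar_comm] <;> refine hs _ (Submodule.subset_span ?_) <;> simp
  have h1 := finrank_perpIn (Q := Q) U b
  have h2 := finrank_perpIn (Q := Q) (perpIn Q U b) u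
  have h3 := finrank_perpIn (Q := Q) (perpIn Q (perpIn Q U b) u) η
  rw [← hL] at h3
  have key : finrank F (Submodule.span F ({b, u, η} : Set V)) < finrank F L := by
    rcases h with ⟨hspan, h5⟩ | h7
    · have e : Submodule.span F ({b, u, η} : Set V) = Submodule.span F ({b, u} : Set V) := by
        refine le_antisymm (Submodule.span_le.2 fun w hw => ?_) (Submodule.span_mono fun w hw => ?_)
        · simp only [Set.mem_insert_iff, Set.mem_singleton_iff] at hw
          rcases hw with rfl | rfl | rfl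
          · exact Submodule.subset_span (Set.mem_insert _ _)
          · exact Submodule.subset_span (Set.mem_insert_of_mem _ rfl)
          · exact hspan
        · simp only [Set.mem_insert_iff, Set.mem_singleton_iff] at hw ⊢
          tauto
      have hle : L = perpIn Q (perpIn Q U b) u := by
        refine le_antisymm (hL ▸ inf_le_left) fun z hz => hL ▸ mem_perpIn.2 ⟨hz, ?_⟩
        obtain ⟨α, β, hαβ⟩ := Submodule.mem_span_pair.1 hspan
        rw [mem_perpIn, mem_perpIn] at hz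
        rw [← hαβ, polar_add_left, polar_smul_left, polar_smul_left, hz.1.2, hz.2, smul_zero, smul_zero, add_zero]
      have hc : finrank F (Submodule.span F ({b, u} : Set V)) ≤ 2 := by
        have := finrank_span_finset_le_card (R := F) ({b, u} : Finset V)
        rw [Finset.coe_insert, Finset.coe_singleton] at this
        exact this.trans Finset.card_le_two
      rw [e, hle]
      omega
    · have hc : finrank F (Submodule.span F ({b, u, η} : Set V)) ≤ 3 := by
        have := finrank_span_finset_le_card (R := F) ({b, u, η} : Finset V)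
        rw [Finset.coe_insert, Finset.coe_insert, Finset.coe_singleton] at this
        exact this.trans Finset.card_le_three
      omega
  have hle : Submodule.span F ({b, u, η} : Set V) ≤ U := Submodule.span_le.2 fun w hw => by
    simp only [Set.mem_insert_iff, Set.mem_singleton_iff] at hw
    rcases hw with rfl | rfl | rfl <;> assumption
  obtain ⟨z, hz, z', hz', hzz⟩ := exists_polar_one hU hle hmem key
  rw [hL, mem_perpIn, mem_perpIn, mem_perpIn] at hz hz'
  exact ⟨z, hz.1.1.1, z', hz'.1.1.1, hzz, ⟨hz.1.1.2, hz.1.2, hz.2⟩, hz'.1.1.2, hz'.1.2, hz'.2⟩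

/-- `E b u` is a commutator of two Siegel elements. -/
theorem E_eq_commutator (hS : Space Q) {b u z z' : V} (hb : Q b = 0) (hu : Q u = 0) (hbu : polar Q b u = 0)
    (hzz : polar Q z z' = 1) (hbz : polar Q b z = 0) (huz : polar Q u z = 0) (hbz' : polar Q b z' = 0)
    (huz' : polar Q u z' = 0) :
    (E b u : Om Q) = E b z * E u z' * (E b z)⁻¹ * (E u z')⁻¹ := by
  have hzu : polar Q z u = 0 := by rw [polar_comm]; exact huz
  have hub : polar Q u (-b) = 0 := by rw [polar_neg_right, polar_comm, hbu, neg_zero]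
  rw [conj_E hS hu huz', E_fix hS hb hbz hbu hzu, E_apply_perp hS hb hbz hbz', hzz, one_smul, E_swap hS hb hbu hu,
    eq_mul_inv_iff_mul_eq, E_mul hS hu hub huz', neg_add_eq_sub]

/-- Siegel elements of a totally singular plane. -/
theorem E_combine' (hS : Space Q) {a w : V} (ha : Q a = 0) (hw : Q w = 0) (haw : polar Q a w = 0) (α β γ δ : F) :
    (E (α • a + β • w) (γ • a + δ • w) : Om Q) = E a ((α * δ - β * γ) • w) := by
  have hwa : polar Q w a = 0 := by rw [polar_comm]; exact haw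
  have h1 : ∀ s t : F, Q (s • a + t • w) = 0 := fun s t => by
    rw [map_two, QuadraticMap.map_smul, QuadraticMap.map_smul, ha, hw, polar_smul_left, polar_smul_right, haw]; simp
  have h2 : polar Q (α • a + β • w) (γ • a + δ • w) = 0 := by
    simp only [polar_add_left, polar_add_right, polar_smul_left, polar_smul_right, polar_self_zero ha,
      polar_self_zero hw, haw, hwa, smul_zero, add_zero]
  have h3 : polar Q a ((α * δ - β * γ) • w) = 0 := by rw [polar_smul_right, haw, smul_zero]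
  refine om_ext fun v => ?_
  rw [E_apply hS (h1 α β) h2, E_apply hS ha h3, h1, QuadraticMap.map_smul, hw]
  simp only [polar_add_left, polar_smul_left, smul_eq_mul]
  module

/-! ### Moves -/

variable (hS : Space Q)
include hS

/-- Scaling one pair inside `U`. -/
theorem exists_scale {U : Submodule F V} (hU : NonDeg Q U) (h4 : 4 ≤ finrank F U) {k l : V} (hk : k ∈ U) (hl : l ∈ U)
    (hp : IsHPair Q (k, l)) {t : F} (ht : t ≠ 0) :
    ∃ g ∈ fixGrp Q U, g • k = t • k ∧ g • l = t⁻¹ • l := by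
  have hd : 2 ≤ finrank F (lev Q U k l) := by
    have := finrank_comp_in (Q := Q) (U := U) k l
    rw [lev]
    omega
  obtain ⟨u', hu', hQu'⟩ := exists_value (nonDeg_lev hU hk hl hp) hd 1
  obtain ⟨v', hv', hQv'⟩ := exists_value (nonDeg_lev hU hk hl hp) hd t
  obtain ⟨hu'U, hku', hlu'⟩ := mem_lev.1 hu'
  obtain ⟨hv'U, hkv', hlv'⟩ := mem_lev.1 hv'
  have h1 : Q (k + l) = 1 := by simpa using value_pair hp 1
  have h2 : Q (k + t • l) = t := value_pair hp t
  obtain ⟨g, hg⟩ := hS.exists_refl_four (u := k + l) (v := k + t • l) (u' := u') (v' := v')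
    (by rw [h1]; exact one_ne_zero) (by rw [h2]; exact ht) (hQu'.trans h1.symm) (hQv'.trans h2.symm)
  obtain ⟨a, b, -⟩ := refl_pair_apply hp ht
  refine ⟨g, fun z hz => ?_, ?_, ?_⟩
  · rw [hg, ORefl.refl_fix (hz v' hv'U), ORefl.refl_fix (hz u' hu'U),
      ORefl.refl_fix (hz _ (U.add_mem hk (U.smul_mem _ hl))), ORefl.refl_fix (hz _ (U.add_mem hk hl))]
  · rw [hg, ORefl.refl_fix (v := v') (by rw [polar_comm]; exact hkv'),
      ORefl.refl_fix (v := u') (by rw [polar_comm]; exact hku'), a]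
  · rw [hg, ORefl.refl_fix (v := v') (by rw [polar_comm]; exact hlv'),
      ORefl.refl_fix (v := u') (by rw [polar_comm]; exact hlu'), b]

/-- Scaling two orthogonal pairs of `U` by the same scalar. -/
theorem exists_scale_two {U : Submodule F V} {k l k' l' : V} (hk : k ∈ U) (hl : l ∈ U) (hk' : k' ∈ U) (hl' : l' ∈ U)
    (hp : IsHPair Q (k, l)) (hr : IsHPair Q (k', l')) (h1 : k' ∈ comp Q (k, l)) (h2 : l' ∈ comp Q (k, l))
    {t : F} (ht : t ≠ 0) :
    ∃ g ∈ fixGrp Q U, g • k = t • k ∧ g • l = t⁻¹ • l ∧ g • k' = t • k' ∧ g • l' = t⁻¹ • l' ∧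
      ∀ x, polar Q k x = 0 → polar Q l x = 0 → polar Q k' x = 0 → polar Q l' x = 0 → g • x = x := by
  obtain ⟨g, e1, e2, e3, e4, e5⟩ := exists_torus_two hS hp hr h1 h2 ht
  exact ⟨g, fun z hz => e5 z (hz k hk) (hz l hl) (hz k' hk') (hz l' hl'), e1, e2, e3, e4, e5⟩

theorem exists_sing_nonperp {U : Submodule F V} (hU : NonDeg Q U) (h3 : 3 ≤ finrank F U) {x : V} (hx : x ∈ U)
    (hx0 : x ≠ 0) : ∃ k ∈ U, Q k = 0 ∧ polar Q k x ≠ 0 := by
  haveI := Fintype.ofFinite F
  obtain ⟨k, hk, hk0, hQk⟩ := Small.QuadBasis.exists_singular Q h3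
  obtain ⟨l, hl, hp⟩ := exists_partner_in hk hQk (by
    by_contra! hc
    exact hk0 (hU k hk hc))
  by_contra! hc
  exact hx0 (hU x hx fun u hu => perp_of_singular hk hl hp
    (fun s hs hQs => by rw [polar_comm]; exact hc s hs hQs) hu)

theorem exists_normal {U : Submodule F V} (hU : NonDeg Q U) (h4 : 4 ≤ finrank F U) {x k l : V} (hx : x ∈ U)
    (hk : k ∈ U) (hl : l ∈ U) (hp : IsHPair Q (k, l)) (hkx : polar Q k x ≠ 0) :
    ∃ g ∈ fixGrp Q U, g • x = Q x • k + l := by
  obtain ⟨β, hβ⟩ : ∃ β, β = polar Q k x := ⟨_, rfl⟩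
  have hβ0 : β ≠ 0 := hβ ▸ hkx
  have hQk : Q k = 0 := hp.1
  have hQl : Q l = 0 := hp.2.1
  have hkl : polar Q k l = 1 := hp.2.2
  obtain ⟨y, hy⟩ : ∃ y, y = (β⁻¹ * Q x) • k + β • l := ⟨_, rfl⟩
  have hky : polar Q k y = β := by
    rw [hy, polar_add_right, polar_smul_right, polar_smul_right, polar_self_zero hQk, hkl]
    simp
  have hQy : Q y = Q x := by
    rw [hy, map_two, QuadraticMap.map_smul, QuadraticMap.map_smul, polar_smul_left, polar_smul_right, hQk, hQl, hkl]
    simp only [smul_eq_mul, mul_zero, add_zero, zero_add, mul_one]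
    field_simp
  obtain ⟨w, hw⟩ : ∃ w, w = β⁻¹ • (y - x) := ⟨_, rfl⟩
  have hwU : w ∈ U :=
    hw ▸ U.smul_mem _ (U.sub_mem (hy ▸ U.add_mem (U.smul_mem _ hk) (U.smul_mem _ hl)) hx)
  have hkw : polar Q k w = 0 := by rw [hw, polar_smul_right, polar_sub_right, hky, ← hβ, sub_self, smul_zero]
  have h1 : (E k w : Om Q) • x = y := by
    have hbw : β • w = y - x := by rw [hw, smul_smul, mul_inv_cancel₀ hβ0, one_smul]
    have hz : polar Q w x + Q w * β = 0 := by
      rw [hw, QuadraticMap.map_smul, polar_smul_left, polar_sub_left, ORefl.map_sub_two, hQy,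
        ORefl.polar_self_two]
      simp only [smul_eq_mul]
      field_simp
      ring
    rw [E_apply hS hQk hkw, ← hβ, hbw, hz, zero_smul, sub_zero, add_sub_cancel]
  obtain ⟨h, hh, hhk, hhl⟩ := exists_scale hS hU h4 hk hl hp hβ0
  refine ⟨h * E k w, mul_mem hh (E_mem hS hQk hk hwU hkw), ?_⟩
  rw [mul_smul, h1, hy, smul_add, smul_scalar, smul_scalar, hhk, hhl, smul_smul, smul_smul, mul_inv_cancel₀ hβ0,
    one_smul, mul_right_comm, inv_mul_cancel₀ hβ0, one_mul]

/-- Transitivity on the nonzero vectors of one value. -/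
theorem move_eq {U : Submodule F V} (hU : NonDeg Q U) (h4 : 4 ≤ finrank F U) {x y : V} (hx : x ∈ U) (hy : y ∈ U)
    (hx0 : x ≠ 0) (hy0 : y ≠ 0) (hxy : Q y = Q x) : ∃ g ∈ fixGrp Q U, g • x = y := by
  have partner : ∀ {k z : V}, k ∈ U → Q k = 0 → z ∈ U → polar Q k z ≠ 0 → ∃ l ∈ U, IsHPair Q (k, l) :=
    fun {k z} hk hQk hz h => exists_partner_in hk hQk ⟨z, hz, h⟩
  obtain ⟨k, hk, hQk, hkx⟩ := exists_sing_nonperp hS hU (by omega) hx hx0
  obtain ⟨k', hk', hQk', hky⟩ := exists_sing_nonperp hS hU (by omega) hy hy0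
  obtain ⟨l, hl, hp⟩ := partner hk hQk hx hkx
  obtain ⟨l', hl', hp'⟩ := partner hk' hQk' hy hky
  have hk0 : k ≠ 0 := fun e => hkx (by rw [e, polar_zero_left])
  have hk'0 : k' ≠ 0 := fun e => hky (by rw [e, polar_zero_left])
  obtain ⟨g₁, hg₁, e₁⟩ := exists_normal hS hU h4 hx hk hl hp hkx
  obtain ⟨g₃, hg₃, e₃⟩ := exists_normal hS hU h4 hy hk' hl' hp' hky
  obtain ⟨g₂, t, ht, e₂, hfix⟩ := exists_move_point hS hU (by omega) hk hk' hk0 hk'0 hQk hQk'
  have hg₂ : g₂ ∈ fixGrp Q U := hfix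
  obtain ⟨z, hz⟩ : ∃ z, z = g₂ • (g₁ • x) := ⟨_, rfl⟩
  have hzU : z ∈ U := hz ▸ fixGrp_smul_mem hS.pnd hg₂ (fixGrp_smul_mem hS.pnd hg₁ hx)
  have hkz : polar Q k' z ≠ 0 := by
    intro h
    have h1 : polar Q (g₂ • k) z = 0 := by rw [e₂, polar_smul_left, h, smul_zero]
    rw [hz, polar_iso_smul, e₁, polar_add_right, polar_smul_right, polar_self_zero hQk, smul_zero, zero_add] at h1
    exact one_ne_zero ((hp.2.2).symm.trans h1)
  obtain ⟨g₄, hg₄, e₄⟩ := exists_normal hS hU h4 hzU hk' hl' hp' hkz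
  refine ⟨g₃⁻¹ * (g₄ * (g₂ * g₁)), mul_mem (inv_mem hg₃) (mul_mem hg₄ (mul_mem hg₂ hg₁)), ?_⟩
  rw [mul_smul, inv_smul_eq_iff, mul_smul, mul_smul, ← hz, e₄, e₃, hxy, hz, form_smul, form_smul]

/-- The Siegel elements of orthogonal independent singular vectors are conjugate. -/
theorem exists_conj_E {U : Submodule F V} (hU : NonDeg Q U) (h6 : 6 ≤ finrank F U) {a f b x z : V} (ha : a ∈ U)
    (hf : f ∈ U) (hp : IsHPair Q (a, f)) (hb : b ∈ lev Q U a f) (hb0 : b ≠ 0) (hQb : Q b = 0) (hx : x ∈ U)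
    (hz : z ∈ U) (hQx : Q x = 0) (hQz : Q z = 0) (hxz : polar Q x z = 0) (hx0 : x ≠ 0) (hzx : z ∉ F ∙ x) :
    ∃ g ∈ fixGrp Q U, g * E x z * g⁻¹ = E a b := by
  have ha0 : a ≠ 0 := fun e => one_ne_zero (α := F) (by
    rw [← show polar Q a f = 1 from hp.2.2, e, polar_zero_left])
  have hQa : Q a = 0 := hp.1
  obtain ⟨g, hg, hgx⟩ := move_eq hS hU (by omega) hx ha hx0 ha0 (hQa.trans hQx.symm)
  have h1 : polar Q a (g • z) = 0 := by rw [← hgx, polar_iso_smul, hxz]
  obtain ⟨w, hw⟩ : ∃ w, w = g • z - polar Q f (g • z) • a := ⟨_, rfl⟩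
  have hwW : w ∈ lev Q U a f := by
    have := lev_proj ha hf hp (fixGrp_smul_mem hS.pnd hg hz)
    rwa [h1, zero_smul, sub_zero, ← hw] at this
  have hw0 : w ≠ 0 := fun e => hzx (by
    rw [hw, sub_eq_zero, ← hgx, ← smul_scalar] at e
    exact Submodule.mem_span_singleton.2 ⟨_, (smul_inj g e).symm⟩)
  have hQw : Q w = 0 := by
    rw [hw, ORefl.map_sub_two, form_smul, hQz, QuadraticMap.map_smul, hQa, polar_smul_right, polar_comm Q (g • z) a, h1,
      smul_zero, smul_zero, add_zero, sub_zero]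
  have h4 : 4 ≤ finrank F (lev Q U a f) := by
    have := finrank_comp_in (Q := Q) (U := U) a f
    rw [lev]
    omega
  obtain ⟨h, hh, hhw⟩ := move_eq hS (nonDeg_lev hU ha hf hp) h4 hwW hb hw0 hb0 (hQb.trans hQw.symm)
  have hha : h • a = a := hh a fun u hu => by rw [polar_comm]; exact (mem_lev.1 hu).2.1
  have haw : polar Q a w = 0 := (mem_lev.1 hwW).2.1
  have hE : (E a (g • z) : Om Q) = E a w := by
    rw [← E_add_smul hS hQa haw (polar Q f (g • z)), hw, sub_add_cancel]
  refine ⟨h * g, mul_mem (fixGrp_mono (lev_le U a f) hh) hg, ?_⟩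
  rw [show h * g * E x z * (h * g)⁻¹ = h * (g * E x z * g⁻¹) * h⁻¹ by group, conj_E hS hQx hxz, hgx, hE,
    conj_E hS hQa haw, hha, hhw]

end Cfsg.Agent.Char.OmegaDeg
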