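import Cfsg.Agent.Lib.Char.OmegaDeg.OddFix
import Cfsg.Agent.Lib.Small.OMinIndex.Nice

/-!
# Counts and moves in odd dimension
-/

set_option autoImplicit false
set_option linter.unusedSectionVars false
set_option linter.style.haveILetI false

universe u

namespace Cfsg.Agent.Char.OmegaDeg

open Module QuadraticMap Cfsg.Agent.Classical Cfsg.Agent.Classical.OCount
open Cfsg.Agent.Small.OMinIndex

variable {F : Type u} [Field F] [Fintype F] {V : Type u} [AddCommGroup V] [Module F V] [FiniteDimensional F V]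
  {Q : QuadraticForm F V}

variable {M : Type} [AddCommGroup M] [Module ℂ M] [FiniteDimensional ℂ M]
  {ρ : Representation ℂ (fixGrp Q (⊤ : Submodule F V)) M} {ψ : AddChar F ℂ} {a f : V} {m : ℕ}

namespace Ctx

variable (C : Ctx ρ ψ a f m)
include C

theorem card_W : Nat.card (lev Q ⊤ a f) = Fintype.card F ^ (2 * m + 1) := by
  rw [natCard_eq_pow_finrank (K := F), C.dimW, Nat.card_eq_fintype_card]

theorem card_zero : Nat.card {w : lev Q ⊤ a f // Q (w : V) = 0} = Fintype.card F ^ (2 * m) := by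
  rw [show Nat.card {w : lev Q ⊤ a f // Q (w : V) = 0} = Nat.card {x : V // x ∈ lev Q ⊤ a f ∧ Q x = 0} from
    Nat.card_congr
      { toFun := fun w => ⟨w.1.1, w.1.2, w.2⟩
        invFun := fun x => ⟨⟨x.1, x.2.1⟩, x.2.2⟩
        left_inv := fun w => rfl
        right_inv := fun x => rfl }, C.L.shW.sing, Classical.Elusive.OTs.valNum_one Fintype.card_pos]
  have := C.two_le
  obtain ⟨X, hX⟩ : ∃ X, Fintype.card F ^ m = X + 1 :=
    ⟨_, (Nat.sub_add_cancel (Nat.one_le_pow _ _ Fintype.card_pos)).symm⟩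
  rw [show m - 1 + 1 = m by omega, show 2 * m = m + m by omega, pow_add, hX, Nat.add_sub_cancel]
  ring

theorem mul_card_zero : Fintype.card F * Fintype.card F ^ (2 * m) = Nat.card (lev Q ⊤ a f) := by
  rw [C.card_W, pow_succ']

theorem card_points : Nat.card {x : V // x ≠ 0 ∧ Q x = 0} = Fintype.card F ^ (2 * m + 2) - 1 := by
  rw [show Nat.card {x : V // x ≠ 0 ∧ Q x = 0} = Nat.card {x : V // x ∈ (⊤ : Submodule F V) ∧ x ≠ 0 ∧ Q x = 0} from
    Nat.card_congr (Equiv.subtypeEquivRight fun x => by simp), C.L.sh.card_sing]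
  obtain ⟨X, hX⟩ : ∃ X, Fintype.card F ^ (m + 1) = X + 1 :=
    ⟨_, (Nat.sub_add_cancel (Nat.one_le_pow _ _ Fintype.card_pos)).symm⟩
  rw [Nat.add_sub_cancel, show 2 * m + 2 = (m + 1) + (m + 1) by omega, pow_add (Fintype.card F) (m + 1) (m + 1), hX,
    Nat.add_sub_cancel]
  rw [show (X + 1) * (X + 1) = X * (X + 1 + 1) + 1 by ring, Nat.add_sub_cancel]

theorem card_far : Nat.card {x : V // Q x = 0 ∧ polar Q a x ≠ 0} =
    (Fintype.card F - 1) * Fintype.card F ^ (2 * m + 1) := by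
  classical
  have hS := C.L.space
  have hp := C.hp
  have haf : polar Q a f = 1 := hp.2.2
  rw [← C.card_W, show Fintype.card F - 1 = Nat.card {s : F // s ≠ 0} by
    rw [Nat.card_eq_fintype_card, Fintype.card_subtype_compl, Fintype.card_subtype_eq], ← Nat.card_prod]
  have hmem : ∀ (s : {s : F // s ≠ 0}) (y : lev Q ⊤ a f),
      Q ((E a (y : V) : Om Q) • (s.1 • f)) = 0 ∧ polar Q a ((E a (y : V) : Om Q) • (s.1 • f)) = s.1 := by
    intro s y
    refine ⟨by rw [form_smul, QuadraticMap.map_smul, show Q f = 0 from hp.2.1, smul_zero], ?_⟩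
    have h := polar_iso_smul (E a (y : V) : Om Q) a (s.1 • f)
    rw [E_fix_self hS (show Q a = 0 from hp.1) (mem_lev.1 y.2).2.1, polar_smul_right, haf, smul_eq_mul, mul_one] at h
    exact h
  refine (Nat.card_eq_of_bijective (fun p : {s : F // s ≠ 0} × lev Q ⊤ a f =>
    (⟨_, (hmem p.1 p.2).1, by rw [(hmem p.1 p.2).2]; exact p.1.2⟩ : {x : V // Q x = 0 ∧ polar Q a x ≠ 0}))
    ⟨fun p p' h => ?_, fun x => ?_⟩).symm
  · have h' : (E a (p.2 : V) : Om Q) • (p.1.1 • f) = (E a (p'.2 : V) : Om Q) • (p'.1.1 • f) := congrArg Subtype.val h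
    have hs : p.1.1 = p'.1.1 := by rw [← (hmem p.1 p.2).2, h', (hmem p'.1 p'.2).2]
    rw [← hs, smul_scalar, smul_scalar] at h'
    have h'' := smul_right_injective V p.1.2 h'
    rw [E_partner hS hp.1 (mem_lev.1 p.2.2).2.1 haf, E_partner hS hp.1 (mem_lev.1 p'.2.2).2.1 haf] at h''
    have key : (p.2 : V) - p'.2 = (Q (p.2 : V) - Q (p'.2 : V)) • a := by
      rw [polar_comm Q (p.2 : V) f, polar_comm Q (p'.2 : V) f, (mem_lev.1 p.2.2).2.2, (mem_lev.1 p'.2.2).2.2] at h''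
      rw [← sub_eq_zero] at h'' ⊢
      rw [← h'']; simp only [zero_add]; module
    have hc := congrArg (polar Q f) key
    rw [polar_sub_right, (mem_lev.1 p.2.2).2.2, (mem_lev.1 p'.2.2).2.2, polar_smul_right, polar_comm Q f a, haf,
      smul_eq_mul, mul_one, sub_zero] at hc
    rw [← hc, zero_smul, sub_eq_zero] at key
    exact Prod.ext (Subtype.ext hs) (Subtype.ext key)
  · obtain ⟨x, hQx, hax⟩ := x
    obtain ⟨y, hy, e⟩ := to_f hS hp C.L.ha C.L.hf Submodule.mem_top hQx hax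
    refine ⟨(⟨_, hax⟩, ⟨-y, Submodule.neg_mem _ hy⟩), Subtype.ext ?_⟩
    show (E a (-y) : Om Q) • (polar Q a x • f) = x
    rw [← e, ← E_inv hS hp.1 (mem_lev.1 hy).2.1, inv_smul_smul]

theorem card_line : Nat.card {x : V // (x ≠ 0 ∧ Q x = 0) ∧ x ∈ F ∙ a} = Fintype.card F - 1 := by
  classical
  rw [show Fintype.card F - 1 = Nat.card {s : F // s ≠ 0} by
    rw [Nat.card_eq_fintype_card, Fintype.card_subtype_compl, Fintype.card_subtype_eq]]
  have ha0 := C.L.a_ne
  refine (Nat.card_eq_of_bijective (fun s : {s : F // s ≠ 0} =>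
    (⟨s.1 • a, ⟨smul_ne_zero s.2 ha0, by rw [QuadraticMap.map_smul, show Q a = 0 from C.hp.1, smul_zero]⟩,
      Submodule.smul_mem _ _ (Submodule.mem_span_singleton_self a)⟩ : {x : V // (x ≠ 0 ∧ Q x = 0) ∧ x ∈ F ∙ a}))
    ⟨fun s s' h => Subtype.ext (smul_left_injective F ha0 (congrArg Subtype.val h)), fun x => ?_⟩).symm
  obtain ⟨t, ht⟩ := Submodule.mem_span_singleton.1 x.2.2
  exact ⟨⟨t, fun e => x.2.1.1 (by rw [← ht, e, zero_smul])⟩, Subtype.ext ht⟩

/-- Scaling the pair without moving a vector of the orthogonal. -/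
theorem exists_torus_fix {w : V} (hw : w ∈ lev Q ⊤ a f) (hQw : Q w ≠ 0) {t : F} (ht : t ≠ 0) :
    ∃ g : Om Q, g • a = t • a ∧ g • f = t⁻¹ • f ∧ g • w = w := by
  obtain ⟨-, haw, hfw⟩ := mem_lev.1 hw
  have hU : NonDeg Q (perpIn Q ⊤ w) := C.L.sh.nd.perp C.two Submodule.mem_top hQw
  have h4 : 4 ≤ finrank F (perpIn Q ⊤ w) := by
    have := finrank_perpIn (Q := Q) (⊤ : Submodule F V) w
    rw [C.L.sh.dim] at this
    have := C.two_le
    omega
  obtain ⟨g, hg, e1, e2⟩ := exists_scale C.L.space hU h4 (mem_perpIn.2 ⟨Submodule.mem_top, by rw [polar_comm]; exact haw⟩)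
    (mem_perpIn.2 ⟨Submodule.mem_top, by rw [polar_comm]; exact hfw⟩) C.hp ht
  exact ⟨g, e1, e2, hg w fun u hu => by rw [polar_comm]; exact (mem_perpIn.1 hu).2⟩

/-- An exchange conjugated by such an element. -/
theorem conj_flip_torus {w : V} (hw : w ∈ lev Q ⊤ a f) {g : Om Q} {t : F} (ht : t ≠ 0)
    (e1 : g • a = t • a) (e2 : g • f = t⁻¹ • f) (e3 : g • w = w) :
    g * flip Q a f w * g⁻¹ = flip Q a f (t⁻¹ • w) := by
  obtain ⟨-, haw, hfw⟩ := mem_lev.1 hw
  rw [conj_flip C.L.space C.hp haw hfw, e1, e2, e3, flip_scale C.L.space C.hp haw hfw ht]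

end Ctx

end Cfsg.Agent.Char.OmegaDeg
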