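import Cfsg.Agent.Lib.Char.OmegaDeg.OddVec

/-!
# The projections along anisotropic lines

The exchange along `z` carries the projection `y` of the fixed vector along `z` to `y'`.  The `q + 1` points
`y` and `E a (s • z) y'` are permuted by it, and the lengths force `y' = y`.
-/

set_option autoImplicit false
set_option linter.unusedSectionVars false
set_option linter.style.haveILetI false

universe u

namespace Cfsg.Agent.Char.OmegaDeg

open Module QuadraticMap Cfsg.Agent.Classical Cfsg.Agent.Classical.OCount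
open Cfsg.Agent.Small.OMinIndex

variable {F : Type u} [Field F] [Fintype F] {V : Type u} [AddCommGroup V] [Module F V] [FiniteDimensional F V]
  {Q : QuadraticForm F V}

variable {M : Type} [AddCommGroup M] [Module ℂ M] [FiniteDimensional ℂ M]
  {ρ : Representation ℂ (fixGrp Q (⊤ : Submodule F V)) M} {ψ : AddChar F ℂ} {a f : V} {m : ℕ}

namespace Ctx

variable (C : Ctx ρ ψ a f m)
include C

theorem perpProj_of_fixed {z : V} (hz : z ∈ lev Q ⊤ a f) {x : M}
    (h : ∀ t : F, act ρ (E a (t • z) : Om Q) x = x) : perpProj ρ ψ a f z x = x := by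
  have h1 := C.sum_line hz x
  rw [Finset.sum_congr rfl fun t _ => h t, Finset.sum_const, Finset.card_univ, ← Nat.cast_smul_eq_nsmul ℂ] at h1
  exact (smul_right_injective M (Nat.cast_ne_zero.2 Fintype.card_ne_zero) h1).symm

theorem perpProj_fixed {z : V} (hz : z ∈ lev Q ⊤ a f) (t : F) (x : M) :
    act ρ (E a (t • z) : Om Q) (perpProj ρ ψ a f z x) = perpProj ρ ψ a f z x := by
  classical
  have hne : (Fintype.card F : ℂ) ≠ 0 := Nat.cast_ne_zero.2 Fintype.card_ne_zero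
  refine smul_right_injective M hne ?_
  show (Fintype.card F : ℂ) • act ρ (E a (t • z) : Om Q) (perpProj ρ ψ a f z x) = _
  rw [← map_smul, ← C.sum_line hz, map_sum]
  show _ = (Fintype.card F : ℂ) • perpProj ρ ψ a f z x
  rw [← C.sum_line hz]
  refine Fintype.sum_equiv (Equiv.addLeft t) _ _ fun s => ?_
  have h1 : ∀ t : F, polar Q a (t • z) = 0 := fun t => by rw [polar_smul_right, (mem_lev.1 hz).2.1, smul_zero]
  rw [Equiv.coe_addLeft, ← C.act_mul_apply, E_mul C.L.space C.hp.1 (h1 t) (h1 s), add_smul]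

/-- Elements scaling the pair permute the projections. -/
theorem act_perpProj {g : Om Q} {s : F} (hs : s ≠ 0) (ea : g • a = s • a) (ef : g • f = s⁻¹ • f) {z : V}
    (hz : z ∈ lev Q ⊤ a f) (x : M) :
    act ρ g (perpProj ρ ψ a f z x) = perpProj ρ ψ a f (g • z) (act ρ g x) := by
  have hgz : g • z ∈ lev Q ⊤ a f := C.L.smul_mem (C.mem g) hs (inv_ne_zero hs) ea ef hz
  have hQa : Q a = 0 := C.hp.1
  refine smul_right_injective M (Nat.cast_ne_zero.2 (Fintype.card_ne_zero (α := F)) : (Fintype.card F : ℂ) ≠ 0) ?_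
  show (Fintype.card F : ℂ) • _ = (Fintype.card F : ℂ) • _
  rw [← map_smul, ← C.sum_line hz, map_sum, ← C.sum_line hgz]
  refine Fintype.sum_equiv (Equiv.mulLeft₀ s hs) _ _ fun t => ?_
  have h1 : polar Q a (t • z) = 0 := by rw [polar_smul_right, (mem_lev.1 hz).2.1, smul_zero]
  rw [Equiv.mulLeft₀_apply, ← C.act_mul_apply, ← C.act_mul_apply]
  congr 1
  rw [mul_inv_eq_iff_eq_mul.1 (conj_E C.L.space hQa h1 g), ea, smul_scalar,
    E_smul_left C.L.space hQa (by rw [polar_smul_right, (mem_lev.1 hgz).2.1, smul_zero]), smul_smul]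

omit C in
theorem perpProj_neg (z : V) : perpProj ρ ψ a f (-z) = perpProj ρ ψ a f z := by
  classical
  unfold perpProj
  exact Finset.sum_congr rfl fun η _ => if_congr (by rw [polar_neg_left, neg_eq_zero]) rfl rfl

/-- Few singular vectors are orthogonal to an anisotropic one. -/
theorem card_perp_le {z : V} (hz : z ∈ lev Q ⊤ a f) (hQz : Q z ≠ 0) :
    Nat.card {x : V // x ∈ perpIn Q (lev Q ⊤ a f) z ∧ Q x = 0} + Fintype.card F ^ (2 * m - 2) ≤
      2 * Fintype.card F ^ (2 * m - 1) := by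
  haveI : Finite V := Module.finite_of_finite F
  obtain ⟨U, hU⟩ : ∃ U, U = perpIn Q (lev Q ⊤ a f) z := ⟨_, rfl⟩
  have hUn : NonDeg Q U := hU ▸ C.ndW.perp C.two hz hQz
  have h1 := finrank_perpIn (Q := Q) (lev Q ⊤ a f) z
  rw [C.dimW, ← hU] at h1
  have hlt : U < lev Q ⊤ a f := hU ▸ lt_of_le_of_ne inf_le_left fun e => mul_ne_zero C.two hQz (by
    rw [← ORefl.polar_self_two]; exact (mem_perpIn.1 (e.symm ▸ hz : z ∈ perpIn Q (lev Q ⊤ a f) z)).2)
  have h2 := Submodule.finrank_lt_finrank_of_lt hlt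
  rw [C.dimW] at h2
  have hm := C.two_le
  obtain ⟨b, hb, hb0, hQb⟩ := Small.QuadBasis.exists_singular Q (W := U) (by omega)
  obtain ⟨b', hb', hp⟩ := partner_in hUn hb hb0 hQb
  have h3 := finrank_lev hb hb' hp
  obtain ⟨R, hR⟩ : ∃ R, R = lev Q U b b' := ⟨_, rfl⟩
  have hcard : Nat.card R = Fintype.card F ^ (2 * m - 2) := by
    rw [natCard_eq_pow_finrank (K := F), Nat.card_eq_fintype_card]; congr 1; rw [hR]; omega
  rw [← hU]
  classical
  have hval : ∀ x : {x : V // x ∈ U ∧ Q x = 0}, ∃ x0 : R, x.1 = polar Q b' x.1 • b + polar Q b x.1 • b' + (x0 : V) ∧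
      polar Q b' x.1 * polar Q b x.1 + Q (x0 : V) = 0 := by
    intro x
    obtain ⟨x0, hx0, e⟩ := lev_split hp hb hb' x.2.1
    refine ⟨⟨x0, hR ▸ hx0⟩, e, ?_⟩
    have h := x.2.2
    obtain ⟨-, e1, e2⟩ := mem_lev.1 hx0
    rw [e, map_two, map_two, QuadraticMap.map_smul, QuadraticMap.map_smul, polar_add_left, polar_smul_left,
      polar_smul_left, polar_smul_left, polar_smul_right, e1, e2, show polar Q b b' = 1 from hp.2.2, hQb,
      show Q b' = 0 from hp.2.1] at h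
    simp only [smul_eq_mul, mul_zero, mul_one, add_zero, zero_add] at h
    exact h
  choose c hc hcQ using hval
  let Φ : {x : V // x ∈ U ∧ Q x = 0} → ({s : F // s ≠ 0} × R) ⊕ (F × R) := fun x =>
    if h : polar Q b x.1 = 0 then Sum.inr (polar Q b' x.1, c x) else Sum.inl (⟨_, h⟩, c x)
  have hinj : Function.Injective Φ := by
    intro x y h
    have key : polar Q b x.1 = polar Q b y.1 → polar Q b' x.1 = polar Q b' y.1 → c x = c y → x = y := by
      intro e1 e2 e3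
      exact Subtype.ext (by rw [hc x, hc y, e1, e2, e3])
    simp only [Φ] at h
    by_cases hx : polar Q b x.1 = 0 <;> by_cases hy : polar Q b y.1 = 0
    · rw [dif_pos hx, dif_pos hy, Sum.inr.injEq, Prod.mk.injEq] at h
      exact key (hx.trans hy.symm) h.1 h.2
    · rw [dif_pos hx, dif_neg hy] at h; exact absurd h (by simp)
    · rw [dif_neg hx, dif_pos hy] at h; exact absurd h (by simp)
    · rw [dif_neg hx, dif_neg hy, Sum.inl.injEq, Prod.mk.injEq, Subtype.mk.injEq] at h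
      refine key h.1 (mul_right_cancel₀ hx ?_) h.2
      have e1 := hcQ x
      have e2 := hcQ y
      rw [← h.2, ← h.1] at e2
      linear_combination e1 - e2
  haveI : Finite R := Finite.of_injective _ Subtype.val_injective
  have hle := Nat.card_le_card_of_injective Φ hinj
  rw [Nat.card_sum, Nat.card_prod, Nat.card_prod, hcard, Nat.card_eq_fintype_card (α := F),
    Nat.card_eq_fintype_card (α := {s : F // s ≠ 0}), Fintype.card_subtype_compl, Fintype.card_subtype_eq] at hle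
  have hq := Fintype.one_lt_card (α := F)
  rw [show 2 * m - 1 = 2 * m - 2 + 1 by omega, pow_succ']
  obtain ⟨p, hp'⟩ : ∃ p, Fintype.card F = p + 1 := ⟨Fintype.card F - 1, by omega⟩
  rw [hp'] at hle ⊢
  rw [Nat.add_sub_cancel] at hle
  linarith

theorem vec_ne_zero {v : M} (hv : IsVec ρ ψ a f v) : v ≠ 0 := fun e => by
  obtain ⟨η₀, hη₀, hη₀0, hQη₀⟩ := exists_sing_vec C.L.shW (by have := C.two_le; omega)
  exact hv.sing η₀ hη₀ hη₀0 hQη₀ (by rw [e, map_zero])

theorem torus_eigen {v : M} (hv : IsVec ρ ψ a f v) {z : V} (hz : z ∈ lev Q ⊤ a f) (hQz : Q z ≠ 0) {t : F}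
    (ht : t ≠ 0) : ∃ g : Om Q, ∃ κ : ℂ, κ ≠ 0 ∧ g • a = t • a ∧ g • f = t⁻¹ • f ∧ g • z = z ∧
      act ρ g v = κ • v := by
  obtain ⟨g, e1, e2, e3⟩ := C.exists_torus_fix hz hQz ht
  obtain ⟨κ, hκ⟩ := hv.unique (act ρ g v) (C.fixed_torus e1 e2 hv.fixed)
  refine ⟨g, κ, fun e => C.vec_ne_zero hv ?_, e1, e2, e3, hκ⟩
  rw [← C.act_inv_apply g v, hκ, e, zero_smul, map_zero]

/-- The exchanges along one line act alike. -/
theorem flip_eigen {v : M} (hv : IsVec ρ ψ a f v) {z : V} (hz : z ∈ lev Q ⊤ a f) (hQz : Q z ≠ 0) :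
    ∃ lam : ℂ, lam * lam = 1 ∧ act ρ (flip Q a f z) v = lam • v ∧ ∀ k : F, k ≠ 0 →
      act ρ (flip Q a f (k • z)) (perpProj ρ ψ a f z v) = act ρ (flip Q a f z) (perpProj ρ ψ a f z v) := by
  classical
  have hS := C.L.space
  have hp := C.hp
  have hQa : Q a = 0 := hp.1
  have hQf : Q f = 0 := hp.2.1
  obtain ⟨-, haz, hfz⟩ := mem_lev.1 hz
  have hkz : ∀ k : F, k • z ∈ lev Q ⊤ a f := fun k => Submodule.smul_mem _ k hz
  obtain ⟨c, hc⟩ : ∃ c, c = Q z := ⟨_, rfl⟩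
  have hc0 : c ≠ 0 := hc ▸ hQz
  obtain ⟨h, hh⟩ : ∃ h, h = flip Q a f z := ⟨_, rfl⟩
  have hha : h • a = -c • f := by rw [hh, flip_a hS hp haz hfz hQz, hc]
  have hhf : h • f = -c⁻¹ • a := by rw [hh, flip_f hS hp haz hfz hQz, hc]
  have hhh : h * h = 1 := hh ▸ flip_mul_self hS hp haz hfz hQz
  have hhx : ∀ x : M, act ρ h (act ρ h x) = x := fun x => by rw [← C.act_mul_apply, hhh, act_one]; rfl
  have hv0 := C.vec_ne_zero hv
  have torus := fun (t : F) (ht : t ≠ 0) => C.torus_eigen hv hz hQz ht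
  -- the eigenvalues
  obtain ⟨lam, hlam⟩ := hv.unique (act ρ h v) (C.fixed_image hv.fixed fun l hl =>
    ⟨by rw [hha, smul_scalar, C.L.fix_f hl], by rw [hhf, smul_scalar, C.L.fix_a hl]⟩)
  have hlam2 : lam * lam = 1 := by
    have e := hhx v
    rw [hlam, map_smul, hlam, smul_smul] at e
    exact smul_left_injective ℂ hv0 (e.trans (one_smul ℂ v).symm)
  have hflipk : ∀ k : F, k ≠ 0 → act ρ (flip Q a f (k • z)) v = lam • v := by
    intro k hk
    obtain ⟨g, κ, hκ0, e1, e2, e3, hκ⟩ := torus k⁻¹ (inv_ne_zero hk)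
    have e := C.conj_flip_torus hz (inv_ne_zero hk) e1 e2 e3
    rw [inv_inv, ← hh] at e
    have hgi : act ρ g⁻¹ v = κ⁻¹ • v := by
      conv_lhs => rw [← one_smul ℂ v, ← inv_mul_cancel₀ hκ0, ← smul_smul, ← hκ, map_smul, C.act_inv_apply]
    rw [← e, C.act_mul_apply, C.act_mul_apply, hgi, map_smul, map_smul, hlam, map_smul, hκ, smul_smul, smul_smul]
    congr 1
    field_simp
  obtain ⟨y, hy⟩ : ∃ y, y = perpProj ρ ψ a f z v := ⟨_, rfl⟩
  obtain ⟨y', hy'⟩ : ∃ y', y' = act ρ h y := ⟨_, rfl⟩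
  have hflipy : ∀ k : F, k ≠ 0 → act ρ (flip Q a f (k • z)) y = y' := by
    intro k hk
    have hQkz : Q (k • z) ≠ 0 := by rw [QuadraticMap.map_smul]; exact mul_ne_zero (mul_ne_zero hk hk) hQz
    obtain ⟨-, hakz, hfkz⟩ := mem_lev.1 (hkz k)
    obtain ⟨d, hd⟩ : ∃ d, d = h * flip Q a f (k • z) := ⟨_, rfl⟩
    have hQk : Q (k • z) = k ^ 2 * c := by rw [QuadraticMap.map_smul, smul_eq_mul, hc, pow_two]
    have da : d • a = (k ^ 2) • a := by
      rw [hd, mul_smul, flip_a hS hp hakz hfkz hQkz, smul_scalar, hhf, smul_smul, hQk]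
      congr 1; field_simp
    have df : d • f = (k ^ 2)⁻¹ • f := by
      rw [hd, mul_smul, flip_f hS hp hakz hfkz hQkz, smul_scalar, hha, smul_smul, hQk]
      congr 1; field_simp
    have dz : d • z = z := by
      have e0 : flip Q a f (k • z) • z = (-1 : F) • z := by
        have e1 := flip_w hS hp hakz hfkz hQkz
        rw [smul_scalar, ← smul_neg] at e1
        rw [neg_smul, one_smul]
        exact smul_right_injective V hk e1
      rw [hd, mul_smul, e0, smul_scalar, hh, flip_w hS hp haz hfz hQz]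
      module
    have dv : act ρ d v = v := by
      rw [hd, C.act_mul_apply, hflipk k hk, map_smul, hlam, smul_smul, hlam2, one_smul]
    have dy : act ρ d y = y := by rw [hy, C.act_perpProj (pow_ne_zero 2 hk) da df hz, dz, dv]
    conv_lhs => rw [← hhx (act ρ (flip Q a f (k • z)) y)]
    rw [← C.act_mul_apply h (flip Q a f (k • z)), ← hd, dy, hy']
  rw [← hh]
  exact ⟨lam, hlam2, hlam, fun k hk => by rw [← hy, hflipy k hk, hy']⟩

/-- The image of the projection has one coefficient off the orthogonal. -/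
theorem flip_split {v : M} (hv : IsVec ρ ψ a f v) {z : V} (hz : z ∈ lev Q ⊤ a f) (hQz : Q z ≠ 0) :
    ∃ e : ℂ, act ρ (flip Q a f z) (perpProj ρ ψ a f z v) =
      perpProj ρ ψ a f z (act ρ (flip Q a f z) (perpProj ρ ψ a f z v)) + e • (v - perpProj ρ ψ a f z v) := by
  classical
  have hS := C.L.space
  have hp := C.hp
  have hQa : Q a = 0 := hp.1
  have hQf : Q f = 0 := hp.2.1
  obtain ⟨-, haz, hfz⟩ := mem_lev.1 hz
  have hkz : ∀ k : F, k • z ∈ lev Q ⊤ a f := fun k => Submodule.smul_mem _ k hz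
  obtain ⟨c, hc⟩ : ∃ c, c = Q z := ⟨_, rfl⟩
  have hc0 : c ≠ 0 := hc ▸ hQz
  obtain ⟨h, hh⟩ : ∃ h, h = flip Q a f z := ⟨_, rfl⟩
  have hha : h • a = -c • f := by rw [hh, flip_a hS hp haz hfz hQz, hc]
  have hhf : h • f = -c⁻¹ • a := by rw [hh, flip_f hS hp haz hfz hQz, hc]
  have hhh : h * h = 1 := hh ▸ flip_mul_self hS hp haz hfz hQz
  have hhx : ∀ x : M, act ρ h (act ρ h x) = x := fun x => by rw [← C.act_mul_apply, hhh, act_one]; rfl
  have torus := fun (t : F) (ht : t ≠ 0) => C.torus_eigen hv hz hQz ht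
  obtain ⟨lam, -, -, hflip⟩ := C.flip_eigen hv hz hQz
  obtain ⟨y, hy⟩ : ∃ y, y = perpProj ρ ψ a f z v := ⟨_, rfl⟩
  obtain ⟨y', hy'⟩ : ∃ y', y' = act ρ h y := ⟨_, rfl⟩
  have hflipy : ∀ k : F, k ≠ 0 → act ρ (flip Q a f (k • z)) y = y' := fun k hk => by
    rw [hy', hy, hh, hflip k hk]
  rw [← hh, ← hy, ← hy']
  obtain ⟨z0, hz0⟩ : ∃ z0, z0 = perpProj ρ ψ a f z y' := ⟨_, rfl⟩
  rw [← hz0]
  obtain ⟨V', hV'⟩ : ∃ V', V' = v - y := ⟨_, rfl⟩
  -- the components off the orthogonal of `z`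
  have htrans : ∀ η ∈ lev Q ⊤ a f, polar Q z η ≠ 0 → ∀ (g : Om Q) (t : F) (κ : ℂ), t ≠ 0 → κ ≠ 0 → g • a = t • a →
      g • f = t⁻¹ • f → g • z = z → act ρ g v = κ • v → ∀ e : ℂ,
      wt ρ ψ a (lev Q ⊤ a f) η y' = e • wt ρ ψ a (lev Q ⊤ a f) η v →
      wt ρ ψ a (lev Q ⊤ a f) (t⁻¹ • g • η) y' = e • wt ρ ψ a (lev Q ⊤ a f) (t⁻¹ • g • η) v := by
    intro η hη _ g t κ ht hκ0 e1 e2 e3 hκ e he
    have hgy : act ρ g y = κ • y := by rw [hy, C.act_perpProj ht e1 e2 hz, e3, hκ, map_smul]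
    have hgy' : act ρ g y' = κ • y' := by
      have e' := C.conj_flip_torus hz ht e1 e2 e3
      rw [← hh, mul_inv_eq_iff_eq_mul] at e'
      rw [hy', ← C.act_mul_apply, e', C.act_mul_apply, hgy, map_smul, hflipy _ (inv_ne_zero ht), ← hy']
    have h1 := C.act_wt_apply ht e1 e2 η y'
    have h2 := C.act_wt_apply ht e1 e2 η v
    rw [he, map_smul, h2, hgy', hκ, map_smul, map_smul, smul_comm] at h1
    exact (smul_right_injective M hκ0 h1).symm
  have hz_mem : ∀ η ∈ lev Q ⊤ a f, ∀ η' ∈ lev Q ⊤ a f, Q η = 0 → Q η' = 0 → polar Q z η ≠ 0 →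
      polar Q z η' ≠ 0 → ∀ e : ℂ, wt ρ ψ a (lev Q ⊤ a f) η y' = e • wt ρ ψ a (lev Q ⊤ a f) η v →
      wt ρ ψ a (lev Q ⊤ a f) η' y' = e • wt ρ ψ a (lev Q ⊤ a f) η' v := by
    intro η hη η' hη' hQη hQη' hs hs' e he
    obtain ⟨t, ht⟩ : ∃ t, t = polar Q z η / polar Q z η' := ⟨_, rfl⟩
    have ht0 : t ≠ 0 := ht ▸ div_ne_zero hs hs'
    obtain ⟨g, κ, hκ0, e1, e2, e3, hκ⟩ := torus t ht0
    have h1 := htrans η hη hs g t κ ht0 hκ0 e1 e2 e3 hκ e he
    obtain ⟨η'', hη''⟩ : ∃ x, x = t⁻¹ • g • η := ⟨_, rfl⟩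
    rw [← hη''] at h1
    have hη''W : η'' ∈ lev Q ⊤ a f :=
      hη'' ▸ Submodule.smul_mem _ _ (C.L.smul_mem (C.mem g) ht0 (inv_ne_zero ht0) e1 e2 hη)
    have hs'' : polar Q z η'' = polar Q z η' := by
      rw [hη'', polar_smul_right]
      conv_lhs => rw [← e3, polar_iso_smul]
      rw [ht, smul_eq_mul, inv_div, div_mul_cancel₀ _ hs]
    have hQη'' : Q η'' = 0 := by rw [hη'', QuadraticMap.map_smul, form_smul, hQη, smul_zero]
    obtain ⟨r, hr⟩ : ∃ r, r = polar Q z η' / polar Q z z := ⟨_, rfl⟩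
    have hzz : polar Q z z ≠ 0 := by rw [ORefl.polar_self_two]; exact mul_ne_zero C.two hQz
    have hU : NonDeg Q (perpIn Q (lev Q ⊤ a f) z) := C.ndW.perp C.two hz hQz
    have hd : 4 ≤ finrank F (perpIn Q (lev Q ⊤ a f) z) := by
      have := finrank_perpIn (Q := Q) (lev Q ⊤ a f) z
      have := C.dimW
      have := C.two_le
      omega
    have hproj : ∀ x ∈ lev Q ⊤ a f, Q x = 0 → polar Q z x = polar Q z η' →
        x - r • z ∈ perpIn Q (lev Q ⊤ a f) z ∧ Q (x - r • z) = r * r * c - r * polar Q z η' ∧ x - r • z ≠ 0 := by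
      intro x hx hQx hxz
      have hQ' : Q (x - r • z) = r * r * c - r * polar Q z η' := by
        rw [ORefl.map_sub_two, hQx, QuadraticMap.map_smul, polar_smul_right, polar_comm Q x z, hxz, ← hc]
        simp only [smul_eq_mul]; ring
      refine ⟨mem_perpIn.2 ⟨Submodule.sub_mem _ hx (Submodule.smul_mem _ _ hz), ?_⟩, hQ', fun e0 => hs' ?_⟩
      · rw [polar_sub_right, polar_smul_right, hxz, hr, smul_eq_mul, div_mul_cancel₀ _ hzz, sub_self]
      · have hx' := sub_eq_zero.1 e0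
        rw [hx', QuadraticMap.map_smul, ← hc, smul_eq_mul] at hQx
        have hr0 : r = 0 := mul_self_eq_zero.1 ((mul_eq_zero.1 hQx).resolve_right hc0)
        rw [← hxz, hx', hr0, zero_smul, polar_zero_right]
    obtain ⟨p1, p2, p3⟩ := hproj η'' hη''W hQη'' hs''
    obtain ⟨q1, q2, q3⟩ := hproj η' hη' hQη' rfl
    obtain ⟨l, hl, el⟩ := move_eq hS hU hd p1 q1 p3 q3 (q2.trans p2.symm)
    have hlW : l ∈ fixGrp Q (lev Q ⊤ a f) := fixGrp_mono inf_le_left hl
    have hlz : l • z = z := hl z fun u hu => by rw [polar_comm]; exact (mem_perpIn.1 hu).2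
    rw [smul_sub, smul_scalar, hlz, sub_left_inj] at el
    have h2 := htrans η'' hη''W (hs''.symm ▸ hs') l 1 1 one_ne_zero one_ne_zero (by rw [one_smul, C.L.fix_a hlW])
      (by rw [inv_one, one_smul, C.L.fix_f hlW]) hlz (by rw [one_smul, hv.fixed l hlW]) e h1
    rwa [inv_one, one_smul, el] at h2
  -- two weights
  have hW4 := C.L.fourW
  have hWn := C.ndW
  obtain ⟨U, hU⟩ : ∃ U, U = perpIn Q (lev Q ⊤ a f) z := ⟨_, rfl⟩
  have hUn : NonDeg Q U := hU ▸ hWn.perp C.two hz hQz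
  have hUd : 3 ≤ finrank F U := by
    have := finrank_perpIn (Q := Q) (lev Q ⊤ a f) z
    rw [← hU] at this
    have := C.dimW; have := C.two_le
    omega
  obtain ⟨ηp, hηp, hηp0, hQηp⟩ := Small.QuadBasis.exists_singular Q (W := U) hUd
  obtain ⟨hηpW, hzηp⟩ := mem_perpIn.1 (hU ▸ hηp)
  obtain ⟨u₀, hu₀, hQu₀⟩ := exists_value hUn (by omega) (-c)
  obtain ⟨hu₀W, hzu₀⟩ := mem_perpIn.1 (hU ▸ hu₀)
  obtain ⟨ηn, hηn⟩ : ∃ ηn, ηn = z + u₀ := ⟨_, rfl⟩
  have hηnW : ηn ∈ lev Q ⊤ a f := hηn ▸ Submodule.add_mem _ hz hu₀W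
  have hzηn : polar Q z ηn ≠ 0 := by
    rw [hηn, polar_add_right, hzu₀, add_zero, ORefl.polar_self_two]; exact mul_ne_zero C.two hQz
  have hQηn : Q ηn = 0 := by rw [hηn, map_two, hzu₀, ← hc, hQu₀]; ring
  have hηn0 : ηn ≠ 0 := fun e => hzηn (by rw [e, polar_zero_right])
  obtain ⟨xn, hxn0, hspan⟩ := finrank_eq_one_iff'.1 (C.one ηn hηnW hηn0 hQηn)
  obtain ⟨e, he⟩ : ∃ e : ℂ, wt ρ ψ a (lev Q ⊤ a f) ηn y' = e • wt ρ ψ a (lev Q ⊤ a f) ηn v := by
    obtain ⟨c1, hc1⟩ := hspan ⟨_, LinearMap.mem_range_self (wt ρ ψ a (lev Q ⊤ a f) ηn) y'⟩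
    obtain ⟨d, hd⟩ := hspan ⟨_, LinearMap.mem_range_self (wt ρ ψ a (lev Q ⊤ a f) ηn) v⟩
    have hc1' : c1 • xn.1 = wt ρ ψ a (lev Q ⊤ a f) ηn y' := congrArg Subtype.val hc1
    have hd' : d • xn.1 = wt ρ ψ a (lev Q ⊤ a f) ηn v := congrArg Subtype.val hd
    have hd0 : d ≠ 0 := fun e => hv.sing ηn hηnW hηn0 hQηn (by rw [← hd', e, zero_smul])
    exact ⟨c1 / d, by rw [← hc1', ← hd', smul_smul, div_mul_cancel₀ _ hd0]⟩
  have hwV' : ∀ η ∈ lev Q ⊤ a f, wt ρ ψ a (lev Q ⊤ a f) η V' =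
      if polar Q z η = 0 then 0 else wt ρ ψ a (lev Q ⊤ a f) η v := by
    intro η hη
    rw [hV', map_sub, hy, C.wt_perpProj hη]
    split_ifs <;> simp
  refine ⟨e, ?_⟩
  rw [← hV']
  refine C.ext_wt fun η hη => ?_
  rw [map_add, map_smul, hz0, C.wt_perpProj hη, hwV' η hη]
  by_cases hs : polar Q z η = 0
  · rw [if_pos hs, if_pos hs, smul_zero, add_zero]
  · rw [if_neg hs, if_neg hs, zero_add]
    by_cases hQη : Q η = 0
    · exact hz_mem ηn hηnW η hη hQηn hQη hzηn hs e he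
    · rw [C.ns η hη hQη]; simp

/-- The permuted points. -/
theorem flip_perm {v : M} (hv : IsVec ρ ψ a f v) {z : V} (hz : z ∈ lev Q ⊤ a f) (hQz : Q z ≠ 0) :
    (Fintype.card F : ℂ) • act ρ (flip Q a f z)
        (perpProj ρ ψ a f z (act ρ (flip Q a f z) (perpProj ρ ψ a f z v))) +
      act ρ (flip Q a f z) (perpProj ρ ψ a f z v) =
      (Fintype.card F : ℂ) • perpProj ρ ψ a f z (act ρ (flip Q a f z) (perpProj ρ ψ a f z v)) +
        perpProj ρ ψ a f z v := by
  classical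
  have hS := C.L.space
  have hp := C.hp
  have hQa : Q a = 0 := hp.1
  have hQf : Q f = 0 := hp.2.1
  obtain ⟨-, haz, hfz⟩ := mem_lev.1 hz
  have hkz : ∀ k : F, k • z ∈ lev Q ⊤ a f := fun k => Submodule.smul_mem _ k hz
  obtain ⟨c, hc⟩ : ∃ c, c = Q z := ⟨_, rfl⟩
  have hc0 : c ≠ 0 := hc ▸ hQz
  obtain ⟨h, hh⟩ : ∃ h, h = flip Q a f z := ⟨_, rfl⟩
  have hha : h • a = -c • f := by rw [hh, flip_a hS hp haz hfz hQz, hc]
  have hhf : h • f = -c⁻¹ • a := by rw [hh, flip_f hS hp haz hfz hQz, hc]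
  have hhh : h * h = 1 := hh ▸ flip_mul_self hS hp haz hfz hQz
  have hhx : ∀ x : M, act ρ h (act ρ h x) = x := fun x => by rw [← C.act_mul_apply, hhh, act_one]; rfl
  obtain ⟨lam, -, -, hflip⟩ := C.flip_eigen hv hz hQz
  obtain ⟨y, hy⟩ : ∃ y, y = perpProj ρ ψ a f z v := ⟨_, rfl⟩
  obtain ⟨y', hy'⟩ : ∃ y', y' = act ρ h y := ⟨_, rfl⟩
  have hflipy : ∀ k : F, k ≠ 0 → act ρ (flip Q a f (k • z)) y = y' := fun k hk => by
    rw [hy', hy, hh, hflip k hk]
  rw [← hh, ← hy, ← hy']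
  obtain ⟨z0, hz0⟩ : ∃ z0, z0 = perpProj ρ ψ a f z y' := ⟨_, rfl⟩
  rw [← hz0]
  obtain ⟨T, hT⟩ : ∃ T, T = ∑ s ∈ Finset.univ.erase (0 : F), act ρ (E a (s • z) : Om Q) y' := ⟨_, rfl⟩
  have hsum : (Fintype.card F : ℂ) • z0 = y' + T := by
    rw [hz0, ← C.sum_line hz, ← Finset.add_sum_erase _ _ (Finset.mem_univ (0 : F)), zero_smul, E_zero hS hQa,
      act_one, Module.End.one_apply, hT]
  have hT' : act ρ h T = T := by
    rw [hT, map_sum]
    refine Finset.sum_bij' (fun s _ => -(c ^ 2 * s)⁻¹) (fun s _ => -(c ^ 2 * s)⁻¹)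
      (fun s hs => Finset.mem_erase.2 ⟨neg_ne_zero.2 (inv_ne_zero (mul_ne_zero (pow_ne_zero 2 hc0)
        (Finset.ne_of_mem_erase hs))), Finset.mem_univ _⟩)
      (fun s hs => Finset.mem_erase.2 ⟨neg_ne_zero.2 (inv_ne_zero (mul_ne_zero (pow_ne_zero 2 hc0)
        (Finset.ne_of_mem_erase hs))), Finset.mem_univ _⟩)
      (fun s hs => by have := Finset.ne_of_mem_erase hs; field_simp)
      (fun s hs => by have := Finset.ne_of_mem_erase hs; field_simp) fun s hs => ?_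
    have hs0 := Finset.ne_of_mem_erase hs
    have hsz : polar Q a (s • z) = 0 := (mem_lev.1 (hkz s)).2.1
    obtain ⟨k, hk⟩ : ∃ k, k = c * s := ⟨_, rfl⟩
    have hk0 : k ≠ 0 := hk ▸ mul_ne_zero hc0 hs0
    obtain ⟨-, hakz, hfkz⟩ := mem_lev.1 (hkz k)
    have hconj : h * E a (s • z) * h = E f (k • z) := by
      have hhi : h⁻¹ = h := inv_eq_of_mul_eq_one_right hhh
      conv_lhs => arg 2; rw [← hhi]
      rw [conj_E hS hQa hsz, hha, smul_scalar, show h • z = -z by rw [hh, flip_w hS hp haz hfz hQz],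
        E_smul_left hS hQf (by rw [polar_smul_right, polar_neg_right, hfz, neg_zero, smul_zero]), hk]
      congr 1
      module
    have hA : act ρ (E a (-((Q (k • z))⁻¹ • (k • z))) : Om Q) y = y := by
      rw [hy, show -((Q (k • z))⁻¹ • (k • z)) = (-((Q (k • z))⁻¹ * k)) • z by rw [neg_smul, smul_smul],
        C.perpProj_fixed hz]
    rw [hy', ← C.act_mul_apply h (E a (s • z)), ← C.act_mul_apply _ h, hconj,
      E_eq_flip hS hp hakz hfkz, C.act_mul_apply, C.act_mul_apply, hA, hflipy k hk0, ← hy']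
    congr 3
    rw [smul_smul, ← neg_smul, QuadraticMap.map_smul, smul_eq_mul, ← hc, hk]
    congr 1
    field_simp
  have hyy : act ρ h y' = y := by rw [hy', hhx]
  rw [← map_smul, hsum, map_add, hyy, hT']
  abel

/-- The weights of the projection and of the rest. -/
theorem flip_lengths {v : M} (hv : IsVec ρ ψ a f v) (B : Herm ρ) {z : V} (hz : z ∈ lev Q ⊤ a f) (hQz : Q z ≠ 0) :
    ∃ (A Bn : ℕ) (ν : ℝ), 0 < ν ∧ B.nsq (perpProj ρ ψ a f z v) = A * ν ∧
      B.nsq (v - perpProj ρ ψ a f z v) = Bn * ν ∧ A + Bn + 1 = Fintype.card F ^ (2 * m) ∧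
      A + Fintype.card F ^ (2 * m - 2) + 1 ≤ 2 * Fintype.card F ^ (2 * m - 1) := by
  classical
  haveI : Finite V := Module.finite_of_finite F
  haveI := Fintype.ofFinite V
  haveI := Fintype.ofFinite (lev Q ⊤ a f)
  have hS := C.L.space
  have hW4 := C.L.fourW
  have hWn := C.ndW
  obtain ⟨ηp, hηpW, hηp0, hQηp⟩ := exists_sing_vec C.L.shW (by have := C.two_le; omega)
  obtain ⟨y, hy⟩ : ∃ y, y = perpProj ρ ψ a f z v := ⟨_, rfl⟩
  obtain ⟨V', hV'⟩ : ∃ V', V' = v - y := ⟨_, rfl⟩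
  rw [← hy, ← hV']
  have hwV' : ∀ η ∈ lev Q ⊤ a f, wt ρ ψ a (lev Q ⊤ a f) η V' =
      if polar Q z η = 0 then 0 else wt ρ ψ a (lev Q ⊤ a f) η v := by
    intro η hη
    rw [hV', map_sub, hy, C.wt_perpProj hη]
    split_ifs <;> simp
  obtain ⟨ν, hν⟩ : ∃ ν, ν = B.nsq (wt ρ ψ a (lev Q ⊤ a f) ηp v) := ⟨_, rfl⟩
  have hν0 : 0 < ν := hν ▸ lt_of_le_of_ne (B.nsq_nonneg _) fun e0 => hv.sing ηp hηpW hηp0 hQηp
    (B.eq_zero_of_nsq e0.symm)
  have hnu : ∀ η : lev Q ⊤ a f, B.nsq (wt ρ ψ a (lev Q ⊤ a f) (η : V) v) =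
      if (η : V) ≠ 0 ∧ Q (η : V) = 0 then ν else 0 := by
    intro η
    split_ifs with hη
    · obtain ⟨g, hg, eg⟩ := move_eq hS hWn hW4 hηpW η.2 hηp0 hη.1 (hη.2.trans hQηp.symm)
      have h' := C.act_wt_apply (g := g) one_ne_zero (by rw [one_smul, C.L.fix_a hg])
        (by rw [inv_one, one_smul, C.L.fix_f hg]) ηp v
      rw [inv_one, one_smul, eg, hv.fixed g hg] at h'
      rw [← h', hν]
      exact B.nsq_inv _ _
    · rcases not_and_or.1 hη with h0 | h0
      · rw [not_not.1 h0, hv.zero, Herm.nsq, B.zero_left, Complex.zero_re]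
      · rw [C.ns _ η.2 h0, LinearMap.zero_apply, Herm.nsq, B.zero_left, Complex.zero_re]
  obtain ⟨A, hA⟩ : ∃ A, A = (Finset.univ.filter fun η : lev Q ⊤ a f =>
      polar Q z (η : V) = 0 ∧ (η : V) ≠ 0 ∧ Q (η : V) = 0).card := ⟨_, rfl⟩
  obtain ⟨Bn, hBn⟩ : ∃ Bn, Bn = (Finset.univ.filter fun η : lev Q ⊤ a f =>
      ¬ polar Q z (η : V) = 0 ∧ (η : V) ≠ 0 ∧ Q (η : V) = 0).card := ⟨_, rfl⟩
  have hn0 : B.nsq y = A * ν := by
    have hw : ∀ η : lev Q ⊤ a f, B.nsq (wt ρ ψ a (lev Q ⊤ a f) (η : V) y) =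
        if polar Q z (η : V) = 0 ∧ (η : V) ≠ 0 ∧ Q (η : V) = 0 then ν else 0 := by
      intro η
      rw [hy, C.wt_perpProj η.2]
      by_cases hs : polar Q z (η : V) = 0
      · rw [if_pos hs, hnu]; simp [hs]
      · rw [if_neg hs, if_neg (fun h' => hs h'.1), Herm.nsq, B.zero_left, Complex.zero_re]
    rw [C.nsq_sum_wt B, Finset.sum_congr rfl fun η _ => hw η, Finset.sum_ite, Finset.sum_const_zero, add_zero,
      Finset.sum_const, nsmul_eq_mul, hA]
  have hn1 : B.nsq V' = Bn * ν := by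
    have hw : ∀ η : lev Q ⊤ a f, B.nsq (wt ρ ψ a (lev Q ⊤ a f) (η : V) V') =
        if ¬ polar Q z (η : V) = 0 ∧ (η : V) ≠ 0 ∧ Q (η : V) = 0 then ν else 0 := by
      intro η
      rw [hwV' _ η.2]
      by_cases hs : polar Q z (η : V) = 0
      · rw [if_pos hs, if_neg (fun h' => h'.1 hs), Herm.nsq, B.zero_left, Complex.zero_re]
      · rw [if_neg hs, hnu]; simp [hs]
    rw [C.nsq_sum_wt B, Finset.sum_congr rfl fun η _ => hw η, Finset.sum_ite, Finset.sum_const_zero, add_zero,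
      Finset.sum_const, nsmul_eq_mul, hBn]
  have htot : A + Bn + 1 = Fintype.card F ^ (2 * m) := by
    rw [← C.card_zero, Nat.card_eq_fintype_card, Fintype.card_subtype, hA, hBn,
      ← Finset.card_union_of_disjoint (Finset.disjoint_filter.2 fun η _ h1 h2 => h2.1 h1.1),
      ← Finset.card_erase_add_one (s := Finset.univ.filter fun η : lev Q ⊤ a f => Q (η : V) = 0) (a := 0) (by simp)]
    congr 2
    ext η
    simp only [Finset.mem_union, Finset.mem_filter, Finset.mem_univ, true_and, Finset.mem_erase, ne_eq,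
      Submodule.coe_eq_zero]
    tauto
  have hAle : A + Fintype.card F ^ (2 * m - 2) + 1 ≤ 2 * Fintype.card F ^ (2 * m - 1) := by
    refine le_trans ?_ (C.card_perp_le hz hQz)
    rw [add_right_comm]
    refine Nat.add_le_add_right ?_ _
    rw [Nat.card_eq_fintype_card, Fintype.card_subtype, hA,
      ← Finset.card_erase_add_one (s := Finset.univ.filter fun x : V => x ∈ perpIn Q (lev Q ⊤ a f) z ∧ Q x = 0)
        (a := 0) (by simp [mem_perpIn])]
    refine Nat.add_le_add_right (Finset.card_le_card_of_injOn (fun η : lev Q ⊤ a f => (η : V)) (fun η hη => ?_)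
      Subtype.val_injective.injOn) 1
    simp only [Finset.coe_filter, Finset.mem_univ, true_and, Set.mem_ofPred_eq] at hη
    simp only [Finset.coe_erase, Finset.coe_filter, Finset.mem_univ, true_and, Set.mem_sdiff, Set.mem_singleton_iff,
      Set.mem_ofPred_eq, mem_perpIn]
    exact ⟨⟨⟨η.2, hη.1⟩, hη.2.2⟩, hη.2.1⟩
  exact ⟨A, Bn, ν, hν0, hn0, hn1, htot, hAle⟩

/-- The exchange fixes the vector and its projection. -/
theorem flip_fix {v : M} (hv : IsVec ρ ψ a f v) (B : Herm ρ) {z : V} (hz : z ∈ lev Q ⊤ a f) (hQz : Q z ≠ 0) :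
    act ρ (flip Q a f z) v = v ∧
      act ρ (flip Q a f z) (perpProj ρ ψ a f z v) = perpProj ρ ψ a f z v := by
  classical
  haveI : Finite V := Module.finite_of_finite F
  haveI := Fintype.ofFinite (lev Q ⊤ a f)
  obtain ⟨lam, hlam2, hlam, -⟩ := C.flip_eigen hv hz hQz
  obtain ⟨e, hsplit⟩ := C.flip_split hv hz hQz
  have hperm := C.flip_perm hv hz hQz
  obtain ⟨A, Bn, ν, hν0, hn0, hn1, htot, hAle⟩ := C.flip_lengths hv B hz hQz
  obtain ⟨-, haz, hfz⟩ := mem_lev.1 hz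
  obtain ⟨h, hh⟩ : ∃ h, h = flip Q a f z := ⟨_, rfl⟩
  have hhx : ∀ x : M, act ρ h (act ρ h x) = x := fun x => by
    rw [← C.act_mul_apply, hh, flip_mul_self C.L.space C.hp haz hfz hQz, act_one]; rfl
  obtain ⟨y, hy⟩ : ∃ y, y = perpProj ρ ψ a f z v := ⟨_, rfl⟩
  obtain ⟨y', hy'⟩ : ∃ y', y' = act ρ h y := ⟨_, rfl⟩
  obtain ⟨z0, hz0⟩ : ∃ z0, z0 = perpProj ρ ψ a f z y' := ⟨_, rfl⟩
  obtain ⟨V', hV'⟩ : ∃ V', V' = v - y := ⟨_, rfl⟩
  rw [← hh] at hlam hsplit hperm ⊢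
  rw [← hy] at hsplit hperm hn0 hn1 ⊢
  rw [← hy'] at hsplit hperm ⊢
  rw [← hz0] at hsplit hperm
  rw [← hV'] at hsplit hn1
  have hwV' : ∀ η ∈ lev Q ⊤ a f, wt ρ ψ a (lev Q ⊤ a f) η V' =
      if polar Q z η = 0 then 0 else wt ρ ψ a (lev Q ⊤ a f) η v := by
    intro η hη
    rw [hV', map_sub, hy, C.wt_perpProj hη]
    split_ifs <;> simp
  have hny' : 0 < B.nsq V' := by
    rw [hn1]
    refine mul_pos (Nat.cast_pos.2 ?_) hν0
    by_contra hB
    have hm := C.two_le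
    have h1 : Fintype.card F ^ (2 * m) = Fintype.card F * Fintype.card F ^ (2 * m - 1) := by
      rw [← pow_succ', show 2 * m - 1 + 1 = 2 * m by omega]
    have h2 : 1 ≤ Fintype.card F ^ (2 * m - 2) := Nat.one_le_pow _ _ Fintype.card_pos
    have h3 := Nat.mul_le_mul_right (Fintype.card F ^ (2 * m - 1)) C.five
    omega
  have hny : 0 < B.nsq y := by
    rw [hn0]
    refine mul_pos (Nat.cast_pos.2 ?_) hν0
    have hU : NonDeg Q (perpIn Q (lev Q ⊤ a f) z) := C.ndW.perp C.two hz hQz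
    obtain ⟨ηp, hηp, hηp0, hQηp⟩ := Small.QuadBasis.exists_singular Q (W := perpIn Q (lev Q ⊤ a f) z) (by
      have := finrank_perpIn (Q := Q) (lev Q ⊤ a f) z
      have := C.dimW; have := C.two_le
      omega)
    obtain ⟨hηpW, hzηp⟩ := mem_perpIn.1 hηp
    by_contra hA0
    have e0 : B.nsq y = 0 := by rw [hn0, show A = 0 by omega]; simp
    have := congrArg (wt ρ ψ a (lev Q ⊤ a f) ηp) (B.eq_zero_of_nsq e0)
    rw [hy, C.wt_perpProj hηpW, if_pos hzηp, map_zero] at this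
    exact hv.sing ηp hηpW hηp0 hQηp this
  -- the two equations
  have hVproj : perpProj ρ ψ a f z V' = 0 := by
    refine C.ext_wt fun η hη => ?_
    rw [C.wt_perpProj hη, hwV' η hη, map_zero]
    split_ifs <;> rfl
  have hyproj : perpProj ρ ψ a f z y = y := C.perpProj_of_fixed hz fun t => hy ▸ C.perpProj_fixed hz t v
  have hz0proj : perpProj ρ ψ a f z z0 = z0 := C.perpProj_of_fixed hz fun t => hz0 ▸ C.perpProj_fixed hz t y'
  obtain ⟨qC, hqC⟩ : ∃ qC : ℂ, qC = (Fintype.card F : ℂ) := ⟨_, rfl⟩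
  rw [← hqC] at hperm
  have hq0 : qC ≠ 0 := hqC ▸ Nat.cast_ne_zero.2 Fintype.card_ne_zero
  have hq1 : qC - 1 ≠ 0 := hqC ▸ sub_ne_zero.2 (by exact_mod_cast (Fintype.one_lt_card (α := F)).ne')
  have hmain : (qC - 1 - qC * e) • z0 + (1 + qC * e * lam - qC) • y + (e * (qC * lam - 1 - qC * e)) • V' = 0 := by
    have h1 : act ρ h y' = y := by rw [hy', hhx]
    rw [hsplit, map_add, map_smul, hV', map_sub, hlam, ← hy', hsplit] at h1
    have h2 : qC • act ρ h z0 = qC • z0 + y - y' := eq_sub_of_add_eq hperm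
    rw [hsplit] at h2
    have hvy : v = y + V' := by rw [hV']; abel
    rw [hvy] at h1
    have h3 := congrArg (fun x => qC • x) h1
    simp only [smul_add, h2] at h3
    rw [← sub_eq_zero] at h3
    rw [← h3]
    module
  have hcoefP : (qC - 1 - qC * e) • z0 + (1 + qC * e * lam - qC) • y = 0 := by
    have h' := congrArg (perpProj ρ ψ a f z) hmain
    rwa [map_add, map_add, map_smul, map_smul, map_smul, hVproj, hz0proj, hyproj, smul_zero, add_zero,
      map_zero] at h'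
  have hV'0 : V' ≠ 0 := fun e0 => by
    rw [e0, Herm.nsq, B.zero_left, Complex.zero_re] at hny'
    exact hny'.false
  have hcoefV : e * (qC * lam - 1 - qC * e) = 0 := by
    rw [hcoefP, zero_add] at hmain
    exact (smul_eq_zero.1 hmain).resolve_right hV'0
  -- the lengths
  have horth : ∀ x : M, B.ip (perpProj ρ ψ a f z x) V' = 0 := by
    intro x
    rw [C.perpProj_apply, B.sum_left]
    refine Finset.sum_eq_zero fun η _ => ?_
    split_ifs with hs
    · have hsum := LinearMap.congr_fun (sum_wt (ρ := ρ) C.L.fr C.psi_ne) V'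
      rw [LinearMap.sum_apply, Module.End.one_apply] at hsum
      rw [← hsum, map_sum]
      refine Finset.sum_eq_zero fun η' _ => ?_
      by_cases hee : η = η'
      · subst hee
        rw [hwV' _ η.2, if_pos hs, map_zero]
      · exact C.wt_orth B η.2 η'.2 (fun e0 => hee (Subtype.ext e0)) _ _
    · exact B.zero_left _
  by_cases he0 : e = 0
  · rw [he0, mul_zero, zero_mul, add_zero, sub_zero] at hcoefP
    have hz0y : z0 = y := by
      have h' : (qC - 1) • (z0 - y) = 0 := by rw [← hcoefP]; module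
      exact sub_eq_zero.1 ((smul_eq_zero.1 h').resolve_left hq1)
    have hy'y : y' = y := by rw [hsplit, he0, zero_smul, add_zero, hz0y]
    refine ⟨?_, hy'y⟩
    have hyv : B.ip y v = (B.nsq y : ℂ) := by
      conv_lhs => rw [show v = y + V' by rw [hV']; abel, map_add]
      rw [show B.ip y V' = 0 by rw [hy]; exact horth v, add_zero, B.nsq_eq]
    have h' := act_herm B h y v
    rw [← hy', hy'y, hlam, map_smul, hyv, smul_eq_mul] at h'
    have : lam = 1 := (mul_eq_right₀ (Complex.ofReal_ne_zero.2 hny.ne')).1 h'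
    rw [hlam, this, one_smul]
  exfalso
  have heq : qC * e = qC * lam - 1 := by
    linear_combination -((mul_eq_zero.1 hcoefV).resolve_left he0)
  have hnorm : B.nsq z0 + Complex.normSq e * (Bn * ν) = A * ν := by
    rw [← hn0, ← hn1, ← B.nsq_smul, ← B.nsq_add_of_orth, ← hsplit, hy']
    · exact B.nsq_inv _ _
    · rw [map_smul, hz0, horth, smul_zero]
  obtain ⟨r, hr⟩ : ∃ r : ℝ, r = (Fintype.card F : ℝ) := ⟨_, rfl⟩
  have hr5 : (5 : ℝ) ≤ r := by rw [hr]; exact_mod_cast C.five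
  have hqr : Complex.normSq qC = r * r := by rw [hqC, Complex.normSq_natCast, hr]
  have hm := C.two_le
  obtain ⟨p, hp0⟩ : ∃ p : ℝ, p = r ^ (2 * m - 2) := ⟨_, rfl⟩
  have hpow1 : r ^ (2 * m - 1) = r * p := by rw [hp0, show 2 * m - 1 = 2 * m - 2 + 1 by omega, pow_succ']
  have hpow2 : r ^ (2 * m) = r * r * p := by
    rw [hp0, show 2 * m = 2 * m - 2 + 2 by omega, Nat.add_sub_cancel, pow_add, pow_two]; ring
  have htot' : (A : ℝ) + Bn + 1 = r * r * p := by
    rw [← hpow2, hr]; exact_mod_cast htot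
  have hp1 : 1 ≤ p := hp0 ▸ one_le_pow₀ (by linarith)
  rcases mul_self_eq_one_iff.1 hlam2 with hl | hl
  · rw [hl] at heq
    have he2 : Complex.normSq e * (r * r) = (r - 1) * (r - 1) := by
      rw [← hqr, ← map_mul, mul_comm e, heq, mul_one, hqC,
        show (Fintype.card F : ℂ) - 1 = ((r - 1 : ℝ) : ℂ) by rw [hr]; push_cast; rfl, Complex.normSq_ofReal]
    have h1 : Complex.normSq e * (Bn * ν) ≤ A * ν := by linarith [B.nsq_nonneg z0]
    have h2 : (r - 1) * (r - 1) * Bn ≤ r * r * A := by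
      rw [← he2]
      have h1' : Complex.normSq e * Bn ≤ A := le_of_mul_le_mul_right (by linarith) hν0
      nlinarith [mul_le_mul_of_nonneg_left h1' (mul_self_nonneg r)]
    have hA' : (A : ℝ) + p + 1 ≤ 2 * (r * p) := by
      rw [← hpow1, hp0, hr]; exact_mod_cast hAle
    nlinarith [mul_le_mul_of_nonneg_left hA' (by nlinarith : (0 : ℝ) ≤ 2 * r * r - 2 * r + 1),
      mul_nonneg (sub_nonneg.2 hp1) (by linarith : (0 : ℝ) ≤ r - 5), mul_nonneg (mul_self_nonneg r) (sub_nonneg.2 hp1),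
      mul_nonneg (mul_nonneg (by linarith : (0:ℝ) ≤ p) (by linarith : (0 : ℝ) ≤ r - 5)) (mul_self_nonneg r),
      mul_nonneg (mul_nonneg (by linarith : (0:ℝ) ≤ p) (by linarith : (0 : ℝ) ≤ r - 5)) (by linarith : (0:ℝ) ≤ r)]
  · rw [hl] at heq hcoefP
    have hz0y : qC • z0 = -y := by
      have h' : (2 : ℂ) • (qC • z0 + y) = 0 := by
        rw [← hcoefP, show qC - 1 - qC * e = 2 * qC by linear_combination -heq,
          show 1 + qC * e * -1 - qC = 2 by linear_combination -heq]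
        module
      exact eq_neg_of_add_eq_zero_left ((smul_eq_zero.1 h').resolve_left two_ne_zero)
    have he2 : Complex.normSq e * (r * r) = (r + 1) * (r + 1) := by
      rw [← hqr, ← map_mul, mul_comm e, heq, mul_neg, mul_one, hqC,
        show -(Fintype.card F : ℂ) - 1 = ((-(r + 1) : ℝ) : ℂ) by rw [hr]; push_cast; ring, Complex.normSq_ofReal]
      ring
    have hz02 : (r * r) * B.nsq z0 = A * ν := by
      rw [← hqr, ← B.nsq_smul, hz0y, show -y = (-1 : ℂ) • y by rw [neg_smul, one_smul], B.nsq_smul, hn0]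
      simp
    have hrel : (r + 1) * ((A : ℝ) + Bn) = 2 * r * A := by
      have h' : ((r + 1) * (r + 1) * Bn - (r * r - 1) * A) * ν = 0 := by
        linear_combination (r * r) * hnorm - hz02 - (Bn : ℝ) * ν * he2
      have h'' := (mul_eq_zero.1 h').resolve_right hν0.ne'
      refine mul_left_cancel₀ (show r + 1 ≠ 0 by linarith) ?_
      linear_combination h''
    rw [hr] at hrel
    have hnat : (Fintype.card F + 1) * (A + Bn) = 2 * Fintype.card F * A := by exact_mod_cast hrel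
    have hdvd : (Fintype.card F : ℤ) ∣ 1 := by
      refine ⟨(Fintype.card F : ℤ) ^ (2 * m - 1) * ((Fintype.card F : ℤ) + 1) - 1 - 2 * A, ?_⟩
      have h1 : ((Fintype.card F : ℤ) + 1) * ((A : ℤ) + Bn) = 2 * (Fintype.card F : ℤ) * A := by exact_mod_cast hnat
      have h2 : (A : ℤ) + Bn + 1 = (Fintype.card F : ℤ) ^ (2 * m) := by exact_mod_cast htot
      rw [show 2 * m = 2 * m - 1 + 1 by omega, pow_succ'] at h2
      linear_combination ((Fintype.card F : ℤ) + 1) * h2 - h1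
    have := Int.le_of_dvd one_pos hdvd
    have := C.five
    omega

end Ctx

end Cfsg.Agent.Char.OmegaDeg
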