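import Cfsg.Agent.Lib.Char.OmegaDeg.OddGen
import Cfsg.Agent.Lib.Char.OmegaDeg.Fix

/-!
# The stabiliser of a singular weight

In odd dimension the group of the orthogonal of the pair fixing a singular vector acts trivially on its
weight of multiplicity one.
-/

set_option autoImplicit false
set_option linter.unusedSectionVars false
set_option linter.style.haveILetI false

universe u

namespace Cfsg.Agent.Char.OmegaDeg

open Module QuadraticMap Cfsg.Agent.Classical Cfsg.Agent.Classical.OCount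
open Cfsg.Agent.Small.OMinIndex

variable {F : Type u} [Field F] [Fintype F] {V : Type u} [AddCommGroup V] [Module F V] [FiniteDimensional F V]
  {Q : QuadraticForm F V}

theorem mem_all (hQ : PND Q) (g : Om Q) : g ∈ fixGrp Q (⊤ : Submodule F V) := fun z hz => by
  rw [hQ z fun w => by rw [polar_comm]; exact hz w Submodule.mem_top, smul_zero']

variable {M : Type} [AddCommGroup M] [Module ℂ M] [FiniteDimensional ℂ M]

/-- The operator of any element. -/
noncomputable def act (ρ : Representation ℂ (fixGrp Q (⊤ : Submodule F V)) M) (g : Om Q) : Module.End ℂ M :=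
  ρ (el (fixGrp Q (⊤ : Submodule F V)) g)

/-- A representation of small degree on one level. -/
structure Ctx (ρ : Representation ℂ (fixGrp Q (⊤ : Submodule F V)) M) (ψ : AddChar F ℂ) (a f : V) (m : ℕ) : Prop where
  L : Lv Q (⊤ : Submodule F V) a f m 1
  psi_ne : ψ ≠ 1
  two : (2 : F) ≠ 0
  five : 5 ≤ Fintype.card F
  irr : Irr ρ
  lt : finrank ℂ M * (Fintype.card F ^ 2 - 1) < Fintype.card F ^ (2 * m + 2) - 1
  ns : ∀ y ∈ lev Q ⊤ a f, Q y ≠ 0 → wt ρ ψ a (lev Q ⊤ a f) y = 0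
  one : ∀ y ∈ lev Q ⊤ a f, y ≠ 0 → Q y = 0 → mult ρ ψ a (lev Q ⊤ a f) y = 1

variable {ρ : Representation ℂ (fixGrp Q (⊤ : Submodule F V)) M} {ψ : AddChar F ℂ} {a f : V} {m : ℕ}

namespace Ctx

variable (C : Ctx ρ ψ a f m)
include C

theorem mem (g : Om Q) : g ∈ fixGrp Q (⊤ : Submodule F V) := mem_all C.L.space.pnd g

theorem act_mul (g h : Om Q) : act ρ (g * h) = act ρ g * act ρ h := by
  rw [act, el_mul (C.mem g) (C.mem h), map_mul]; rfl

theorem act_mul_apply (g h : Om Q) (x : M) : act ρ (g * h) x = act ρ g (act ρ h x) := by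
  rw [C.act_mul]; rfl

omit C in
theorem act_one : act ρ (1 : Om Q) = 1 := by rw [act, el_one, map_one]

theorem act_inv_apply (g : Om Q) (x : M) : act ρ g⁻¹ (act ρ g x) = x := by
  rw [← C.act_mul_apply, inv_mul_cancel, act_one]; rfl

theorem act_apply_inv (g : Om Q) (x : M) : act ρ g (act ρ g⁻¹ x) = x := by
  rw [← C.act_mul_apply, mul_inv_cancel, act_one]; rfl

theorem hp : IsHPair Q (a, f) := C.L.hp

theorem dimW : finrank F (lev Q ⊤ a f) = 2 * m + 1 := C.L.shW.dim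

theorem two_le : 2 ≤ m := by have := C.L.four; omega

theorem ndW : NonDeg Q (lev Q ⊤ a f) := C.L.shW.nd

/-- An element scaling the pair permutes the weights. -/
theorem act_wt {g : Om Q} {s : F} (hs : s ≠ 0) (ea : g • a = s • a) (ef : g • f = s⁻¹ • f) (y : V) :
    act ρ g * wt ρ ψ a (lev Q ⊤ a f) y = wt ρ ψ a (lev Q ⊤ a f) (s⁻¹ • g • y) * act ρ g :=
  conj_wt C.L.fr (C.mem g) hs ea (fun _ hw => C.L.smul_mem (C.mem g) hs (inv_ne_zero hs) ea ef hw) y

theorem act_wt_fix {g : Om Q} (hg : g ∈ fixGrp Q (lev Q ⊤ a f)) (y : V) :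
    act ρ g * wt ρ ψ a (lev Q ⊤ a f) y = wt ρ ψ a (lev Q ⊤ a f) (g • y) * act ρ g := by
  have := C.act_wt (g := g) one_ne_zero (by rw [one_smul]; exact C.L.fix_a hg)
    (by rw [inv_one, one_smul]; exact C.L.fix_f hg) y
  rwa [inv_one, one_smul] at this

/-- The stabiliser fixes the weight. -/
theorem stab_fix {η : V} (hη : η ∈ lev Q ⊤ a f) (hη0 : η ≠ 0) (hQη : Q η = 0) {g : Om Q}
    (hg : g ∈ fixGrp Q (lev Q ⊤ a f)) (hgη : g • η = η) :
    act ρ g * wt ρ ψ a (lev Q ⊤ a f) η = wt ρ ψ a (lev Q ⊤ a f) η := by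
  have hS := C.L.space
  obtain ⟨W, hW⟩ : ∃ W, W = lev Q ⊤ a f := ⟨_, rfl⟩
  rw [← hW] at hη hg ⊢
  have hWn : NonDeg Q W := hW ▸ C.ndW
  obtain ⟨η', hη', hr⟩ := partner_in hWn hη hη0 hQη
  obtain ⟨W2, hW2⟩ : ∃ W2, W2 = lev Q W η η' := ⟨_, rfl⟩
  have hd2 : finrank F W2 = 2 * (m - 2) + 3 := by
    have := finrank_lev hη hη' hr
    have := C.dimW
    have := C.two_le
    rw [← hW2] at *; rw [← hW] at *
    omega
  have hW2n : NonDeg Q W2 := hW2 ▸ nonDeg_lev hWn hη hη' hr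
  have h1 : mult ρ ψ a W η = 1 := hW ▸ C.one η (hW ▸ hη) hη0 hQη
  have hcomm : ∀ g : Om Q, g ∈ fixGrp Q W → g • η = η → Commute (act ρ g) (wt ρ ψ a W η) := by
    intro g hg e
    have := C.act_wt_fix (hW ▸ hg) η
    rw [e, ← hW] at this
    exact this
  obtain ⟨K, hK⟩ : ∃ K : Subgroup (Om Q), ∀ g, g ∈ K ↔
      g ∈ fixGrp Q W ∧ g • η = η ∧ act ρ g * wt ρ ψ a W η = wt ρ ψ a W η :=
    ⟨{ carrier := {g | g ∈ fixGrp Q W ∧ g • η = η ∧ act ρ g * wt ρ ψ a W η = wt ρ ψ a W η}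
       one_mem' := ⟨one_mem _, one_smul _ _, by rw [act_one, one_mul]⟩
       mul_mem' := fun {g h} hg hh => ⟨mul_mem hg.1 hh.1, by rw [mul_smul, hh.2.1, hg.2.1], by
         rw [C.act_mul, mul_assoc, hh.2.2, hg.2.2]⟩
       inv_mem' := fun {g} hg => ⟨inv_mem hg.1, by rw [inv_smul_eq_iff, hg.2.1], by
         conv_lhs => rw [← hg.2.2, ← mul_assoc, ← C.act_mul, inv_mul_cancel, act_one, one_mul]⟩ },
      fun g => Iff.rfl⟩
  have hηperp : ∀ u ∈ W2, polar Q η u = 0 := fun u hu => by rw [hW2] at hu; exact (mem_lev.1 hu).2.1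
  have hW2W : W2 ≤ W := hW2 ▸ lev_le W η η'
  have hfixη : ∀ g ∈ fixGrp Q W2, g • η = η := fun g hg => hg η fun u hu => by rw [polar_comm]; exact hηperp u hu
  have hconj : ∀ g x : Om Q, g ∈ fixGrp Q W → g • η = η → x ∈ fixGrp Q W → x • η = η →
      (g * x * g⁻¹ ∈ K ↔ x ∈ K) := by
    intro g x hg e hx e'
    have h := conj_fix C.L.fr C.psi_ne (hW ▸ hη) (hW ▸ h1) (C.mem g) (C.mem x) (hW ▸ hcomm g hg e)
      (hW ▸ hcomm x hx e')
    rw [← hW] at h
    rw [hK, hK]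
    refine ⟨fun h' => ⟨hx, e', h.symm.trans h'.2.2⟩, fun h' => ⟨mul_mem (mul_mem hg hx) (inv_mem hg), ?_, h.trans h'.2.2⟩⟩
    rw [mul_smul, mul_smul, inv_smul_eq_iff.2 e.symm, e', e]
  have hE : ∀ x w : V, x ∈ W → w ∈ W → Q x = 0 → polar Q x w = 0 → polar Q x η = 0 → polar Q w η = 0 →
      (E x w : Om Q) ∈ fixGrp Q W ∧ (E x w : Om Q) • η = η := fun x w hx hw hQx hxw h1 h2 =>
    ⟨E_mem hS hQx hx hw hxw, E_fix hS hQx hxw h1 h2⟩
  obtain ⟨k, hk0, -, hk2⟩ := exists_ne_sq_one (F := F) (by have := C.five; omega)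
  -- a torus moves a Siegel element
  have scaled : ∀ x w : V, x ∈ W → w ∈ W → Q x = 0 → polar Q x w = 0 → polar Q x η = 0 → polar Q w η = 0 →
      ∀ t ∈ fixGrp Q W2, t * E x w * t⁻¹ = E x (k ^ 2 • w) → (E x ((k ^ 2 - 1) • w) : Om Q) ∈ K := by
    intro x w hx hw hQx hxw hxη hwη t ht e
    obtain ⟨hm, hfix⟩ := hE x w hx hw hQx hxw hxη hwη
    have hxw' : polar Q x ((k ^ 2 - 1) • w) = 0 := by rw [polar_smul_right, hxw, smul_zero]
    obtain ⟨hm', hfix'⟩ := hE x _ hx (W.smul_mem (k ^ 2 - 1) hw) hQx hxw' hxη (by rw [polar_smul_left, hwη, smul_zero])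
    refine (hK _).2 ⟨hm', hfix', ?_⟩
    have h := conj_fix C.L.fr C.psi_ne (hW ▸ hη) (hW ▸ h1) (C.mem t) (C.mem _)
      (hW ▸ hcomm t (fixGrp_mono hW2W ht) (hfixη t ht)) (hW ▸ hcomm _ hm hfix)
    rw [← hW, e] at h
    refine cancel_fix C.L Submodule.mem_top Submodule.mem_top Submodule.mem_top hQx hxw hxw' (hcomm _ hm hfix) ?_
    rwa [sub_smul, one_smul, sub_add_cancel]
  have hc : k ^ 2 - 1 ≠ 0 := sub_ne_zero.2 hk2
  -- singular vectors of the middle
  have torus : ∀ x ∈ W2, x ≠ 0 → Q x = 0 → ∃ x' ∈ W2, IsHPair Q (x, x') ∧ ∃ t ∈ fixGrp Q W2,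
      t • x = k ^ 2 • x ∧ ∀ z, polar Q x z = 0 → polar Q x' z = 0 → t • z = z := by
    intro x hx hx0 hQx
    obtain ⟨x', hx', hq⟩ := partner_in hW2n hx hx0 hQx
    obtain ⟨t, e1, -, e3⟩ := exists_torus_sq hS hq hk0
    exact ⟨x', hx', hq, t, fun z hz => e3 z (hz x hx) (hz x' hx'), e1, e3⟩
  have hEη : ∀ x ∈ W2, Q x = 0 → (E η x : Om Q) ∈ K := by
    intro x hx hQx
    by_cases hx0 : x = 0
    · rw [hx0, E_zero hS hQη]; exact one_mem _
    obtain ⟨x', hx', hq, t, ht, e1, -⟩ := torus x hx hx0 hQx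
    have hxη : polar Q x η = 0 := by rw [polar_comm]; exact hηperp x hx
    have := scaled η ((k ^ 2 - 1)⁻¹ • x) hη (W.smul_mem _ (hW2W hx)) hQη
      (by rw [polar_smul_right, hηperp x hx, smul_zero]) (polar_self_zero hQη)
      (by rw [polar_smul_left, hxη, smul_zero]) t ht
      (by rw [conj_E hS hQη (by rw [polar_smul_right, hηperp x hx, smul_zero]), hfixη t ht, smul_scalar, e1,
        smul_comm])
    rwa [smul_smul, mul_inv_cancel₀ hc, one_smul] at this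
  have hEx : ∀ x z : V, x ∈ W2 → z ∈ W2 → Q x = 0 → polar Q x z = 0 → (E x z : Om Q) ∈ K := by
    intro x z hx hz hQx hxz
    by_cases hx0 : x = 0
    · subst hx0
      rw [(E_eq_one_iff hS hQx hxz).2 (Or.inl rfl)]; exact one_mem _
    obtain ⟨x', hx', hq, t, ht, e1, e3⟩ := torus x hx hx0 hQx
    obtain ⟨z0, hz0⟩ : ∃ z0, z0 = z - polar Q x' z • x := ⟨_, rfl⟩
    have hxz0 : polar Q x z0 = 0 := by
      rw [hz0, polar_sub_right, hxz, polar_smul_right, polar_self_zero hQx, smul_zero, sub_zero]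
    have hx'z0 : polar Q x' z0 = 0 := by
      rw [hz0, polar_sub_right, polar_smul_right, polar_comm Q x' x, show polar Q x x' = 1 from hq.2.2, smul_eq_mul,
        mul_one, sub_self]
    rw [show z = z0 + polar Q x' z • x by rw [hz0, sub_add_cancel], E_add_smul hS hQx hxz0]
    have hz0W : z0 ∈ W2 := hz0 ▸ W2.sub_mem hz (W2.smul_mem _ hx)
    have hperp : ∀ u ∈ W2, polar Q u η = 0 := fun u hu => by rw [polar_comm]; exact hηperp u hu
    have h0 : polar Q x ((k ^ 2 - 1)⁻¹ • z0) = 0 := by rw [polar_smul_right, hxz0, smul_zero]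
    have := scaled x ((k ^ 2 - 1)⁻¹ • z0) (hW2W hx) (W.smul_mem _ (hW2W hz0W)) hQx h0 (hperp x hx)
      (hperp _ (W2.smul_mem _ hz0W)) t ht
      (by rw [conj_E hS hQx h0, e1, smul_scalar, e3 z0 hxz0 hx'z0, E_smul_left hS hQx h0])
    rwa [smul_smul, mul_inv_cancel₀ hc, one_smul] at this
  have hEall : ∀ w ∈ W2, (E η w : Om Q) ∈ K := by
    intro w hw
    obtain ⟨x, hx, hx0, hQx⟩ := Small.QuadBasis.exists_singular Q (W := W2) (by omega)
    obtain ⟨x', hx', hq⟩ := partner_in hW2n hx hx0 hQx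
    obtain ⟨z0, hz0, e⟩ := lev_split hq hx hx' hw
    obtain ⟨hz0W, hxz0, hx'z0⟩ := mem_lev.1 hz0
    have hQx' : Q x' = 0 := hq.2.1
    have hperp : ∀ u ∈ W2, polar Q η u = 0 := hηperp
    have hsum : ∀ u v : V, u ∈ W2 → v ∈ W2 → (E η u : Om Q) ∈ K → (E η v : Om Q) ∈ K → (E η (u + v) : Om Q) ∈ K :=
      fun u v hu hv h h' => by rw [← E_mul hS hQη (hperp u hu) (hperp v hv)]; exact mul_mem h h'
    have hz : (E η z0 : Om Q) ∈ K := by
      obtain ⟨hm, hfix⟩ := hE x z0 (hW2W hx) (hW2W hz0W) hQx hxz0 (by rw [polar_comm]; exact hperp x hx)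
        (by rw [polar_comm]; exact hperp z0 hz0W)
      have hmem := (hK _).1 (hEη x' hx' hQx')
      have h := (hconj (E x z0) (E η x') hm hfix hmem.1 hmem.2.1).2 (hEη x' hx' hQx')
      rw [conj_E hS hQη (hperp x' hx'), hfix,
        E_partner hS hQx hxz0 (show polar Q x x' = 1 from hq.2.2),
        show polar Q z0 x' = 0 by rw [polar_comm]; exact hx'z0, zero_add] at h
      have h' := hsum (x' + z0 - Q z0 • x) (-x' + Q z0 • x) (W2.sub_mem (W2.add_mem hx' hz0W) (W2.smul_mem _ hx))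
        (W2.add_mem (W2.neg_mem hx') (W2.smul_mem _ hx)) h (hsum _ _ (W2.neg_mem hx') (W2.smul_mem _ hx)
          (hEη _ (W2.neg_mem hx') (by rw [QuadraticMap.map_neg, hQx']))
          (hEη _ (W2.smul_mem _ hx) (by rw [QuadraticMap.map_smul, hQx, smul_zero])))
      rwa [show x' + z0 - Q z0 • x + (-x' + Q z0 • x) = z0 by abel] at h'
    rw [e]
    exact hsum _ _ (W2.add_mem (W2.smul_mem _ hx) (W2.smul_mem _ hx')) hz0W
      (hsum _ _ (W2.smul_mem _ hx) (W2.smul_mem _ hx')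
        (hEη _ (W2.smul_mem _ hx) (by rw [QuadraticMap.map_smul, hQx, smul_zero]))
        (hEη _ (W2.smul_mem _ hx') (by rw [QuadraticMap.map_smul, hQx', smul_zero]))) hz
  have hW2K : fixGrp Q W2 ≤ K := fixGrp_le_of_E hS C.two (m - 2) W2 hW2n hd2 K hEx
  -- the element
  have hηp : polar Q η (g • η') = 1 := by rw [← hgη, polar_iso_smul]; exact hr.2.2
  obtain ⟨y, hy, hy'⟩ := to_f hS hr hη hη' (fixGrp_smul_mem hS.pnd hg hη') (by rw [form_smul]; exact hr.2.1)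
    (by rw [hηp]; exact one_ne_zero)
  rw [hηp, one_smul] at hy'
  have hyK : (E η y : Om Q) ∈ K := hEall y (hW2 ▸ hy)
  obtain ⟨hym, hyf, -⟩ := (hK _).1 hyK
  have hlast : E η y * g ∈ K := hW2K (hW2 ▸ mem_fixGrp_lev hS hr hWn hη hη' (mul_mem hym hg)
    (by rw [mul_smul, hgη, hyf]) (by rw [mul_smul, hy']))
  have := ((hK _).1 (mul_mem (inv_mem hyK) hlast)).2.2
  rwa [inv_mul_cancel_left] at this

end Ctx

end Cfsg.Agent.Char.OmegaDeg
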