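import Cfsg.Agent.Lib.Char.OmegaDeg.Moves
import Cfsg.Agent.Lib.Classical.OrthIndex

/-!
# Generation of the odd orthogonal groups of subspaces by their Siegel elements

`flip a f w` exchanges the pair up to scalars and reflects in `w`.  With the Siegel elements at the two
points of the pair and the elements of its orthogonal it generates the group of a nondegenerate subspace.
-/

set_option autoImplicit false
set_option linter.unusedSectionVars false
set_option linter.style.haveILetI false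

namespace Cfsg.Agent.Char.OmegaDeg

open Module QuadraticMap Cfsg.Agent.Classical Cfsg.Agent.Classical.OCount
open Cfsg.Agent.Small.OMinIndex

variable {F : Type*} [Field F] [Finite F] {V : Type*} [AddCommGroup V] [Module F V] [FiniteDimensional F V]
  {Q : QuadraticForm F V}

/-- Exchange of a pair with the reflection in `w`. -/
noncomputable def flip (Q : QuadraticForm F V) (a f w : V) : Om Q :=
  E a ((Q w)⁻¹ • w) * E f w * E a ((Q w)⁻¹ • w)

theorem finrank_lev {U : Submodule F V} {a f : V} (ha : a ∈ U) (hf : f ∈ U) (hp : IsHPair Q (a, f)) :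
    finrank F (lev Q U a f) + 2 = finrank F U := by
  have h1 : perpIn Q U a < U := lt_of_le_of_ne inf_le_left fun e => one_ne_zero (α := F)
    (hp.2.2.symm.trans (mem_perpIn.1 (e.symm ▸ hf : f ∈ perpIn Q U a)).2)
  have h2 : lev Q U a f < perpIn Q U a := lt_of_le_of_ne inf_le_left fun e => one_ne_zero (α := F) (by
    have h := (mem_lev.1 (e.symm ▸ mem_perpIn.2 ⟨ha, polar_self_zero hp.1⟩ : a ∈ lev Q U a f)).2.2
    rwa [polar_comm, show polar Q a f = 1 from hp.2.2] at h)
  have := Submodule.finrank_lt_finrank_of_lt h1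
  have := Submodule.finrank_lt_finrank_of_lt h2
  have h3 := finrank_comp_in (Q := Q) (U := U) a f
  rw [← show lev Q U a f = perpIn Q (perpIn Q U a) f from rfl] at h3
  omega

variable (hS : Space Q) {a f : V} (hp : IsHPair Q (a, f))
include hS hp

section Flip

variable {w : V} (haw : polar Q a w = 0) (hfw : polar Q f w = 0) (hw : Q w ≠ 0)
include haw hfw hw

omit hw in
theorem flip_parts : Q a = 0 ∧ Q f = 0 ∧ polar Q a f = 1 ∧ polar Q f a = 1 ∧ polar Q w a = 0 ∧ polar Q w f = 0 :=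
  ⟨hp.1, hp.2.1, hp.2.2, by rw [polar_comm]; exact hp.2.2, by rw [polar_comm]; exact haw,
    by rw [polar_comm]; exact hfw⟩

omit hw in
theorem flip_perp_smul : polar Q a ((Q w)⁻¹ • w) = 0 := by rw [polar_smul_right, haw, smul_zero]

theorem flip_a : (flip Q a f w) • a = -(Q w) • f := by
  obtain ⟨hQa, hQf, haf, hfa, hwa, hwf⟩ := flip_parts hS hp haw hfw
  have h' := flip_perp_smul hS hp haw hfw
  rw [flip, mul_smul, mul_smul, E_fix_self hS hQa h', E_partner hS hQf hfw hfa, hwa, zero_add,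
    E_apply hS hQa h']
  simp only [polar_sub_right, polar_add_right, polar_smul_left, polar_smul_right, polar_self_zero hQa, haw, haf,
    hwa, hwf, ORefl.polar_self_two, QuadraticMap.map_smul, smul_eq_mul]
  match_scalars <;> field_simp <;> ring

theorem flip_f : (flip Q a f w) • f = -(Q w)⁻¹ • a := by
  obtain ⟨hQa, hQf, haf, hfa, hwa, hwf⟩ := flip_parts hS hp haw hfw
  have h' := flip_perp_smul hS hp haw hfw
  rw [flip, mul_smul, mul_smul, E_partner hS hQa h' haf, E_apply hS hQf hfw, E_apply hS hQa h']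
  simp only [polar_sub_right, polar_add_right, polar_smul_left, polar_smul_right, polar_self_zero hQa,
    polar_self_zero hQf, haw, hfw, haf, hfa, hwa, hwf, ORefl.polar_self_two, QuadraticMap.map_smul, smul_eq_mul]
  match_scalars <;> field_simp <;> ring

theorem flip_perp {x : V} (hax : polar Q a x = 0) (hfx : polar Q f x = 0) :
    (flip Q a f w) • x = x - ((Q w)⁻¹ * polar Q w x) • w := by
  obtain ⟨hQa, hQf, haf, hfa, hwa, hwf⟩ := flip_parts hS hp haw hfw
  have h' := flip_perp_smul hS hp haw hfw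
  rw [flip, mul_smul, mul_smul, E_apply_perp hS hQa h' hax, E_apply hS hQf hfw, E_apply hS hQa h']
  simp only [polar_sub_right, polar_add_right, polar_smul_left, polar_smul_right, polar_self_zero hQa,
    haw, haf, hfa, hwa, hwf, hax, hfx, ORefl.polar_self_two, QuadraticMap.map_smul,
    smul_eq_mul]
  match_scalars <;> field_simp <;> ring

theorem flip_w : (flip Q a f w) • w = -w := by
  rw [flip_perp hS hp haw hfw hw haw hfw, ORefl.polar_self_two, mul_left_comm, inv_mul_cancel₀ hw, mul_one]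
  module

theorem flip_mul_self : flip Q a f w * flip Q a f w = 1 := by
  refine om_ext fun x => ?_
  obtain ⟨hQa, hQf, haf, hfa, hwa, hwf⟩ := flip_parts hS hp haw hfw
  obtain ⟨x0, hx0⟩ : ∃ x0, x0 = x - polar Q f x • a - polar Q a x • f := ⟨_, rfl⟩
  obtain ⟨h1, h2⟩ : polar Q a x0 = 0 ∧ polar Q f x0 = 0 := hx0 ▸ mem_comp.1 (exists_split hp x)
  have e : x = polar Q f x • a + polar Q a x • f + x0 := by rw [hx0]; abel
  rw [one_smul, mul_smul, e]
  simp only [smul_add, smul_scalar, flip_a hS hp haw hfw hw, flip_f hS hp haw hfw hw,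
    flip_perp hS hp haw hfw hw h1 h2, smul_sub, flip_w hS hp haw hfw hw]
  match_scalars <;> field_simp <;> ring

theorem flip_inv : (flip Q a f w)⁻¹ = flip Q a f w := inv_eq_of_mul_eq_one_right (flip_mul_self hS hp haw hfw hw)

omit hw in
theorem conj_flip (g : Om Q) : g * flip Q a f w * g⁻¹ = flip Q (g • a) (g • f) (g • w) := by
  obtain ⟨hQa, hQf, haf, hfa, hwa, hwf⟩ := flip_parts hS hp haw hfw
  have h' := flip_perp_smul hS hp haw hfw
  rw [flip, flip, form_smul, ← smul_scalar g, ← conj_E hS hQa h', ← conj_E hS hQf hfw]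
  group

omit hw in
/-- Scaling the pair changes the axis only. -/
theorem flip_scale {t : F} (ht : t ≠ 0) : flip Q (t • a) (t⁻¹ • f) w = flip Q a f (t⁻¹ • w) := by
  obtain ⟨hQa, hQf, haf, hfa, hwa, hwf⟩ := flip_parts hS hp haw hfw
  rw [flip, flip, E_smul_left hS hQa (flip_perp_smul hS hp haw hfw), E_smul_left hS hQf hfw,
    QuadraticMap.map_smul, smul_eq_mul]
  have e : t • (Q w)⁻¹ • w = (t⁻¹ • t⁻¹ * Q w)⁻¹ • t⁻¹ • w := by
    rw [smul_smul, smul_smul]; congr 1; simp only [smul_eq_mul]; field_simp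
  simp only [smul_eq_mul] at e
  rw [e]

omit hw in
/-- The middle of the product. -/
theorem E_eq_flip : (E f w : Om Q) = E a (-((Q w)⁻¹ • w)) * flip Q a f w * E a (-((Q w)⁻¹ • w)) := by
  rw [← E_inv hS hp.1 (flip_perp_smul hS hp haw hfw), flip]
  group

theorem flip_mem {U : Submodule F V} (haU : a ∈ U) (hfU : f ∈ U) (hwU : w ∈ U) :
    flip Q a f w ∈ fixGrp Q U := by
  have h' := E_mem hS hp.1 haU (U.smul_mem (Q w)⁻¹ hwU) (flip_perp_smul hS hp haw hfw)
  exact mul_mem (mul_mem h' (E_mem hS hp.2.1 hfU hwU hfw)) h'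

end Flip

/-! ### Reduction -/

section Reduce

variable {U : Submodule F V} (hU : NonDeg Q U) (ha : a ∈ U) (hf : f ∈ U)
include hU ha hf

omit hS hU in
theorem lev_split {x : V} (hx : x ∈ U) : ∃ x0 ∈ lev Q U a f, x = polar Q f x • a + polar Q a x • f + x0 :=
  ⟨_, lev_proj ha hf hp hx, by abel⟩

/-- An element fixing the pair lives on its orthogonal. -/
theorem mem_fixGrp_lev {g : Om Q} (hg : g ∈ fixGrp Q U) (e1 : g • a = a) (e2 : g • f = f) :
    g ∈ fixGrp Q (lev Q U a f) := by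
  intro z hz
  obtain ⟨z', hz'⟩ : ∃ z', z' = z - polar Q f z • a - polar Q a z • f := ⟨_, rfl⟩
  obtain ⟨h1, h2⟩ : polar Q a z' = 0 ∧ polar Q f z' = 0 := hz' ▸ mem_comp.1 (exists_split hp z)
  have hperp : ∀ u ∈ U, polar Q u z' = 0 := by
    intro u hu
    obtain ⟨u0, hu0, e⟩ := lev_split hp ha hf hu
    obtain ⟨-, hau, hfu⟩ := mem_lev.1 hu0
    rw [e, polar_add_left, polar_add_left, polar_smul_left, polar_smul_left, h1, h2, hz', polar_sub_right,
      polar_sub_right, hz u0 hu0, polar_smul_right, polar_smul_right, polar_comm Q u0 a, hau, polar_comm Q u0 f, hfu]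
    simp
  have e : z = z' + polar Q f z • a + polar Q a z • f := by rw [hz']; abel
  conv_lhs => rw [e]
  rw [smul_add, smul_add, smul_scalar, smul_scalar, e1, e2, hg z' hperp]
  exact e.symm

omit hU in
/-- A Siegel element at `a` carrying a singular vector to the line of `f`. -/
theorem to_f {x : V} (hx : x ∈ U) (hQx : Q x = 0) (hs : polar Q a x ≠ 0) :
    ∃ y ∈ lev Q U a f, (E a y : Om Q) • x = polar Q a x • f := by
  obtain ⟨x0, hx0, e⟩ := lev_split hp ha hf hx
  obtain ⟨-, h1, h2⟩ := mem_lev.1 hx0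
  obtain ⟨r, hr⟩ : ∃ r, r = polar Q f x := ⟨_, rfl⟩
  obtain ⟨s, hs'⟩ : ∃ s, s = polar Q a x := ⟨_, rfl⟩
  rw [← hr, ← hs'] at e
  rw [← hs'] at hs ⊢
  have hQ : r * s + Q x0 = 0 := by
    rw [e, map_two, map_two, QuadraticMap.map_smul, QuadraticMap.map_smul, polar_add_left, polar_smul_left,
      polar_smul_left, polar_smul_left, polar_smul_right, h1, h2, show polar Q a f = 1 from hp.2.2,
      show Q a = 0 from hp.1, show Q f = 0 from hp.2.1] at hQx
    simp only [smul_eq_mul, mul_zero, mul_one, add_zero, zero_add] at hQx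
    exact hQx
  refine ⟨(-s⁻¹) • x0, Submodule.smul_mem _ _ hx0, ?_⟩
  rw [E_apply hS hp.1 (by rw [polar_smul_right, h1, smul_zero]), ← hs', e, QuadraticMap.map_smul]
  simp only [polar_add_right, polar_smul_left, polar_smul_right, polar_comm Q x0 a, h1, polar_comm Q x0 f, h2,
    ORefl.polar_self_two, smul_eq_mul]
  match_scalars <;> field_simp
  · linear_combination hQ
  all_goals ring

variable {K : Subgroup (Om Q)} (hA : ∀ w ∈ lev Q U a f, (E a w : Om Q) ∈ K)
  (hB : ∀ w ∈ lev Q U a f, (E f w : Om Q) ∈ K) (h2 : (2 : F) ≠ 0)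
include hA hB h2

omit hU h2 in
theorem flip_mem_K {w : V} (hw : w ∈ lev Q U a f) : flip Q a f w ∈ K :=
  mul_mem (mul_mem (hA _ (Submodule.smul_mem _ _ hw)) (hB _ hw)) (hA _ (Submodule.smul_mem _ _ hw))

/-- Reduction to the elements scaling the pair. -/
theorem exists_reduce (h3 : 3 ≤ finrank F U) {g : Om Q} (hg : g ∈ fixGrp Q U) :
    ∃ k ∈ K, ∃ s : F, s ≠ 0 ∧ k ∈ fixGrp Q U ∧ (k * g) • a = s • a ∧ (k * g) • f = s⁻¹ • f := by
  have hWn := nonDeg_lev hU ha hf hp
  have hd := finrank_lev ha hf hp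
  have hEA : ∀ w ∈ lev Q U a f, (E a w : Om Q) ∈ fixGrp Q U := fun w hw =>
    E_mem hS hp.1 ha (mem_lev.1 hw).1 (mem_lev.1 hw).2.1
  have hEB : ∀ w ∈ lev Q U a f, (E f w : Om Q) ∈ fixGrp Q U := fun w hw =>
    E_mem hS hp.2.1 hf (mem_lev.1 hw).1 (mem_lev.1 hw).2.2
  obtain ⟨w₁, hw₁, hQw₁⟩ := hWn.exists_ns fun e => by rw [e, finrank_bot] at hd; omega
  obtain ⟨x, hx⟩ : ∃ x, x = g • a := ⟨_, rfl⟩
  have hxU : x ∈ U := hx ▸ fixGrp_smul_mem hS.pnd hg ha
  have hQx : Q x = 0 := by rw [hx, form_smul]; exact hp.1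
  have hfa : polar Q f a = 1 := by rw [polar_comm]; exact hp.2.2
  have hx0 : x ≠ 0 := fun e => one_ne_zero (α := F) (by
    rw [← show polar Q a f = 1 from hp.2.2, ← polar_iso_smul g a f, ← hx, e, polar_zero_left])
  -- move off the orthogonal of `a`
  obtain ⟨k₁, hk₁, hk₁U, hs⟩ : ∃ k ∈ K, k ∈ fixGrp Q U ∧ polar Q a (k • x) ≠ 0 := by
    by_cases hax : polar Q a x = 0
    · obtain ⟨x0, hx0W, e⟩ := lev_split hp ha hf hxU
      rw [hax, zero_smul, add_zero] at e
      obtain ⟨w, hw, hne⟩ : ∃ w ∈ lev Q U a f, polar Q w x + Q w * polar Q f x ≠ 0 := by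
        by_cases hr : polar Q f x = 0
        · rw [hr, zero_smul, zero_add] at e
          subst e
          obtain ⟨z, hz, hzx⟩ : ∃ z ∈ lev Q U a f, polar Q z x ≠ 0 := by
            by_contra! hc
            exact hx0 (hWn x hx0W fun u hu => by rw [polar_comm]; exact hc u hu)
          exact ⟨z, hz, by rwa [hr, mul_zero, add_zero]⟩
        · by_contra! hc
          have e1 := hc _ hw₁
          have e2 := hc _ (Submodule.neg_mem _ hw₁)
          rw [polar_neg_left, QuadraticMap.map_neg] at e2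
          exact mul_ne_zero h2 (mul_ne_zero hQw₁ hr) (by linear_combination e1 + e2)
      refine ⟨E f w, hB w hw, hEB w hw, ?_⟩
      rw [E_apply hS hp.2.1 (mem_lev.1 hw).2.2, polar_sub_right, polar_add_right, polar_smul_right,
        polar_smul_right, hax, (mem_lev.1 hw).2.1, show polar Q a f = 1 from hp.2.2, smul_zero, add_zero, zero_sub,
        smul_eq_mul, mul_one, neg_ne_zero]
      exact hne
    · exact ⟨1, one_mem _, one_mem _, by rwa [one_smul]⟩
  obtain ⟨y, hy, hy'⟩ := to_f hS hp ha hf (fixGrp_smul_mem hS.pnd hk₁U hxU) (by rw [form_smul]; exact hQx) hs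
  obtain ⟨k₂, hk₂⟩ : ∃ k, k = flip Q a f w₁ * E a y * k₁ := ⟨_, rfl⟩
  obtain ⟨hw₁U, haw₁, hfw₁⟩ := mem_lev.1 hw₁
  have hk₂K : k₂ ∈ K := hk₂ ▸ mul_mem (mul_mem (flip_mem_K hS hp ha hf hA hB hw₁) (hA y hy)) hk₁
  have hk₂U : k₂ ∈ fixGrp Q U :=
    hk₂ ▸ mul_mem (mul_mem (flip_mem hS hp haw₁ hfw₁ hQw₁ ha hf hw₁U) (hEA y hy)) hk₁U
  obtain ⟨s, hs'⟩ : ∃ s, s = polar Q a (k₁ • x) * -(Q w₁)⁻¹ := ⟨_, rfl⟩
  have hs0 : s ≠ 0 := hs' ▸ mul_ne_zero hs (neg_ne_zero.2 (inv_ne_zero hQw₁))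
  have ea : (k₂ * g) • a = s • a := by
    rw [mul_smul, ← hx, hk₂, mul_smul, mul_smul, hy', smul_scalar, flip_f hS hp haw₁ hfw₁ hQw₁, smul_smul, hs']
  obtain ⟨x', hx'⟩ : ∃ x', x' = (k₂ * g) • f := ⟨_, rfl⟩
  have hax' : polar Q a x' = s⁻¹ := by
    have h := polar_iso_smul (k₂ * g) a f
    rw [ea, ← hx', polar_smul_left, show polar Q a f = 1 from hp.2.2, smul_eq_mul] at h
    exact eq_inv_of_mul_eq_one_right h
  obtain ⟨y', hy'', hy3⟩ := to_f hS hp ha hf (hx' ▸ fixGrp_smul_mem hS.pnd (mul_mem hk₂U hg) hf)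
    (by rw [hx', form_smul]; exact hp.2.1) (by rw [hax']; exact inv_ne_zero hs0)
  rw [hax'] at hy3
  refine ⟨E a y' * k₂, mul_mem (hA y' hy'') hk₂K, s, hs0, mul_mem (hEA y' hy'') hk₂U, ?_, ?_⟩
  · rw [mul_assoc, mul_smul, ea, smul_scalar, E_fix_self hS hp.1 (mem_lev.1 hy'').2.1]
  · rw [mul_assoc, mul_smul, ← hx', hy3]

variable (hC : fixGrp Q (lev Q U a f) ≤ K)
include hC

/-- Two values suffice to scale the pair. -/
theorem gen_five (h4 : 4 ≤ finrank F U) : fixGrp Q U ≤ K := by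
  intro g hg
  have hd := finrank_lev ha hf hp
  have hWn := nonDeg_lev hU ha hf hp
  obtain ⟨k, hk, s, hs, hkU, ea, ef⟩ := exists_reduce hS hp hU ha hf hA hB h2 (by omega) hg
  obtain ⟨w₁, hw₁, hQ₁⟩ := exists_value hWn (by omega) 1
  obtain ⟨w₂, hw₂, hQ₂⟩ := exists_value hWn (by omega) s
  obtain ⟨hw₁U, h11, h12⟩ := mem_lev.1 hw₁
  obtain ⟨hw₂U, h21, h22⟩ := mem_lev.1 hw₂
  have hn₁ : Q w₁ ≠ 0 := by rw [hQ₁]; exact one_ne_zero
  have hn₂ : Q w₂ ≠ 0 := by rw [hQ₂]; exact hs
  obtain ⟨d, hd'⟩ : ∃ d, d = flip Q a f w₂ * flip Q a f w₁ := ⟨_, rfl⟩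
  have hdK : d ∈ K :=
    hd' ▸ mul_mem (flip_mem_K hS hp ha hf hA hB hw₂) (flip_mem_K hS hp ha hf hA hB hw₁)
  have hdU : d ∈ fixGrp Q U :=
    hd' ▸ mul_mem (flip_mem hS hp h21 h22 hn₂ ha hf hw₂U) (flip_mem hS hp h11 h12 hn₁ ha hf hw₁U)
  have da : d • a = s⁻¹ • a := by
    rw [hd', mul_smul, flip_a hS hp h11 h12 hn₁, smul_scalar, flip_f hS hp h21 h22 hn₂, smul_smul, hQ₁, hQ₂]
    congr 1; ring
  have df : d • f = s • f := by
    rw [hd', mul_smul, flip_f hS hp h11 h12 hn₁, smul_scalar, flip_a hS hp h21 h22 hn₂, smul_smul, hQ₁, hQ₂]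
    congr 1; ring
  have hfin : d * (k * g) ∈ fixGrp Q (lev Q U a f) := mem_fixGrp_lev hS hp hU ha hf (mul_mem hdU (mul_mem hkU hg))
    (by rw [mul_smul, ea, smul_scalar, da, smul_smul, mul_inv_cancel₀ hs, one_smul])
    (by rw [mul_smul, ef, smul_scalar, df, smul_smul, inv_mul_cancel₀ hs, one_smul])
  have := mul_mem (inv_mem (mul_mem hdK hk)) (hC hfin)
  rwa [show (d * k)⁻¹ * (d * (k * g)) = g by group] at this

omit hC in
/-- In dimension three the two signs leave the squares only. -/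
theorem gen_three (h3 : finrank F U = 3) : fixGrp Q U ≤ K := by
  intro g hg
  haveI := Fintype.ofFinite F
  have hd := finrank_lev ha hf hp
  have hWn := nonDeg_lev hU ha hf hp
  obtain ⟨k, hk, s, hs, hkU, ea, ef⟩ := exists_reduce hS hp hU ha hf hA hB h2 (by omega) hg
  obtain ⟨z, hz, hQz⟩ := hWn.exists_ns fun e => by rw [e, finrank_bot] at hd; omega
  obtain ⟨hzU, haz, hfz⟩ := mem_lev.1 hz
  have hz0 : z ≠ 0 := fun e => hQz (by rw [e, QuadraticMap.map_zero])
  have hline : ∀ x ∈ lev Q U a f, ∃ t : F, x = t • z := fun x hx => by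
    obtain ⟨t, ht⟩ := (finrank_eq_one_iff_of_nonzero' (⟨z, hz⟩ : lev Q U a f)
      (fun e => hz0 (congrArg Subtype.val e))).1 (show finrank F (lev Q U a f) = 1 by omega) ⟨x, hx⟩
    exact ⟨t, (congrArg Subtype.val ht).symm⟩
  obtain ⟨g', hg'⟩ : ∃ g', g' = k * g := ⟨_, rfl⟩
  rw [← hg'] at ea ef
  have hg'U : g' ∈ fixGrp Q U := hg' ▸ mul_mem hkU hg
  have hga : polar Q a (g' • z) = 0 := by
    have h := polar_iso_smul g' a z
    rw [ea, haz, polar_smul_left, smul_eq_mul] at h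
    exact (mul_eq_zero.1 h).resolve_left hs
  have hgf : polar Q f (g' • z) = 0 := by
    have h := polar_iso_smul g' f z
    rw [ef, hfz, polar_smul_left, smul_eq_mul] at h
    exact (mul_eq_zero.1 h).resolve_left (inv_ne_zero hs)
  obtain ⟨ε, hε⟩ := hline _ (mem_lev.2 ⟨fixGrp_smul_mem hS.pnd hg'U hzU, hga, hgf⟩)
  have hε2 : ε = 1 ∨ ε = -1 := by
    have h := form_smul g' z
    rw [hε, QuadraticMap.map_smul, smul_eq_mul] at h
    exact mul_self_eq_one_iff.1 (mul_right_cancel₀ hQz (by rw [h, one_mul]))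
  -- the decomposition
  have hsplit : ∀ v : V, ∃ α β t : F, ∃ r : V, v = α • a + β • f + t • z + r ∧ ∀ u ∈ U, polar Q u r = 0 := by
    intro v
    obtain ⟨v0, hv0⟩ : ∃ v0, v0 = v - polar Q f v • a - polar Q a v • f := ⟨_, rfl⟩
    obtain ⟨h1, h2'⟩ : polar Q a v0 = 0 ∧ polar Q f v0 = 0 := hv0 ▸ mem_comp.1 (exists_split hp v)
    obtain ⟨t, ht⟩ : ∃ t, t = polar Q z v0 / polar Q z z := ⟨_, rfl⟩
    refine ⟨polar Q f v, polar Q a v, t, v0 - t • z, by rw [hv0]; abel, fun u hu => ?_⟩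
    obtain ⟨u0, hu0, e⟩ := lev_split hp ha hf hu
    obtain ⟨t', rfl⟩ := hline u0 hu0
    rw [e, polar_add_left, polar_add_left, polar_smul_left, polar_smul_left, polar_smul_left, polar_sub_right,
      polar_sub_right, polar_sub_right, h1, h2', polar_smul_right, polar_smul_right, polar_smul_right, haz, hfz, ht]
    have hzz : polar Q z z ≠ 0 := by rw [ORefl.polar_self_two]; exact mul_ne_zero h2 hQz
    simp only [smul_eq_mul, div_mul_cancel₀ _ hzz, sub_self, mul_zero, add_zero]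
  have h1 : Q (a + f) ≠ 0 := by
    have := value_pair hp 1
    rw [one_smul] at this
    rw [this]; exact one_ne_zero
  have hs2 : Q (a + s • f) = s := value_pair hp s
  obtain ⟨pa, pf, pfix⟩ := refl_pair_apply hp hs
  have hn : 2 ≤ finrank F V := by have := hS.seven; omega
  have hboth : OOmega.both Q h2 hS.pnd g'.1 = 1 := by
    have h := SetLike.le_def.1 (hS.commutator_eq.symm.trans (OOmega.commutator_eq h2 hS.pnd hn)).le g'.2
    exact h
  have hεone : ε = 1 := by
    refine hε2.resolve_right fun hneg => ?_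
    have e : g'.1 = OOmega.rf Q (a + f) * OOmega.rf Q (a + s • f) * OOmega.rf Q z := by
      refine Subtype.ext (LinearEquiv.ext fun v => ?_)
      obtain ⟨α, β, t, r, hv, hr⟩ := hsplit v
      change g' • v = ORefl.refl Q (a + f) (ORefl.refl Q (a + s • f) (ORefl.refl Q z v))
      have hza : polar Q z a = 0 := by rw [polar_comm]; exact haz
      have hzf : polar Q z f = 0 := by rw [polar_comm]; exact hfz
      rw [hv]
      simp only [smul_add, smul_scalar, ea, ef, hε, hneg, hg'U r hr, map_add, map_smul,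
        ORefl.refl_fix hza, ORefl.refl_fix hzf, ORefl.refl_fix (hr z hzU), pa, pf,
        pfix r (hr a ha) (hr f hf)]
      rw [show ORefl.refl Q z z = (-1 : F) • z by
        rw [ORefl.refl_apply, ORefl.polar_self_two, mul_left_comm, inv_mul_cancel₀ hQz]; module, map_smul, map_smul,
        pfix z haz hfz]
    rw [e, map_mul, map_mul] at hboth
    have h' := congrArg Prod.fst hboth
    simp only [OOmega.both, MonoidHom.prod_apply, Prod.fst_mul, Prod.fst_one] at h'
    rw [OOmega.dsign_rf h2 hS.pnd h1, OOmega.dsign_rf h2 hS.pnd (by rw [hs2]; exact hs),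
      OOmega.dsign_rf h2 hS.pnd hQz] at h'
    exact absurd h' (by decide)
  have hsq : IsSquare s := by
    have e : g'.1 = OOmega.rf Q (a + f) * OOmega.rf Q (a + s • f) := by
      refine Subtype.ext (LinearEquiv.ext fun v => ?_)
      obtain ⟨α, β, t, r, hv, hr⟩ := hsplit v
      change g' • v = ORefl.refl Q (a + f) (ORefl.refl Q (a + s • f) v)
      rw [hv]
      simp only [smul_add, smul_scalar, ea, ef, hε, hεone, one_smul, hg'U r hr, map_add, map_smul,
        pa, pf, pfix z haz hfz, pfix r (hr a ha) (hr f hf)]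
    rw [e, map_mul] at hboth
    have h' := congrArg Prod.snd hboth
    simp only [OOmega.both, MonoidHom.prod_apply, Prod.snd_mul, Prod.snd_one] at h'
    rw [(OOmega.spinor_rf h2 hS.pnd hn h1).2 (by
      rw [show Q (a + f) = 1 by have := value_pair hp 1; rwa [one_smul] at this]; exact IsSquare.one), one_mul] at h'
    rw [← hs2]
    exact (OOmega.spinor_rf h2 hS.pnd hn (by rw [hs2]; exact hs)).1 h'
  obtain ⟨r, hr⟩ := hsq
  have hr0 : r ≠ 0 := fun e => hs (by rw [hr, e, zero_mul])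
  have hrz : r • z ∈ lev Q U a f := Submodule.smul_mem _ _ hz
  obtain ⟨-, harz, hfrz⟩ := mem_lev.1 hrz
  have hQrz : Q (r • z) = s * Q z := by rw [QuadraticMap.map_smul, smul_eq_mul, hr]
  have hnrz : Q (r • z) ≠ 0 := by rw [hQrz]; exact mul_ne_zero hs hQz
  obtain ⟨d, hd'⟩ : ∃ d, d = flip Q a f (r • z) * flip Q a f z := ⟨_, rfl⟩
  have hdK : d ∈ K := hd' ▸ mul_mem (flip_mem_K hS hp ha hf hA hB hrz) (flip_mem_K hS hp ha hf hA hB hz)
  have hdU : d ∈ fixGrp Q U :=
    hd' ▸ mul_mem (flip_mem hS hp harz hfrz hnrz ha hf (U.smul_mem r hzU)) (flip_mem hS hp haz hfz hQz ha hf hzU)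
  have hone : d * g' = 1 := by
    refine om_ext fun v => ?_
    obtain ⟨α, β, t, x, hv, hx⟩ := hsplit v
    rw [mul_smul, one_smul, hv]
    simp only [smul_add, smul_scalar, ea, ef, hε, hεone, one_smul, hg'U x hx, hdU x hx, smul_smul]
    simp only [hd', mul_smul, flip_a hS hp haz hfz hQz, flip_f hS hp haz hfz hQz, flip_w hS hp haz hfz hQz,
      smul_scalar, flip_f hS hp harz hfrz hnrz, flip_a hS hp harz hfrz hnrz, hQrz]
    rw [show flip Q a f (r • z) • (-z) = z by
      rw [show -z = (-r⁻¹) • (r • z) by rw [smul_smul, neg_mul, inv_mul_cancel₀ hr0, neg_one_smul], smul_scalar,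
        flip_w hS hp harz hfrz hnrz, smul_neg, neg_smul, neg_neg, smul_smul, inv_mul_cancel₀ hr0, one_smul]]
    match_scalars <;> field_simp
  rw [hg', ← mul_assoc] at hone
  rw [← inv_inv g, ← eq_inv_of_mul_eq_one_left hone]
  exact inv_mem (mul_mem hdK hk)

end Reduce

omit hp in
/-- The Siegel elements of a nondegenerate subspace of odd dimension generate its group. -/
theorem fixGrp_le_of_E (h2 : (2 : F) ≠ 0) : ∀ (i : ℕ) (U : Submodule F V) (_ : NonDeg Q U)
    (_ : finrank F U = 2 * i + 3) (K : Subgroup (Om Q)),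
    (∀ x z, x ∈ U → z ∈ U → Q x = 0 → polar Q x z = 0 → (E x z : Om Q) ∈ K) → fixGrp Q U ≤ K := by
  intro i
  induction i with
  | zero =>
    intro U hU hd K hK
    haveI := Fintype.ofFinite F
    obtain ⟨k, hk, hk0, hQk⟩ := Small.QuadBasis.exists_singular Q (W := U) (by omega)
    obtain ⟨l, hl, hp⟩ := exists_partner_in hk hQk (by by_contra! hc; exact hk0 (hU k hk hc))
    exact gen_three hS hp hU hk hl (fun w hw => hK _ _ hk (mem_lev.1 hw).1 hQk (mem_lev.1 hw).2.1)
      (fun w hw => hK _ _ hl (mem_lev.1 hw).1 hp.2.1 (mem_lev.1 hw).2.2) h2 hd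
  | succ i ih =>
    intro U hU hd K hK
    haveI := Fintype.ofFinite F
    obtain ⟨k, hk, hk0, hQk⟩ := Small.QuadBasis.exists_singular Q (W := U) (by omega)
    obtain ⟨l, hl, hp⟩ := exists_partner_in hk hQk (by by_contra! hc; exact hk0 (hU k hk hc))
    refine gen_five hS hp hU hk hl (fun w hw => hK _ _ hk (mem_lev.1 hw).1 hQk (mem_lev.1 hw).2.1)
      (fun w hw => hK _ _ hl (mem_lev.1 hw).1 hp.2.1 (mem_lev.1 hw).2.2) h2 ?_ (by omega)
    exact ih _ (nonDeg_lev hU hk hl hp) (by have := finrank_lev hk hl hp; omega) K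
      fun x z hx hz => hK x z (lev_le U k l hx) (lev_le U k l hz)

end Cfsg.Agent.Char.OmegaDeg
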