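import Cfsg.Agent.Lib.Char.OmegaDeg.OddRadon
import Cfsg.Agent.Lib.Char.OmegaDeg.Main

/-!
# The least degree for the odd dimensions
-/

set_option autoImplicit false
set_option linter.unusedSectionVars false
set_option linter.style.haveILetI false

universe u

namespace Cfsg.Agent.Char.OmegaDeg

open Module QuadraticMap Cfsg.Agent.Classical Cfsg.Agent.Classical.OCount
open Cfsg.Agent.Small.OMinIndex

variable {F : Type u} [Field F] [Fintype F] {V : Type u} [AddCommGroup V] [Module F V] [FiniteDimensional F V]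
  {Q : QuadraticForm F V}

variable {M : Type} [AddCommGroup M] [Module ℂ M] [FiniteDimensional ℂ M]
  {ρ : Representation ℂ (fixGrp Q (⊤ : Submodule F V)) M} {ψ : AddChar F ℂ} {a f : V} {m : ℕ}

namespace Ctx

variable (C : Ctx ρ ψ a f m)
include C

theorem exchange_line {v : M} (hv : IsVec ρ ψ a f v) (B : Herm ρ) {z₁ : V} (hz₁ : z₁ ∈ lev Q ⊤ a f) (hQz₁ : Q z₁ = 1)
    {η : V} (hηW : η ∈ lev Q ⊤ a f) (hη0 : η ≠ 0) (hQη : Q η = 0) (hz₁η : polar Q z₁ η = 0) :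
    act ρ (flip Q a f z₁) (lineSum ρ ψ a f η v) = lineSum ρ ψ a f η v := by
  classical
  haveI : Finite V := Module.finite_of_finite F
  have hS := C.L.space
  have hp := C.hp
  obtain ⟨-, haz₁, hfz₁⟩ := mem_lev.1 hz₁
  obtain ⟨-, haη, hfη⟩ := mem_lev.1 hηW
  have hn₁ : Q z₁ ≠ 0 := by rw [hQz₁]; exact one_ne_zero
  obtain ⟨h, hh⟩ : ∃ h, h = flip Q a f z₁ := ⟨_, rfl⟩
  have hha : h • a = -f := by rw [hh, flip_a hS hp haz₁ hfz₁ hn₁, hQz₁, neg_smul, one_smul]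
  have hhf : h • f = -a := by rw [hh, flip_f hS hp haz₁ hfz₁ hn₁, hQz₁, inv_one, neg_smul, one_smul]
  have hhW : ∀ w ∈ lev Q ⊤ a f, h • w ∈ lev Q ⊤ a f := by
    intro w hw
    obtain ⟨-, h1, h2⟩ := mem_lev.1 hw
    rw [hh, flip_perp hS hp haz₁ hfz₁ hn₁ h1 h2]
    exact Submodule.sub_mem _ hw (Submodule.smul_mem _ _ hz₁)
  have hhη : h • η = η := by
    rw [hh, flip_perp hS hp haz₁ hfz₁ hn₁ haη hfη, hz₁η, mul_zero, zero_smul, sub_zero]
  -- the exchange permutes the projections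
  have hproj : ∀ z ∈ lev Q ⊤ a f, Q z ≠ 0 →
      act ρ h (perpProj ρ ψ a f z v) = perpProj ρ ψ a f (h • z) v := by
    intro z hz hQz
    obtain ⟨hv1, hy1⟩ := C.flip_fix hv B hz hQz
    obtain ⟨-, haz, hfz⟩ := mem_lev.1 hz
    have ea : (h * flip Q a f z) • a = Q z • a := by
      rw [mul_smul, flip_a hS hp haz hfz hQz, smul_scalar, hhf]; module
    have ef : (h * flip Q a f z) • f = (Q z)⁻¹ • f := by
      rw [mul_smul, flip_f hS hp haz hfz hQz, smul_scalar, hha]; module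
    conv_lhs => rw [← hy1, ← C.act_mul_apply, C.act_perpProj hQz ea ef hz, C.act_mul_apply, hv1, mul_smul,
      flip_w hS hp haz hfz hQz, show -z = (-1 : F) • z by rw [neg_smul, one_smul], smul_scalar, neg_smul, one_smul,
      perpProj_neg]
    rw [hh, (C.flip_fix hv B hz₁ hn₁).1]
  obtain ⟨δ, hδdef⟩ : ∃ δ, δ = lineSum ρ ψ a f η v := ⟨_, rfl⟩
  haveI := Fintype.ofFinite {z : V // z ∈ lev Q ⊤ a f ∧ polar Q η z = 0 ∧ Q z ≠ 0}
  rw [← hδdef]
  suffices hhδ : act ρ h δ = δ by rwa [hh] at hhδ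
  have hr := C.radon hv hηW hη0 hQη
  have hsum : act ρ h (∑ z : {z : V // z ∈ lev Q ⊤ a f ∧ polar Q η z = 0 ∧ Q z ≠ 0}, perpProj ρ ψ a f z.1 v) =
      ∑ z : {z : V // z ∈ lev Q ⊤ a f ∧ polar Q η z = 0 ∧ Q z ≠ 0}, perpProj ρ ψ a f z.1 v := by
    rw [map_sum]
    have hmem : ∀ z : V, (z ∈ lev Q ⊤ a f ∧ polar Q η z = 0 ∧ Q z ≠ 0) →
        (h • z ∈ lev Q ⊤ a f ∧ polar Q η (h • z) = 0 ∧ Q (h • z) ≠ 0) := fun z hz =>
      ⟨hhW z hz.1, by conv_lhs => rw [← hhη]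
                      rw [polar_iso_smul]; exact hz.2.1, by rw [form_smul]; exact hz.2.2⟩
    let σ : {z : V // z ∈ lev Q ⊤ a f ∧ polar Q η z = 0 ∧ Q z ≠ 0} →
        {z : V // z ∈ lev Q ⊤ a f ∧ polar Q η z = 0 ∧ Q z ≠ 0} := fun z => ⟨h • z.1, hmem z.1 z.2⟩
    have hσ : Function.Bijective σ :=
      Finite.injective_iff_bijective.1 fun z z' e => Subtype.ext (smul_inj h (congrArg Subtype.val e))
    exact Fintype.sum_bijective σ hσ _ _ fun z => hproj z.1 z.2.1 z.2.2.2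
  rw [hr, map_add, map_smul, map_smul, hh, (C.flip_fix hv B hz₁ hn₁).1, ← hh, ← hδdef] at hsum
  refine smul_right_injective M ?_ (add_left_cancel hsum)
  have hm := C.two_le
  rw [show 2 * m = 2 * m - 2 + 2 by omega, show 2 * m - 2 + 2 - 1 = 2 * m - 2 + 1 by omega, Nat.add_sub_cancel,
    pow_succ, pow_succ, show ∀ p q : ℂ, p * q * q - p * q - (p * q - p) = p * ((q - 1) * (q - 1)) by intros; ring]
  have hq1 : (Fintype.card F : ℂ) - 1 ≠ 0 := sub_ne_zero.2 (by exact_mod_cast (Fintype.one_lt_card (α := F)).ne')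
  exact mul_ne_zero (pow_ne_zero _ (Nat.cast_ne_zero.2 Fintype.card_ne_zero)) (mul_ne_zero hq1 hq1)

theorem triv : Triv ρ := by
  by_contra hnt
  classical
  haveI : Finite V := Module.finite_of_finite F
  haveI := Fintype.ofFinite V
  haveI := finite_om Q
  haveI : Finite (fixGrp Q (⊤ : Submodule F V)) := inferInstance
  obtain ⟨B⟩ := exists_herm ρ
  obtain ⟨v, hv⟩ := C.exists_vec hnt B
  have hS := C.L.space
  have hp := C.hp
  have hQa : Q a = 0 := hp.1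
  have hQf : Q f = 0 := hp.2.1
  have haf : polar Q a f = 1 := hp.2.2
  have hfa : polar Q f a = 1 := by rw [polar_comm]; exact haf
  have hWn := C.ndW
  obtain ⟨z₁, hz₁, hQz₁⟩ := exists_value hWn (by have := C.L.fourW; omega) 1
  obtain ⟨-, haz₁, hfz₁⟩ := mem_lev.1 hz₁
  have hn₁ : Q z₁ ≠ 0 := by rw [hQz₁]; exact one_ne_zero
  obtain ⟨h, hh⟩ : ∃ h, h = flip Q a f z₁ := ⟨_, rfl⟩
  have hha : h • a = -f := by rw [hh, flip_a hS hp haz₁ hfz₁ hn₁, hQz₁, neg_smul, one_smul]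
  have hhf : h • f = -a := by rw [hh, flip_f hS hp haz₁ hfz₁ hn₁, hQz₁, inv_one, neg_smul, one_smul]
  have hhh : h * h = 1 := hh ▸ flip_mul_self hS hp haz₁ hfz₁ hn₁
  have hhW : ∀ w ∈ lev Q ⊤ a f, h • w ∈ lev Q ⊤ a f := by
    intro w hw
    obtain ⟨-, h1, h2⟩ := mem_lev.1 hw
    rw [hh, flip_perp hS hp haz₁ hfz₁ hn₁ h1 h2]
    exact Submodule.sub_mem _ hw (Submodule.smul_mem _ _ hz₁)
  obtain ⟨η, hη, hη0, hQη⟩ := Small.QuadBasis.exists_singular Q (W := perpIn Q (lev Q ⊤ a f) z₁) (by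
    have := finrank_perpIn (Q := Q) (lev Q ⊤ a f) z₁
    have := C.dimW; have := C.two_le
    omega)
  obtain ⟨hηW, hz₁η⟩ := mem_perpIn.1 hη
  obtain ⟨-, haη, hfη⟩ := mem_lev.1 hηW
  have hhη : h • η = η := by
    rw [hh, flip_perp hS hp haz₁ hfz₁ hn₁ haη hfη, hz₁η, mul_zero, zero_smul, sub_zero]
  obtain ⟨δ, hδdef⟩ : ∃ δ, δ = lineSum ρ ψ a f η v := ⟨_, rfl⟩
  have hhδ : act ρ h δ = δ := by rw [hh, hδdef]; exact C.exchange_line hv B hz₁ hQz₁ hηW hη0 hQη hz₁η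
  -- the stabiliser of the line
  haveI := Fintype.ofFinite (lev Q ⊤ a f)
  have hwtδ : ∀ x ∈ lev Q ⊤ a f, wt ρ ψ a (lev Q ⊤ a f) x δ =
      if x ∈ F ∙ η then wt ρ ψ a (lev Q ⊤ a f) x v else 0 := fun x hx => by rw [hδdef, C.wt_lineSum hx]
  have hδ0 : δ ≠ 0 := fun e => hv.sing η hηW hη0 hQη (by
    have h1 := hwtδ η hηW
    rw [e, map_zero, if_pos (Submodule.mem_span_singleton_self η)] at h1
    exact h1.symm)
  have hline : ∀ g ∈ fixGrp Q (lev Q ⊤ a f), ∀ t : F, t ≠ 0 → g • η = t • η → act ρ g δ = δ := by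
    intro g hg t ht e
    refine C.ext_wt fun x hx => ?_
    have hx' : g⁻¹ • x ∈ lev Q ⊤ a f := fixGrp_smul_mem hS.pnd (inv_mem hg) hx
    have h1 := fun y : M => C.act_wt_apply (g := g) one_ne_zero (by rw [one_smul, C.L.fix_a hg])
      (by rw [inv_one, one_smul, C.L.fix_f hg]) (g⁻¹ • x) y
    simp only [inv_one, one_smul, smul_inv_smul] at h1
    have hiff : g⁻¹ • x ∈ F ∙ η ↔ x ∈ F ∙ η := by
      constructor
      · intro hin
        obtain ⟨r, hr⟩ := Submodule.mem_span_singleton.1 hin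
        refine Submodule.mem_span_singleton.2 ⟨r * t, ?_⟩
        rw [← smul_smul, ← e, ← smul_scalar, hr, smul_inv_smul]
      · intro hin
        obtain ⟨r, hr⟩ := Submodule.mem_span_singleton.1 hin
        refine Submodule.mem_span_singleton.2 ⟨r * t⁻¹, ?_⟩
        rw [eq_inv_smul_iff, smul_scalar, e, smul_smul, mul_assoc, inv_mul_cancel₀ ht, mul_one, hr]
    rw [← h1, hwtδ _ hx', hwtδ _ hx]
    by_cases hin : x ∈ F ∙ η
    · rw [if_pos hin, if_pos (hiff.2 hin), h1, hv.fixed g hg]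
    · rw [if_neg hin, if_neg fun e' => hin (hiff.1 e'), map_zero]
  have hδA : ∀ w ∈ lev Q ⊤ a f, polar Q w η = 0 → act ρ (E a w : Om Q) δ = δ := by
    intro w hw hwη
    rw [hδdef, lineSum, map_sum]
    refine Finset.sum_congr rfl fun x _ => ?_
    split_ifs with hin
    · obtain ⟨r, hr⟩ := Submodule.mem_span_singleton.1 hin
      rw [C.opA_wt_apply hw, ← hr, polar_smul_right, hwη, smul_zero, AddChar.map_zero_eq_one, one_smul]
    · rw [map_zero]
  have hδB : ∀ w ∈ lev Q ⊤ a f, polar Q w η = 0 → act ρ (E f w : Om Q) δ = δ := by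
    intro w hw hwη
    have hw' : -(h • w) ∈ lev Q ⊤ a f := Submodule.neg_mem _ (hhW w hw)
    have hw'η : polar Q (-(h • w)) η = 0 := by
      rw [polar_neg_left, ← hhη, polar_iso_smul, hwη, neg_zero]
    have e : h * E a (-(h • w)) * h⁻¹ = E f w := by
      rw [conj_E hS hQa (mem_lev.1 hw').2.1, hha, show h • -(h • w) = -w by
        rw [show -(h • w) = (-1 : F) • (h • w) by rw [neg_smul, one_smul], smul_scalar, ← mul_smul, hhh, one_smul,
          neg_smul, one_smul],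
        show -f = (-1 : F) • f by rw [neg_smul, one_smul],
        E_smul_left hS hQf (by rw [polar_neg_right, (mem_lev.1 hw).2.2, neg_zero]), neg_smul, one_smul, neg_neg]
    rw [← e, inv_eq_of_mul_eq_one_right hhh, C.act_mul_apply, hhδ, C.act_mul_apply, hδA _ hw' hw'η, hhδ]
  obtain ⟨η', hη'W, hr⟩ := partner_in hWn hηW hη0 hQη
  obtain ⟨U, hU⟩ : ∃ U, U = lev Q ⊤ η η' := ⟨_, rfl⟩
  have hUn : NonDeg Q U := hU ▸ nonDeg_lev C.L.sh.nd Submodule.mem_top Submodule.mem_top hr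
  have hUd : finrank F U + 2 = 2 * (m + 1) + 1 := by
    rw [hU, finrank_lev Submodule.mem_top Submodule.mem_top hr, C.L.sh.dim]
  obtain ⟨-, haη', hfη'⟩ := mem_lev.1 hη'W
  have haU : a ∈ U := hU ▸ mem_lev.2 ⟨Submodule.mem_top, by rw [polar_comm]; exact haη, by rw [polar_comm]; exact haη'⟩
  have hfU : f ∈ U := hU ▸ mem_lev.2 ⟨Submodule.mem_top, by rw [polar_comm]; exact hfη, by rw [polar_comm]; exact hfη'⟩
  have hsub : ∀ w ∈ lev Q U a f, w ∈ lev Q ⊤ a f ∧ polar Q w η = 0 := by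
    intro w hw
    obtain ⟨hwU, h1, h2⟩ := mem_lev.1 hw
    rw [hU] at hwU
    exact ⟨mem_lev.2 ⟨Submodule.mem_top, h1, h2⟩, by rw [polar_comm]; exact (mem_lev.1 hwU).2.1⟩
  have hUfix : ∀ g ∈ fixGrp Q U, act ρ g δ = δ := by
    have := gen_five hS hp hUn haU hfU (K := C.stabVec δ)
      (fun w hw => (C.mem_stabVec).2 (hδA w (hsub w hw).1 (hsub w hw).2))
      (fun w hw => (C.mem_stabVec).2 (hδB w (hsub w hw).1 (hsub w hw).2)) C.two
      (fun g hg => by
        refine (C.mem_stabVec).2 (hline g (fixGrp_mono (fun w hw => (hsub w hw).1) hg) 1 one_ne_zero ?_)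
        rw [one_smul]
        exact hg η fun w hw => (hsub w hw).2) (by have := C.two_le; omega)
    exact fun g hg => (C.mem_stabVec).1 (this hg)
  have hEη : ∀ x ∈ U, act ρ (E η x : Om Q) δ = δ := by
    intro x hx
    obtain ⟨x2, hx2, e⟩ := lev_split hp haU hfU hx
    have hperp : ∀ y ∈ U, polar Q η y = 0 := fun y hy => by rw [hU] at hy; exact (mem_lev.1 hy).2.1
    have hsU : ∀ r : F, r • a ∈ U := fun r => U.smul_mem r haU
    have htU : ∀ r : F, r • f ∈ U := fun r => U.smul_mem r hfU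
    have hx2U : x2 ∈ U := (mem_lev.1 hx2).1
    have fa : ∀ r : F, act ρ (E η (r • a) : Om Q) δ = δ := fun r => by
      rw [E_swap hS hQη (hperp _ (hsU r)) (by rw [QuadraticMap.map_smul, hQa, smul_zero]),
        E_smul_left hS hQa (by rw [polar_neg_right, haη, neg_zero])]
      refine hδA _ (Submodule.smul_mem _ _ (Submodule.neg_mem _ hηW)) ?_
      rw [polar_smul_left, polar_neg_left, polar_self_zero hQη, neg_zero, smul_zero]
    have ff : ∀ r : F, act ρ (E η (r • f) : Om Q) δ = δ := fun r => by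
      rw [E_swap hS hQη (hperp _ (htU r)) (by rw [QuadraticMap.map_smul, hQf, smul_zero]),
        E_smul_left hS hQf (by rw [polar_neg_right, hfη, neg_zero])]
      refine hδB _ (Submodule.smul_mem _ _ (Submodule.neg_mem _ hηW)) ?_
      rw [polar_smul_left, polar_neg_left, polar_self_zero hQη, neg_zero, smul_zero]
    have f2 : act ρ (E η x2 : Om Q) δ = δ :=
      hline _ (E_mem hS hQη hηW (hsub x2 hx2).1 (hperp _ hx2U)) 1 one_ne_zero
        (by rw [one_smul]; exact E_fix_self hS hQη (hperp _ hx2U))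
    rw [e, ← E_mul hS hQη (hperp _ (U.add_mem (hsU _) (htU _))) (hperp _ hx2U),
      ← E_mul hS hQη (hperp _ (hsU _)) (hperp _ (htU _)), C.act_mul_apply, C.act_mul_apply, f2, ff, fa]
  -- transport to the point
  obtain ⟨g, hgη, hgη'⟩ : ∃ g : Om Q, g • η = a ∧ g • η' = f := by
    obtain ⟨g₀, -, e0⟩ := move_eq hS C.L.sh.nd (by have := C.L.six; omega) (Submodule.mem_top : η ∈ (⊤ : Submodule F V))
      C.L.ha hη0 C.L.a_ne (hQa.trans hQη.symm)
    have h1 : polar Q a (g₀ • η') = 1 := by rw [← e0, polar_iso_smul]; exact hr.2.2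
    obtain ⟨y, hy, hy'⟩ := to_f hS hp C.L.ha C.L.hf (x := g₀ • η') Submodule.mem_top
      (by rw [form_smul]; exact hr.2.1) (by rw [h1]; exact one_ne_zero)
    rw [h1, one_smul] at hy'
    exact ⟨E a y * g₀, by rw [mul_smul, e0, E_fix_self hS hQa (mem_lev.1 hy).2.1], by rw [mul_smul, hy']⟩
  have hmemU : ∀ {x : Om Q}, x • η = η → x • η' = η' → x ∈ fixGrp Q U := fun {x} e1 e2 =>
    hU ▸ mem_fixGrp_lev hS hr C.L.sh.nd Submodule.mem_top Submodule.mem_top (C.mem x) e1 e2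
  refine hnt (C.triv_of_eigen B (u := act ρ g δ) (fun e => hδ0 ?_) (fun w hw => ?_) (fun l hl => ?_)
    fun s t ht e1 e2 => ⟨1, ?_⟩)
  · rw [← C.act_inv_apply g δ, e, map_zero]
  · obtain ⟨-, haw, hfw⟩ := mem_lev.1 hw
    have h1 : polar Q η (g⁻¹ • w) = 0 := by rw [← polar_iso_smul g, hgη, smul_inv_smul, haw]
    have hwU : g⁻¹ • w ∈ U := hU ▸ mem_lev.2 ⟨Submodule.mem_top, h1, by
      rw [← polar_iso_smul g, hgη', smul_inv_smul, hfw]⟩
    rw [← C.act_mul_apply, show (E a w : Om Q) * g = g * E η (g⁻¹ • w) by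
      rw [mul_inv_eq_iff_eq_mul.1 (conj_E hS hQη h1 g), hgη, smul_inv_smul], C.act_mul_apply, hEη _ hwU]
  · rw [← C.act_mul_apply, show l * g = g * (g⁻¹ * l * g) by group, C.act_mul_apply, hUfix _ (hmemU ?_ ?_)]
    · rw [mul_smul, mul_smul, hgη, C.L.fix_a hl, inv_smul_eq_iff, hgη]
    · rw [mul_smul, mul_smul, hgη', C.L.fix_f hl, inv_smul_eq_iff, hgη']
  · rw [one_smul, ← C.act_mul_apply, show s * g = g * (g⁻¹ * s * g) by group, C.act_mul_apply]
    congr 1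
    obtain ⟨σ, hσ⟩ : ∃ σ, σ = g⁻¹ * s * g := ⟨_, rfl⟩
    obtain ⟨τ, hτ, t1, t2⟩ := exists_scale hS hWn C.L.fourW hηW hη'W hr ht
    have s1 : σ • η = t • η := by rw [hσ, mul_smul, mul_smul, hgη, e1, inv_smul_eq_iff, smul_scalar, hgη]
    have s2 : σ • η' = t⁻¹ • η' := by rw [hσ, mul_smul, mul_smul, hgη', e2, inv_smul_eq_iff, smul_scalar, hgη']
    have hfix : τ⁻¹ * σ ∈ fixGrp Q U := hmemU (by rw [mul_smul, s1, inv_smul_eq_iff, t1])
      (by rw [mul_smul, s2, inv_smul_eq_iff, t2])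
    rw [← hσ, show σ = τ * (τ⁻¹ * σ) by rw [mul_inv_cancel_left], C.act_mul_apply, hUfix _ hfix, hline τ hτ t ht t1]

end Ctx

/-- Representations of small degree kill the Siegel elements. -/
theorem low_odd (hS : Space Q) (h2 : (2 : F) ≠ 0) (h5 : 5 ≤ Fintype.card F) {n : ℕ} (hn : 3 ≤ n)
    (hsh : Sh Q (⊤ : Submodule F V) n 1) :
    Low Q ⊤ ((Fintype.card F ^ (2 * n) - 1) / (Fintype.card F ^ 2 - 1)) := by
  refine low_of_irr fun M _ _ _ ρ _ hirr hT => ?_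
  obtain ⟨m, rfl⟩ : ∃ m, n = m + 1 := ⟨n - 1, by omega⟩
  obtain ⟨a, f, L⟩ := exists_lv hS (j := m) hsh (by omega)
  obtain ⟨ψ, hψ⟩ := exists_psi F
  have hq2 : 0 < Fintype.card F ^ 2 - 1 := by
    have := Nat.pow_le_pow_left h5 2
    omega
  have hlt : finrank ℂ M * (Fintype.card F ^ 2 - 1) < Fintype.card F ^ (2 * m + 2) - 1 := by
    rw [show 2 * m + 2 = 2 * (m + 1) by ring]
    exact lt_of_lt_of_le ((Nat.mul_lt_mul_right hq2).2 hT) (Nat.div_mul_le_self _ _)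
  obtain ⟨q, hq⟩ : ∃ q, q = Fintype.card F := ⟨_, rfl⟩
  obtain ⟨X, hX⟩ : ∃ X, X = q ^ m := ⟨_, rfl⟩
  have hX25 : 25 ≤ X := by
    rw [hX, hq]
    calc 25 ≤ Fintype.card F ^ 2 := Nat.pow_le_pow_left h5 2
      _ ≤ _ := Nat.pow_le_pow_right (by omega) (by omega)
  have hpow : Fintype.card F ^ (2 * m + 2) = X * X * (q * q) := by
    rw [hX, hq, ← pow_two, ← pow_two, ← pow_mul, mul_comm m 2, ← pow_add]
  obtain ⟨r, hr⟩ : ∃ r, q * q = r + 1 := ⟨q * q - 1, by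
    have : 1 ≤ q * q := Nat.mul_pos (by omega) (by omega)
    omega⟩
  rw [hpow, ← hq, show q ^ 2 = q * q from pow_two q, hr, Nat.add_sub_cancel] at hlt
  have hr24 : 24 ≤ r := by nlinarith
  obtain ⟨Y, rfl⟩ : ∃ Y, X = Y + 1 := ⟨X - 1, by omega⟩
  have hlt' : finrank ℂ M * r + 1 < (Y + 1) * (Y + 1) * (r + 1) := by omega
  have hns : ∀ c : F, c ≠ 0 → multv a f ρ ψ c = 0 := fun c hc => by
    by_contra hne
    have h1 := class_bound (ρ := ρ) L hψ hc
    rw [show base (Fintype.card F) 1 = 0 by simp [base], valNum, mul_zero, add_zero,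
      show m - 1 + 1 = m by omega, ← hq, ← hX, Nat.add_sub_cancel] at h1
    have h2' := (card_sqrt_one (F := F)).1
    have h3 : (q - 1) * (Y * (Y + 1)) ≤ 2 * finrank ℂ M :=
      le_trans (Nat.mul_le_mul_left _ (Nat.le_mul_of_pos_right _ (Nat.pos_of_ne_zero hne)))
        (le_trans h1 (Nat.mul_le_mul_right _ h2'))
    obtain ⟨p, rfl⟩ : ∃ p, q = p + 1 := ⟨q - 1, by omega⟩
    rw [Nat.add_sub_cancel] at h3
    have hp4 : 4 ≤ p := by omega
    nlinarith [Nat.mul_le_mul_right (Y * (Y + 1) * r) hp4, Nat.mul_le_mul_right r h3,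
      Nat.mul_le_mul_right ((Y + 1) * Y) hr24, Nat.mul_le_mul (show 24 ≤ Y by omega) hr24]
  have hsb := sing_bound (ρ := ρ) L hψ
  rw [show m - 1 + 1 = m by omega, ← hq, ← hX, Nat.add_sub_cancel] at hsb
  have hle : multv a f ρ ψ 0 ≤ 1 := by
    by_contra hne
    have h3 := Nat.mul_le_mul_left (Y * (Y + 1 + 1)) (show 2 ≤ multv a f ρ ψ 0 by omega)
    have h4 : 2 * (Y * (Y + 2)) * r ≤ finrank ℂ M * r := Nat.mul_le_mul_right r (by linarith)
    nlinarith [Nat.mul_le_mul (show 24 ≤ Y by omega) hr24, Nat.mul_le_mul_right ((Y + 1) * Y) hr24]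
  rcases Nat.le_one_iff_eq_zero_or_eq_one.1 hle with h0 | h1
  · exact triv_of_zero L hψ hns h0
  refine Ctx.triv (ψ := ψ) (a := a) (f := f) (m := m) ⟨L, hψ, h2, h5, hirr, ?_, fun y hy hQy => ?_, fun y hy hy0 hQy => ?_⟩
  · rw [hpow, ← hq, show q ^ 2 = q * q from pow_two q, hr, Nat.add_sub_cancel]
    exact hlt
  · exact wt_eq_zero L.fr (by rw [mult_eq L hψ hy (fun e => hQy (by rw [e, QuadraticMap.map_zero])), hns _ hQy])
  · rw [mult_eq L hψ hy hy0, hQy, h1]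

end Cfsg.Agent.Char.OmegaDeg
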