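import Cfsg.Agent.Lib.Char.OmegaDeg.OddEigen

/-!
# The projections summed over an orthogonal

The sum over the anisotropic vectors orthogonal to a singular `η` separates the weights on the line of `η`,
so their sum is fixed by the stabiliser of `η`.
-/

set_option autoImplicit false
set_option linter.unusedSectionVars false
set_option linter.style.haveILetI false

universe u

namespace Cfsg.Agent.Char.OmegaDeg

open Module QuadraticMap Cfsg.Agent.Classical Cfsg.Agent.Classical.OCount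
open Cfsg.Agent.Small.OMinIndex

variable {F : Type u} [Field F] [Fintype F] {V : Type u} [AddCommGroup V] [Module F V] [FiniteDimensional F V]
  {Q : QuadraticForm F V}

/-- The anisotropic vectors of an odd space. -/
theorem card_aniso {U : Submodule F V} {j : ℕ} (h : Sh Q U j 1) :
    Nat.card {x : V // x ∈ U ∧ Q x ≠ 0} + Fintype.card F ^ (2 * j) = Fintype.card F ^ (2 * j + 1) := by
  classical
  haveI : Finite V := Module.finite_of_finite F
  haveI := Fintype.ofFinite V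
  have hz : Nat.card {x : V // x ∈ U ∧ Q x = 0} = Fintype.card F ^ (2 * j) := by
    rw [h.sing]
    rcases j with _ | i
    · simp [valNum]
    · rw [valNum, Nat.add_sub_cancel, mul_one]
      obtain ⟨X, hX⟩ : ∃ X, Fintype.card F ^ (i + 1) = X + 1 :=
        ⟨_, (Nat.sub_add_cancel (Nat.one_le_pow _ _ Fintype.card_pos)).symm⟩
      rw [show 2 * (i + 1) = (i + 1) + (i + 1) by omega, pow_add (Fintype.card F) (i + 1) (i + 1), hX,
        Nat.add_sub_cancel]
      ring
  rw [← hz, ← h.dim, ← Nat.card_eq_fintype_card, ← natCard_eq_pow_finrank (K := F),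
    Nat.card_eq_fintype_card (α := U), Nat.card_eq_fintype_card, Nat.card_eq_fintype_card,
    Fintype.card_subtype, Fintype.card_subtype, Fintype.card_subtype, add_comm,
    ← Finset.card_union_of_disjoint (Finset.disjoint_filter.2 fun x _ h1 h2 => h2.2 h1.2)]
  congr 1
  ext x
  simp only [Finset.mem_union, Finset.mem_filter, Finset.mem_univ, true_and]
  tauto

/-- Splitting the orthogonal of a singular vector. -/
theorem card_perp_split {U : Submodule F V} {η η' : V} (hη : η ∈ U) (hη' : η' ∈ U) (hr : IsHPair Q (η, η'))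
    (P : V → Prop) (hP : ∀ w ∈ lev Q U η η', ∀ t : F, (P (t • η + w) ↔ P w)) :
    Nat.card {x : V // x ∈ U ∧ polar Q η x = 0 ∧ P x} =
      Fintype.card F * Nat.card {w : V // w ∈ lev Q U η η' ∧ P w} := by
  rw [← Nat.card_eq_fintype_card, ← Nat.card_prod]
  have hQη : Q η = 0 := hr.1
  have hη'η : polar Q η' η = 1 := by rw [polar_comm]; exact hr.2.2
  refine (Nat.card_eq_of_bijective (fun p : F × {w : V // w ∈ lev Q U η η' ∧ P w} =>
    (⟨p.1 • η + p.2.1, U.add_mem (U.smul_mem _ hη) (mem_lev.1 p.2.2.1).1, by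
      rw [polar_add_right, polar_smul_right, polar_self_zero hQη, (mem_lev.1 p.2.2.1).2.1, smul_zero, add_zero],
      (hP _ p.2.2.1 _).2 p.2.2.2⟩ : {x : V // x ∈ U ∧ polar Q η x = 0 ∧ P x})) ⟨fun p p' h => ?_, fun x => ?_⟩).symm
  · have h' : p.1 • η + p.2.1 = p'.1 • η + p'.2.1 := congrArg Subtype.val h
    have e := congrArg (polar Q η') h'
    rw [polar_add_right, polar_add_right, polar_smul_right, polar_smul_right, hη'η, (mem_lev.1 p.2.2.1).2.2,
      (mem_lev.1 p'.2.2.1).2.2] at e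
    simp only [smul_eq_mul, mul_one, add_zero] at e
    rw [e] at h'
    exact Prod.ext e (Subtype.ext (add_left_cancel h'))
  · obtain ⟨x, hx, hηx, hPx⟩ := x
    have hm := lev_proj hη hη' hr hx
    rw [hηx, zero_smul, sub_zero] at hm
    refine ⟨(polar Q η' x, ⟨x - polar Q η' x • η, hm, (hP _ hm (polar Q η' x)).1 ?_⟩), Subtype.ext ?_⟩
    · rwa [add_sub_cancel]
    · exact add_sub_cancel _ _

theorem aniso_shift {U : Submodule F V} {η η' : V} (hr : IsHPair Q (η, η')) (w : V) (hw : w ∈ lev Q U η η') (t : F) :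
    Q (t • η + w) = Q w := by
  rw [map_two, QuadraticMap.map_smul, show Q η = 0 from hr.1, polar_smul_left, (mem_lev.1 hw).2.1, smul_zero,
    smul_zero, zero_add, add_zero]

variable {M : Type} [AddCommGroup M] [Module ℂ M] [FiniteDimensional ℂ M]
  {ρ : Representation ℂ (fixGrp Q (⊤ : Submodule F V)) M} {ψ : AddChar F ℂ} {a f : V} {m : ℕ}

open scoped _root_.Classical in
/-- The sum of the weights on a line. -/
noncomputable def lineSum (ρ : Representation ℂ (fixGrp Q (⊤ : Submodule F V)) M) (ψ : AddChar F ℂ) (a f η : V)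
    (v : M) : M :=
  haveI : Finite V := Module.finite_of_finite F
  haveI := Fintype.ofFinite (lev Q ⊤ a f)
  ∑ x : lev Q ⊤ a f, if (x : V) ∈ F ∙ η then wt ρ ψ a (lev Q ⊤ a f) (x : V) v else 0

namespace Ctx

variable (C : Ctx ρ ψ a f m)
include C

/-- The counts on and off the line. -/
theorem card_common {η η₂ : V} (hη : η ∈ lev Q ⊤ a f) (hη0 : η ≠ 0) (hQη : Q η = 0) (hη₂ : η₂ ∈ lev Q ⊤ a f)
    (hQη₂ : Q η₂ = 0) :
    (η₂ ∈ F ∙ η → Nat.card {z : V // z ∈ lev Q ⊤ a f ∧ polar Q η z = 0 ∧ Q z ≠ 0 ∧ polar Q η₂ z = 0} +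
      Fintype.card F ^ (2 * m - 1) = Fintype.card F ^ (2 * m)) ∧
    (η₂ ∉ F ∙ η → Nat.card {z : V // z ∈ lev Q ⊤ a f ∧ polar Q η z = 0 ∧ Q z ≠ 0 ∧ polar Q η₂ z = 0} +
      Fintype.card F ^ (2 * m - 2) = Fintype.card F ^ (2 * m - 1)) := by
  obtain ⟨W, hW⟩ : ∃ W, W = lev Q ⊤ a f := ⟨_, rfl⟩
  have hsh : Sh Q W m 1 := hW ▸ C.L.shW
  have hWn : NonDeg Q W := hsh.nd
  have hm := C.two_le
  rw [← hW] at hη hη₂ ⊢
  refine ⟨fun hin => ?_, fun hout => ?_⟩
  · obtain ⟨η', hη', hr⟩ := partner_in hWn hη hη0 hQη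
    obtain ⟨t, ht⟩ := Submodule.mem_span_singleton.1 hin
    rw [Nat.card_congr (Equiv.subtypeEquivRight (fun z => by
      refine and_congr_right fun _ => and_congr_right fun hz => ?_
      refine and_iff_left ?_
      rw [← ht, polar_smul_left, hz, smul_zero] :
      ∀ z, (z ∈ W ∧ polar Q η z = 0 ∧ Q z ≠ 0 ∧ polar Q η₂ z = 0) ↔ (z ∈ W ∧ polar Q η z = 0 ∧ Q z ≠ 0))),
      card_perp_split hη hη' hr (fun z => Q z ≠ 0) fun w hw t => by rw [aniso_shift hr w hw t]]
    have h := card_aniso (hsh.lev hη hη' hr)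
    obtain ⟨i, rfl⟩ : ∃ i, m = i + 1 := ⟨m - 1, by omega⟩
    rw [show i + 1 - 1 = i from rfl] at h
    rw [show 2 * (i + 1) - 1 = 2 * i + 1 by omega, show 2 * (i + 1) = 2 * i + 2 by omega]
    linear_combination Fintype.card F * h
  · by_cases hb : polar Q η η₂ = 0
    · have hηS : η ∉ F ∙ η₂ := fun hin => hout (by
        obtain ⟨t, ht⟩ := Submodule.mem_span_singleton.1 hin
        have ht0 : t ≠ 0 := fun e => hη0 (by rw [← ht, e, zero_smul])
        exact Submodule.mem_span_singleton.2 ⟨t⁻¹, by rw [← ht, smul_smul, inv_mul_cancel₀ ht0, one_smul]⟩)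
      obtain ⟨η', hη', hr, hη'S⟩ := partner_perp hWn ((Submodule.span_singleton_le_iff_mem η₂ W).2 hη₂) hη hQη hηS
        (fun s hs => by
          obtain ⟨t, rfl⟩ := Submodule.mem_span_singleton.1 hs
          rw [polar_smul_right, hb, smul_zero])
      have hη'η₂ := hη'S η₂ (Submodule.mem_span_singleton_self _)
      have hη₂2 : η₂ ∈ lev Q W η η' := mem_lev.2 ⟨hη₂, hb, hη'η₂⟩
      have hη₂0 : η₂ ≠ 0 := fun e => hout (e ▸ zero_mem _)
      have hsh2 := hsh.lev hη hη' hr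
      obtain ⟨η₂', hη₂', hr2⟩ := partner_in hsh2.nd hη₂2 hη₂0 hQη₂
      rw [card_perp_split hη hη' hr (fun z => Q z ≠ 0 ∧ polar Q η₂ z = 0) fun w hw t => by
        rw [aniso_shift hr w hw t, polar_add_right, polar_smul_right, polar_comm Q η₂ η, hb, smul_zero, zero_add]]
      rw [Nat.card_congr (Equiv.subtypeEquivRight (fun z => and_congr_right fun _ => and_comm :
        ∀ z, (z ∈ lev Q W η η' ∧ Q z ≠ 0 ∧ polar Q η₂ z = 0) ↔ (z ∈ lev Q W η η' ∧ polar Q η₂ z = 0 ∧ Q z ≠ 0))),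
        card_perp_split hη₂2 hη₂' hr2 (fun z => Q z ≠ 0) fun w hw t => by rw [aniso_shift hr2 w hw t]]
      have h := card_aniso (hsh2.lev hη₂2 hη₂' hr2)
      obtain ⟨i, rfl⟩ : ∃ i, m = i + 2 := ⟨m - 2, by omega⟩
      rw [show i + 2 - 1 - 1 = i from rfl] at h
      rw [show 2 * (i + 2) - 2 = 2 * i + 2 by omega, show 2 * (i + 2) - 1 = 2 * i + 3 by omega]
      linear_combination Fintype.card F ^ 2 * h
    · obtain ⟨η', hη'⟩ : ∃ η', η' = (polar Q η η₂)⁻¹ • η₂ := ⟨_, rfl⟩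
      have hr : IsHPair Q (η, η') := ⟨hQη, by
          change Q η' = 0
          rw [hη', QuadraticMap.map_smul, hQη₂, smul_zero],
        by
          change polar Q η η' = 1
          rw [hη', polar_smul_right, smul_eq_mul, inv_mul_cancel₀ hb]⟩
      have hη'W : η' ∈ W := hη' ▸ W.smul_mem _ hη₂
      rw [Nat.card_congr (Equiv.subtypeEquivRight (fun z => by
        rw [mem_lev, hη', polar_smul_left, smul_eq_zero, or_iff_right (inv_ne_zero hb)]
        tauto :
        ∀ z, (z ∈ W ∧ polar Q η z = 0 ∧ Q z ≠ 0 ∧ polar Q η₂ z = 0) ↔ (z ∈ lev Q W η η' ∧ Q z ≠ 0)))]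
      have h := card_aniso (hsh.lev hη hη'W hr)
      rw [show 2 * (m - 1) + 1 = 2 * m - 1 by omega, show 2 * (m - 1) = 2 * m - 2 by omega] at h
      exact h

theorem wt_lineSum {η x : V}
    (hx : x ∈ lev Q ⊤ a f) [Decidable (x ∈ F ∙ η)] (v : M) :
    wt ρ ψ a (lev Q ⊤ a f) x (lineSum ρ ψ a f η v) =
      if x ∈ F ∙ η then wt ρ ψ a (lev Q ⊤ a f) x v else 0 := by
  classical
  haveI : Finite V := Module.finite_of_finite F
  letI := Fintype.ofFinite (lev Q ⊤ a f)
  rw [lineSum, map_sum, Finset.sum_eq_single (⟨x, hx⟩ : lev Q ⊤ a f)]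
  · by_cases h : x ∈ F ∙ η
    · rw [if_pos h, if_pos h, C.wt_wt hx hx, if_pos rfl]
    · rw [if_neg h, if_neg h, map_zero]
  · intro y _ hne
    by_cases h : (y : V) ∈ F ∙ η
    · rw [if_pos h, C.wt_wt hx y.2, if_neg fun e : x = (y : V) => hne (Subtype.ext e.symm)]
    · rw [if_neg h, map_zero]
  · exact fun hn => absurd (Finset.mem_univ _) hn

/-- The sum over the orthogonal. -/
theorem radon {v : M} (hv : IsVec ρ ψ a f v) {η : V} (hη : η ∈ lev Q ⊤ a f) (hη0 : η ≠ 0) (hQη : Q η = 0)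
    [Fintype {z : V // z ∈ lev Q ⊤ a f ∧ polar Q η z = 0 ∧ Q z ≠ 0}] :
    ∑ z : {z : V // z ∈ lev Q ⊤ a f ∧ polar Q η z = 0 ∧ Q z ≠ 0}, perpProj ρ ψ a f z.1 v =
      ((Fintype.card F : ℂ) ^ (2 * m - 1) - (Fintype.card F : ℂ) ^ (2 * m - 2)) • v +
      (((Fintype.card F : ℂ) ^ (2 * m) - (Fintype.card F : ℂ) ^ (2 * m - 1)) -
        ((Fintype.card F : ℂ) ^ (2 * m - 1) - (Fintype.card F : ℂ) ^ (2 * m - 2))) • lineSum ρ ψ a f η v := by
  classical
  haveI : Finite V := Module.finite_of_finite F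
  haveI := Fintype.ofFinite V
  haveI := Fintype.ofFinite (lev Q ⊤ a f)
  refine C.ext_wt fun x hx => ?_
  rw [map_sum, map_add, map_smul, map_smul, C.wt_lineSum hx]
  by_cases hx0 : x = 0
  · subst hx0
    rw [hv.zero, if_pos (zero_mem _), smul_zero, smul_zero, add_zero]
    exact Finset.sum_eq_zero fun z _ => by rw [C.wt_perpProj hx, hv.zero]; split_ifs <;> rfl
  by_cases hQx : Q x = 0
  swap
  · rw [C.ns x hx hQx]
    simp
  rw [Finset.sum_congr rfl fun z _ => C.wt_perpProj hx z.1 v, Finset.sum_ite, Finset.sum_const_zero, add_zero,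
    Finset.sum_const, ← Nat.cast_smul_eq_nsmul ℂ]
  have hcard : (Finset.univ.filter fun z : {z : V // z ∈ lev Q ⊤ a f ∧ polar Q η z = 0 ∧ Q z ≠ 0} =>
      polar Q z.1 x = 0).card = Nat.card {z : V // z ∈ lev Q ⊤ a f ∧ polar Q η z = 0 ∧ Q z ≠ 0 ∧ polar Q x z = 0} := by
    rw [← Fintype.card_subtype, ← Nat.card_eq_fintype_card]
    exact Nat.card_congr
      { toFun := fun z => ⟨z.1.1, z.1.2.1, z.1.2.2.1, z.1.2.2.2, by rw [polar_comm]; exact z.2⟩
        invFun := fun z => ⟨⟨z.1, z.2.1, z.2.2.1, z.2.2.2.1⟩, by rw [polar_comm]; exact z.2.2.2.2⟩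
        left_inv := fun z => rfl
        right_inv := fun z => rfl }
  rw [hcard]
  obtain ⟨hA, hB⟩ := C.card_common hη hη0 hQη hx hQx
  by_cases hin : x ∈ F ∙ η
  · have h := congrArg (fun n : ℕ => (n : ℂ)) (hA hin)
    push_cast at h
    rw [if_pos hin, ← add_smul]
    congr 1
    linear_combination h
  · have h := congrArg (fun n : ℕ => (n : ℂ)) (hB hin)
    push_cast at h
    rw [if_neg hin, smul_zero, add_zero]
    congr 1
    linear_combination h

end Ctx

end Cfsg.Agent.Char.OmegaDeg
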