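import Cfsg.Agent.Lib.Char.OmegaDeg.Weights
import Mathlib.NumberTheory.GaussSum
import Mathlib.NumberTheory.LegendreSymbol.QuadraticChar.Basic

/-!
# Exponential sums over a space whose zeros are one in `q`

The transform of the indicator of the zeros changes its sign between the two classes of nonsingular vectors,
that of the quadratic character of the form is constant on them.
-/

set_option autoImplicit false
set_option linter.unusedSectionVars false
set_option linter.style.haveILetI false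

namespace Cfsg.Agent.Char.OmegaDeg

open Module QuadraticMap Cfsg.Agent.Classical Cfsg.Agent.Classical.OCount
open Cfsg.Agent.Small.OMinIndex

variable {F : Type*} [Field F] [Fintype F]

open scoped _root_.Classical in
/-- The quadratic character with complex values. -/
noncomputable def qc (F : Type*) [Field F] [Fintype F] : MulChar F ℂ :=
  (quadraticChar F).ringHomComp (Int.castRingHom ℂ)

section Char

variable (h2 : (2 : F) ≠ 0)
include h2

theorem ringChar_ne_two : ringChar F ≠ 2 := fun h => h2 (by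
  haveI := ringChar.of_eq h
  exact CharTwo.two_eq_zero)

omit h2 in
theorem qc_sq {c : F} (hc : c ≠ 0) : qc F c * qc F c = 1 := by
  classical
  have h := quadraticChar_sq_one hc
  have h' := congrArg (Int.cast : ℤ → ℂ) h
  simpa [qc, MulChar.ringHomComp_apply, pow_two] using h'

omit h2 in
theorem qc_inv {c : F} : qc F c⁻¹ = qc F c := by
  rcases eq_or_ne c 0 with rfl | hc
  · rw [inv_zero]
  · calc qc F c⁻¹ = qc F c⁻¹ * (qc F c * qc F c) := by rw [qc_sq hc, mul_one]
      _ = qc F c := by rw [← mul_assoc, ← map_mul, inv_mul_cancel₀ hc, map_one, one_mul]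

theorem qc_ne_one : qc F ≠ 1 :=
  (MulChar.ringHomComp_ne_one_iff (RingHom.injective_int _)).2 (by
    classical exact quadraticChar_ne_one (ringChar_ne_two h2))

theorem qc_sum : ∑ c : F, qc F c = 0 := MulChar.sum_eq_zero_of_ne_one (qc_ne_one h2)

/-- A nonsquare and the two classes. -/
theorem exists_nonsquare_class : ∃ ν : F, ν ≠ 0 ∧ qc F ν = -1 ∧
    ∀ c : F, c ≠ 0 → (∃ k, k ≠ 0 ∧ c = k ^ 2 ∧ qc F c = 1) ∨ (∃ k, k ≠ 0 ∧ c = ν * k ^ 2 ∧ qc F c = -1) := by
  classical
  obtain ⟨ν, hν⟩ := quadraticChar_exists_neg_one (ringChar_ne_two h2)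
  have hν0 : ν ≠ 0 := fun e => by rw [e, quadraticChar_zero] at hν; exact absurd hν (by decide)
  have hval : ∀ c : F, qc F c = ((quadraticChar F c : ℤ) : ℂ) := fun c => rfl
  refine ⟨ν, hν0, by rw [hval, hν]; norm_num, fun c hc => ?_⟩
  rcases quadraticChar_dichotomy hc with h | h
  · obtain ⟨k, hk⟩ := (quadraticChar_one_iff_isSquare hc).1 h
    exact Or.inl ⟨k, fun e => hc (by rw [hk, e, mul_zero]), by rw [hk, pow_two], by rw [hval, h]; norm_num⟩
  · have h' : quadraticChar F (c / ν) = 1 := by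
      have e : quadraticChar F (c / ν) * quadraticChar F ν = quadraticChar F c := by
        rw [← map_mul, div_mul_cancel₀ _ hν0]
      rw [hν, h] at e
      linarith
    obtain ⟨k, hk⟩ := (quadraticChar_one_iff_isSquare (div_ne_zero hc hν0)).1 h'
    exact Or.inr ⟨k, fun e => div_ne_zero hc hν0 (by rw [hk, e, mul_zero]),
      by rw [pow_two, ← hk, mul_div_cancel₀ _ hν0], by rw [hval, h]; norm_num⟩

variable {ψ : AddChar F ℂ} (hψ : ψ ≠ 1)
include hψ

/-- The Gauss sum. -/
theorem gauss_ne : ∑ t : F, qc F t * ψ t ≠ 0 :=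
  gaussSum_ne_zero_of_nontrivial (Nat.cast_ne_zero.2 Fintype.card_ne_zero) (qc_ne_one h2)
    (AddChar.IsPrimitive.of_ne_one hψ)

theorem gauss_scale (c : F) : ∑ t : F, qc F t * ψ (t * c) = qc F c * ∑ t : F, qc F t * ψ t := by
  rcases eq_or_ne c 0 with rfl | hc
  · simp only [mul_zero, AddChar.map_zero_eq_one, mul_one, qc_sum h2]
    rw [MulChar.map_nonunit _ (by simp), zero_mul]
  · rw [← qc_inv (c := c), Finset.mul_sum]
    refine Fintype.sum_equiv (Equiv.mulRight₀ c hc) _ _ fun t => ?_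
    rw [Equiv.mulRight₀_apply, ← mul_assoc, ← map_mul, mul_comm c⁻¹, mul_assoc t, mul_inv_cancel₀ hc, mul_one]

end Char

section Sums

variable {V : Type*} [AddCommGroup V] [Module F V] [FiniteDimensional F V] {Q : QuadraticForm F V}
  {W : Submodule F V} [Fintype W] {ψ : AddChar F ℂ} (hψ : ψ ≠ 1) (h2 : (2 : F) ≠ 0) (hW : NonDeg Q W)

variable (Q W ψ) in
/-- The quadratic sum. -/
noncomputable def gam (t : F) : ℂ := ∑ w : W, ψ (t * Q (w : V))

variable (Q W ψ) in
open scoped _root_.Classical in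
/-- The transform of the indicator of the zeros. -/
noncomputable def s0 (y : V) : ℂ := ∑ w : W, if Q (w : V) = 0 then ψ (polar Q (w : V) y) else 0

variable (Q W ψ) in
/-- The transform of the quadratic character of the form. -/
noncomputable def tq (y : V) : ℂ := ∑ w : W, qc F (Q (w : V)) * ψ (polar Q (w : V) y)

theorem gam_shift {t : F} (ht : t ≠ 0) {y : V} (hy : y ∈ W) :
    ∑ w : W, ψ (t * Q (w : V) + polar Q (w : V) y) = ψ (-(Q y) / t) * gam Q W ψ t := by
  rw [gam, Finset.mul_sum]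
  refine Fintype.sum_equiv (Equiv.addRight (⟨t⁻¹ • y, W.smul_mem _ hy⟩ : W)) _ _ fun w => ?_
  rw [Equiv.coe_addRight, Submodule.coe_add, ← AddChar.map_add_eq_mul, map_two, QuadraticMap.map_smul,
    polar_smul_right]
  congr 1
  simp only [smul_eq_mul]
  field_simp
  ring

theorem gam_sq (t : F) {k : F} (hk : k ≠ 0) : gam Q W ψ (t * k ^ 2) = gam Q W ψ t := by
  refine Fintype.sum_bijective (fun w : W => k • w) ?_ _ _ fun w => ?_
  · exact ⟨fun w w' e => smul_right_injective W hk e, fun w => ⟨k⁻¹ • w,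
      show k • k⁻¹ • w = w by rw [smul_smul, mul_inv_cancel₀ hk, one_smul]⟩⟩
  · rw [Submodule.coe_smul, QuadraticMap.map_smul, smul_eq_mul]
    congr 1; ring

variable {N : ℕ} (hN : Nat.card {w : W // Q (w : V) = 0} = N) (hqN : Fintype.card F * N = Nat.card W)
include hψ h2 hW hN hqN

theorem gam_qc {t : F} (ht : t ≠ 0) : gam Q W ψ t = qc F t * gam Q W ψ 1 := by
  classical
  obtain ⟨ν, hν0, hν, hcls⟩ := exists_nonsquare_class h2
  have hval : ∀ t : F, t ≠ 0 → gam Q W ψ t = (gam Q W ψ 1 + gam Q W ψ ν) / 2 +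
      (gam Q W ψ 1 - gam Q W ψ ν) / 2 * qc F t := by
    intro t ht
    rcases hcls t ht with ⟨k, hk, e, hq⟩ | ⟨k, hk, e, hq⟩
    · rw [hq, e, show k ^ 2 = 1 * k ^ 2 by rw [one_mul], gam_sq (1 : F) hk]; ring
    · rw [hq, e, gam_sq ν hk]; ring
  have htot : ∑ t : F, gam Q W ψ t = (Fintype.card F : ℂ) * N := by
    simp only [gam]
    rw [Finset.sum_comm, ← hN, Nat.card_eq_fintype_card, Fintype.card_subtype, Finset.card_filter, Nat.cast_sum,
      Finset.mul_sum]
    refine Finset.sum_congr rfl fun w _ => ?_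
    rw [AddChar.sum_mulShift _ (AddChar.IsPrimitive.of_ne_one hψ)]
    split_ifs <;> simp
  rw [← Finset.add_sum_erase _ _ (Finset.mem_univ (0 : F)),
    Finset.sum_congr rfl fun t h => hval t (Finset.ne_of_mem_erase h), Finset.sum_add_distrib, ← Finset.mul_sum,
    Finset.sum_const, show gam Q W ψ 0 = (Nat.card W : ℂ) by simp [gam, Nat.card_eq_fintype_card],
    ← hqN, show ∑ t ∈ Finset.univ.erase (0 : F), qc F t = 0 from
      (Finset.sum_erase _ (MulChar.map_nonunit _ (by simp))).trans (qc_sum h2), mul_zero, add_zero,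
    Nat.cast_mul, add_eq_left, nsmul_eq_mul, mul_eq_zero] at htot
  have hne : ((Finset.univ.erase (0 : F)).card : ℂ) ≠ 0 := Nat.cast_ne_zero.2 (by
    rw [Finset.card_erase_of_mem (Finset.mem_univ _), Finset.card_univ]
    have := Fintype.one_lt_card (α := F); omega)
  have h0 := htot.resolve_left hne
  rw [hval t ht]
  linear_combination (1 - qc F t) * h0

theorem tq_eq {y : V} (hy : y ∈ W) [Decidable (Q y = 0)] :
    (∑ t : F, qc F t * ψ t) * tq Q W ψ y =
      gam Q W ψ 1 * ((if Q y = 0 then (Fintype.card F : ℂ) else 0) - 1) := by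
  classical
  have e1 : (∑ t : F, qc F t * ψ t) * tq Q W ψ y =
      ∑ t : F, qc F t * ∑ w : W, ψ (t * Q (w : V) + polar Q (w : V) y) := by
    simp only [tq, Finset.mul_sum]
    rw [Finset.sum_comm]
    refine Finset.sum_congr rfl fun w _ => ?_
    rw [← mul_assoc, mul_comm (∑ t : F, qc F t * ψ t) (qc F (Q (w : V))), ← gauss_scale h2 hψ, Finset.sum_mul]
    exact Finset.sum_congr rfl fun t _ => by rw [AddChar.map_add_eq_mul, mul_assoc]
  have e2 : ∀ t : F, qc F t * ∑ w : W, ψ (t * Q (w : V) + polar Q (w : V) y) =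
      gam Q W ψ 1 * (ψ (t⁻¹ * -(Q y)) - if t = 0 then 1 else 0) := by
    intro t
    by_cases ht : t = 0
    · subst ht
      rw [MulChar.map_nonunit _ (by simp), zero_mul, if_pos rfl, inv_zero, zero_mul, AddChar.map_zero_eq_one,
        sub_self, mul_zero]
    · rw [gam_shift ht hy, gam_qc hψ h2 hW hN hqN ht, if_neg ht, sub_zero, div_eq_mul_inv, mul_comm (-(Q y))]
      linear_combination ψ (t⁻¹ * -(Q y)) * gam Q W ψ 1 * qc_sq ht
  rw [e1, Finset.sum_congr rfl fun t _ => e2 t, ← Finset.mul_sum, Finset.sum_sub_distrib, Finset.sum_ite_eq',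
    if_pos (Finset.mem_univ _),
    Fintype.sum_equiv (Equiv.inv F) (fun t => ψ (t⁻¹ * -(Q y))) (fun t => ψ (t * -(Q y))) (fun t => rfl),
    AddChar.sum_mulShift _ (AddChar.IsPrimitive.of_ne_one hψ)]
  congr 2
  by_cases h : Q y = 0 <;> simp [h]

theorem s0_eq {y : V} (hy : y ∈ W) (hy0 : y ≠ 0) :
    (Fintype.card F : ℂ) * s0 Q W ψ y =
      qc F (-(Q y)) * (gam Q W ψ 1 * ∑ t : F, qc F t * ψ t) := by
  classical
  have e1 : (Fintype.card F : ℂ) * s0 Q W ψ y =
      ∑ t : F, ∑ w : W, ψ (t * Q (w : V) + polar Q (w : V) y) := by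
    rw [Finset.sum_comm, s0, Finset.mul_sum]
    refine Finset.sum_congr rfl fun w _ => ?_
    simp only [AddChar.map_add_eq_mul]
    rw [← Finset.sum_mul, AddChar.sum_mulShift _ (AddChar.IsPrimitive.of_ne_one hψ)]
    split_ifs <;> simp
  have e2 : ∀ t : F, ∑ w : W, ψ (t * Q (w : V) + polar Q (w : V) y) =
      gam Q W ψ 1 * (qc F t⁻¹ * ψ (t⁻¹ * -(Q y))) := by
    intro t
    by_cases ht : t = 0
    · subst ht
      simp only [zero_mul, zero_add, inv_zero]
      rw [sum_psi hψ hW hy, if_neg hy0, MulChar.map_nonunit _ (by simp), zero_mul, mul_zero]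
    · rw [gam_shift ht hy, gam_qc hψ h2 hW hN hqN ht, qc_inv, div_eq_mul_inv, mul_comm (-(Q y))]
      ring
  rw [e1, Finset.sum_congr rfl fun t _ => e2 t, ← Finset.mul_sum,
    Fintype.sum_equiv (Equiv.inv F) (fun t => qc F t⁻¹ * ψ (t⁻¹ * -(Q y))) (fun t => qc F t * ψ (t * -(Q y)))
      (fun t => rfl), gauss_scale h2 hψ]
  ring

theorem tq_sq_sum : ∑ y : W, tq Q W ψ (y : V) * tq Q W ψ (y : V) =
    (Nat.card W : ℂ) * ((Nat.card W : ℂ) - N) := by
  classical
  have e : ∀ y : W, tq Q W ψ (y : V) * tq Q W ψ (y : V) = ∑ w : W, ∑ w' : W,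
      qc F (Q (w : V)) * qc F (Q (w' : V)) * ψ (polar Q (y : V) ((w : V) + (w' : V))) := by
    intro y
    rw [tq, Finset.sum_mul]
    refine Finset.sum_congr rfl fun w _ => ?_
    rw [Finset.mul_sum]
    refine Finset.sum_congr rfl fun w' _ => ?_
    rw [polar_add_right, AddChar.map_add_eq_mul, polar_comm Q (y : V) w, polar_comm Q (y : V) w']
    ring
  have e2 : ∀ w : W, (∑ w' : W, ∑ y : W,
      qc F (Q (w : V)) * qc F (Q (w' : V)) * ψ (polar Q (y : V) ((w : V) + (w' : V)))) =
      (Nat.card W : ℂ) * if Q (w : V) = 0 then 0 else 1 := by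
    intro w
    simp only [← Finset.mul_sum]
    rw [Finset.sum_congr rfl fun w' _ => by rw [sum_psi hψ hW (W.add_mem w.2 w'.2)],
      Finset.sum_eq_single (-w) (fun w' _ hne => by
        rw [if_neg (fun e : (w : V) + (w' : V) = 0 =>
          hne (eq_neg_of_add_eq_zero_right (Subtype.ext e : w + w' = 0))), mul_zero])
        (fun h => absurd (Finset.mem_univ _) h), if_pos (by simp), Submodule.coe_neg, QuadraticMap.map_neg]
    by_cases h : Q (w : V) = 0
    · rw [if_pos h, h, MulChar.map_nonunit _ (by simp)]; ring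
    · rw [if_neg h, qc_sq h]; ring
  rw [Finset.sum_congr rfl fun y _ => e y, Finset.sum_comm,
    Finset.sum_congr rfl fun w _ => (Finset.sum_comm).trans (e2 w), ← Finset.mul_sum]
  congr 1
  rw [show (∑ w : W, if Q (w : V) = 0 then (0 : ℂ) else 1) =
    ∑ w : W, ((1 : ℂ) - if Q (w : V) = 0 then 1 else 0) from Finset.sum_congr rfl fun w _ => by split_ifs <;> simp,
    Finset.sum_sub_distrib, Finset.sum_boole, ← hN, ← Fintype.card_subtype,
    Nat.card_eq_fintype_card (α := {w : W // Q (w : V) = 0}), Finset.sum_const, Finset.card_univ,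
    ← Nat.card_eq_fintype_card (α := W), nsmul_eq_mul, mul_one]

/-- The square of the constant value. -/
theorem gam_one_sq : gam Q W ψ 1 * gam Q W ψ 1 = (N : ℂ) * ((∑ t : F, qc F t * ψ t) * (∑ t : F, qc F t * ψ t)) := by
  classical
  obtain ⟨G, hG⟩ : ∃ G, G = ∑ t : F, qc F t * ψ t := ⟨_, rfl⟩
  have h := congrArg (fun x => G * G * x) (tq_sq_sum (ψ := ψ) hψ h2 hW hN hqN)
  simp only [Finset.mul_sum] at h
  have e : ∀ y : W, G * G * (tq Q W ψ (y : V) * tq Q W ψ (y : V)) = gam Q W ψ 1 * gam Q W ψ 1 *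
      (1 + (((Fintype.card F : ℂ) - 1) * ((Fintype.card F : ℂ) - 1) - 1) * if Q (y : V) = 0 then 1 else 0) := by
    intro y
    have ht := tq_eq (ψ := ψ) hψ h2 hW hN hqN y.2
    rw [← hG] at ht
    rw [show G * G * (tq Q W ψ (y : V) * tq Q W ψ (y : V)) = (G * tq Q W ψ (y : V)) * (G * tq Q W ψ (y : V)) by ring,
      ht]
    split_ifs <;> ring
  rw [Finset.sum_congr rfl fun y _ => e y, ← Finset.mul_sum, Finset.sum_add_distrib, ← Finset.mul_sum,
    Finset.sum_boole, ← Fintype.card_subtype, ← Nat.card_eq_fintype_card (α := {w : W // Q (w : V) = 0}), hN,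
    Finset.sum_const, Finset.card_univ, ← Nat.card_eq_fintype_card (α := W), nsmul_eq_mul, mul_one, ← hqN] at h
  push_cast at h
  have hq : (Fintype.card F : ℂ) ≠ 0 := Nat.cast_ne_zero.2 Fintype.card_ne_zero
  have hq1 : (Fintype.card F : ℂ) - 1 ≠ 0 := sub_ne_zero.2 (by
    exact_mod_cast (Fintype.one_lt_card (α := F)).ne')
  have hN0 : (N : ℂ) ≠ 0 := by
    haveI : Nonempty {w : W // Q (w : V) = 0} := ⟨⟨0, QuadraticMap.map_zero Q⟩⟩
    exact Nat.cast_ne_zero.2 (hN ▸ Nat.card_pos.ne')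
  rw [← hG]
  refine mul_left_cancel₀ (mul_ne_zero (mul_ne_zero hN0 hq) hq1) ?_
  linear_combination h

end Sums

end Cfsg.Agent.Char.OmegaDeg
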