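import Cfsg.Agent.Lib.Small.SLnMinDeg.Main
import Mathlib.Analysis.RCLike.Basic

/-!
# Invariant positive hermitian forms

An average over a finite group; for an irreducible representation the squares of the coefficients at a
vector sum to the order of the group over the degree.
-/

set_option autoImplicit false
set_option linter.unusedSectionVars false
set_option linter.style.haveILetI false

namespace Cfsg.Agent.Char.OmegaDeg

open Module ComplexConjugate

variable {G : Type*} [Group G] {M : Type*} [AddCommGroup M] [Module ℂ M] [FiniteDimensional ℂ M]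
  {ρ : Representation ℂ G M}

/-- A positive hermitian form, conjugate linear in the first place, kept by the group. -/
structure Herm (ρ : Representation ℂ G M) where
  ip : M → M →ₗ[ℂ] ℂ
  symm : ∀ x y, conj (ip x y) = ip y x
  pos : ∀ x, x ≠ 0 → 0 < (ip x x).re
  inv : ∀ g x y, ip (ρ g x) (ρ g y) = ip x y

theorem exists_herm [Finite G] (ρ : Representation ℂ G M) : Nonempty (Herm ρ) := by
  classical
  haveI := Fintype.ofFinite G
  obtain ⟨b⟩ : Nonempty (Basis (Fin (finrank ℂ M)) ℂ M) := ⟨Module.finBasis ℂ M⟩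
  refine ⟨⟨fun x =>
    { toFun := fun y => ∑ g, ∑ i, conj (b.repr (ρ g x) i) * b.repr (ρ g y) i
      map_add' := fun y y' => by simp [mul_add, Finset.sum_add_distrib]
      map_smul' := fun c y => by simp [Finset.mul_sum, mul_left_comm] }, fun x y => ?_, fun x hx => ?_,
    fun g x y => ?_⟩⟩
  · simp [map_sum, mul_comm]
  · simp only [LinearMap.coe_mk, AddHom.coe_mk, Complex.re_sum]
    have e : ∀ z : ℂ, (conj z * z).re = Complex.normSq z := fun z => by simp [Complex.normSq_apply]
    simp only [e]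
    obtain ⟨i, hi⟩ : ∃ i, b.repr x i ≠ 0 := by
      by_contra! hc
      exact hx (b.repr.map_eq_zero_iff.1 (Finsupp.ext hc))
    refine Finset.sum_pos' (fun g _ => Finset.sum_nonneg fun i _ => Complex.normSq_nonneg _)
      ⟨1, Finset.mem_univ _, ?_⟩
    refine Finset.sum_pos' (fun i _ => Complex.normSq_nonneg _) ⟨i, Finset.mem_univ _, ?_⟩
    rw [map_one]
    exact Complex.normSq_pos.2 hi
  · simp only [LinearMap.coe_mk, AddHom.coe_mk]
    refine Fintype.sum_equiv (Equiv.mulRight g) _ _ fun h => ?_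
    simp only [Equiv.coe_mulRight, map_mul, Module.End.mul_apply]

namespace Herm

variable (B : Herm ρ)

theorem add_left (x x' y : M) : B.ip (x + x') y = B.ip x y + B.ip x' y := by
  rw [← B.symm, map_add, map_add, B.symm, B.symm]

theorem smul_left (c : ℂ) (x y : M) : B.ip (c • x) y = conj c * B.ip x y := by
  rw [← B.symm, map_smul, smul_eq_mul, map_mul, B.symm]

theorem zero_left (y : M) : B.ip 0 y = 0 := by
  rw [← B.symm, map_zero, map_zero]

theorem neg_left (x y : M) : B.ip (-x) y = -B.ip x y := by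
  rw [← B.symm, map_neg, map_neg, B.symm]

theorem sub_left (x x' y : M) : B.ip (x - x') y = B.ip x y - B.ip x' y := by
  rw [sub_eq_add_neg, B.add_left, B.neg_left, sub_eq_add_neg]

theorem sum_left {ι : Type*} (s : Finset ι) (x : ι → M) (y : M) :
    B.ip (∑ i ∈ s, x i) y = ∑ i ∈ s, B.ip (x i) y := by
  rw [← B.symm, map_sum, map_sum]
  exact Finset.sum_congr rfl fun i _ => B.symm _ _

/-- The square of the length. -/
def nsq (x : M) : ℝ := (B.ip x x).re

theorem nsq_eq (x : M) : B.ip x x = (B.nsq x : ℂ) := Complex.ext (by simp [nsq]) (by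
  have h := congrArg Complex.im (B.symm x x)
  simp only [Complex.conj_im] at h
  simp only [Complex.ofReal_im]
  linarith)

theorem nsq_nonneg (x : M) : 0 ≤ B.nsq x := by
  rcases eq_or_ne x 0 with rfl | h
  · rw [nsq, B.zero_left]; simp
  · exact (B.pos x h).le

theorem eq_zero_of_nsq {x : M} (h : B.nsq x = 0) : x = 0 := by
  by_contra hx
  exact (B.pos x hx).ne' h

theorem nsq_smul (c : ℂ) (x : M) : B.nsq (c • x) = Complex.normSq c * B.nsq x := by
  have h : B.ip (c • x) (c • x) = ((Complex.normSq c * B.nsq x : ℝ) : ℂ) := by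
    rw [B.smul_left, map_smul, smul_eq_mul, B.nsq_eq, ← mul_assoc, ← Complex.normSq_eq_conj_mul_self]
    push_cast; rfl
  rw [nsq, h, Complex.ofReal_re]

theorem nsq_add_of_orth {x y : M} (h : B.ip x y = 0) : B.nsq (x + y) = B.nsq x + B.nsq y := by
  have h' : B.ip y x = 0 := by rw [← B.symm, h, map_zero]
  rw [nsq, B.add_left, map_add, map_add, h, h']
  simp [nsq]

theorem nsq_inv (g : G) (x : M) : B.nsq (ρ g x) = B.nsq x := by rw [nsq, B.inv]; rfl

theorem adjoint (g : G) (x y : M) : B.ip (ρ g x) y = B.ip x (ρ g⁻¹ y) := by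
  conv_lhs => rw [show y = ρ g (ρ g⁻¹ y) by rw [← Module.End.mul_apply, ← map_mul, mul_inv_cancel, map_one]; rfl]
  rw [B.inv]

/-- Eigenvalues have absolute value one. -/
theorem eigen_normSq (B : Herm ρ) {g : G} {x : M} (hx : x ≠ 0) {c : ℂ} (h : ρ g x = c • x) : Complex.normSq c = 1 := by
  have e := B.nsq_inv g x
  rw [h, B.nsq_smul] at e
  exact (mul_eq_right₀ (B.pos x hx).ne').1 e

/-- The Schur relation. -/
theorem sum_normSq [Fintype G] [Nontrivial M]
    (hirr : ∀ S : Submodule ℂ M, (∀ g, ∀ x ∈ S, ρ g x ∈ S) → S = ⊥ ∨ S = ⊤) (u : M) :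
    (∑ g : G, Complex.normSq (B.ip u (ρ g u))) * (finrank ℂ M : ℝ) = (Fintype.card G : ℝ) * B.nsq u ^ 2 := by
  classical
  obtain ⟨A, hA⟩ : ∃ A : Module.End ℂ M, A = ∑ g : G, (B.ip (ρ g u)).smulRight (ρ g u) := ⟨_, rfl⟩
  have hApp : ∀ x, A x = ∑ g : G, B.ip (ρ g u) x • ρ g u := fun x => by
    rw [hA, LinearMap.sum_apply]; rfl
  obtain ⟨s, hs⟩ := Small.MinDeg.schur ρ hirr A fun h => LinearMap.ext fun x => by
    simp only [Module.End.mul_apply, hApp, map_sum, map_smul]
    refine Fintype.sum_equiv (Equiv.mulLeft h) _ _ fun g => ?_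
    rw [Equiv.coe_mulLeft, map_mul, Module.End.mul_apply, B.inv, ← Module.End.mul_apply, ← map_mul]
  have htr : s * (finrank ℂ M : ℂ) = (Fintype.card G : ℂ) * (B.nsq u : ℂ) := by
    have h := congrArg (LinearMap.trace ℂ M) hA
    rw [map_sum, hs, map_smul, LinearMap.trace_one, smul_eq_mul,
      Finset.sum_congr rfl (g := fun _ => (B.nsq u : ℂ)) fun g _ => by
        rw [LinearMap.trace_smulRight, B.inv, B.nsq_eq]] at h
    rw [h, Finset.sum_const, Finset.card_univ, nsmul_eq_mul]
  have hq : B.ip u (A u) = ((∑ g : G, Complex.normSq (B.ip u (ρ g u)) : ℝ) : ℂ) := by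
    rw [hApp, map_sum, Complex.ofReal_sum]
    refine Finset.sum_congr rfl fun g _ => ?_
    rw [map_smul, smul_eq_mul, Complex.normSq_eq_conj_mul_self, B.symm]
  rw [hs, LinearMap.smul_apply, map_smul, Module.End.one_apply, smul_eq_mul, B.nsq_eq] at hq
  have : ((∑ g : G, Complex.normSq (B.ip u (ρ g u)) : ℝ) : ℂ) * (finrank ℂ M : ℂ) =
      (Fintype.card G : ℂ) * (B.nsq u : ℂ) ^ 2 := by
    rw [← hq]; linear_combination (B.nsq u : ℂ) * htr
  exact_mod_cast this

end Herm

end Cfsg.Agent.Char.OmegaDeg
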