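import Cfsg.Agent.Lib.Char.OmegaDeg.OddCount
import Cfsg.Agent.Lib.Char.OmegaDeg.OddSums
import Cfsg.Agent.Lib.Char.OmegaDeg.Unitary

/-!
# A vector fixed by the stabiliser of a singular point

If it is an eigenvector for the elements scaling the point, the matrix coefficients at it are those of the
exchanges; they force the trivial representation or the degree `(q ^ (2m+2) - 1) / (q ^ 2 - 1)`.
-/

set_option autoImplicit false
set_option linter.unusedSectionVars false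
set_option linter.style.haveILetI false

universe u

namespace Cfsg.Agent.Char.OmegaDeg

open Module QuadraticMap Cfsg.Agent.Classical Cfsg.Agent.Classical.OCount
open Cfsg.Agent.Small.OMinIndex

variable {F : Type u} [Field F] [Fintype F] {V : Type u} [AddCommGroup V] [Module F V] [FiniteDimensional F V]
  {Q : QuadraticForm F V}

variable {M : Type} [AddCommGroup M] [Module ℂ M] [FiniteDimensional ℂ M]
  {ρ : Representation ℂ (fixGrp Q (⊤ : Submodule F V)) M} {ψ : AddChar F ℂ} {a f : V} {m : ℕ}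

namespace Ctx

theorem act_herm (B : Herm ρ) (g : Om Q) (x y : M) : B.ip (act ρ g x) (act ρ g y) = B.ip x y := B.inv _ x y

/-- The stabiliser of a vector. -/
def stabVec (C : Ctx ρ ψ a f m) (x : M) : Subgroup (Om Q) where
  carrier := {g | act ρ g x = x}
  one_mem' := by show act ρ (1 : Om Q) x = x; rw [act_one]; rfl
  mul_mem' := fun {g h} hg hh => by
    show act ρ (g * h) x = x
    rw [C.act_mul_apply, hh, hg]
  inv_mem' := fun {g} hg => by
    show act ρ g⁻¹ x = x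
    conv_lhs => rw [← show act ρ g x = x from hg]
    rw [C.act_inv_apply]

variable (C : Ctx ρ ψ a f m)
include C

theorem mem_stabVec {x : M} {g : Om Q} : g ∈ C.stabVec x ↔ act ρ g x = x := Iff.rfl

/-- A fixed vector kills everything. -/
theorem triv_of_fixed {u : M} (hu : u ≠ 0) (h : ∀ g : Om Q, act ρ g u = u) : Triv ρ := by
  rcases C.irr (ℂ ∙ u) (fun g x hx => by
    obtain ⟨c, rfl⟩ := Submodule.mem_span_singleton.1 hx
    rw [map_smul, show ρ g u = u by have := h (g : Om Q); rwa [act, el_coe] at this]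
    exact Submodule.smul_mem _ _ (Submodule.mem_span_singleton_self u)) with e | e
  · exact absurd (Submodule.span_singleton_eq_bot.1 e) hu
  intro x z _ _ _ _
  refine LinearMap.ext fun v => ?_
  obtain ⟨c, rfl⟩ := Submodule.mem_span_singleton.1 (show v ∈ ℂ ∙ u by rw [e]; exact Submodule.mem_top)
  rw [map_smul]
  exact congrArg (c • ·) (h (E x z))

theorem triv_of_eigen (B : Herm ρ) {u : M} (hu : u ≠ 0)
    (hA : ∀ w ∈ lev Q ⊤ a f, act ρ (E a w : Om Q) u = u)
    (hL : ∀ g ∈ fixGrp Q (lev Q ⊤ a f), act ρ g u = u)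
    (hT : ∀ (g : Om Q) (t : F), t ≠ 0 → g • a = t • a → g • f = t⁻¹ • f → ∃ κ : ℂ, act ρ g u = κ • u) :
    Triv ρ := by
  classical
  haveI : Finite V := Module.finite_of_finite F
  haveI := Fintype.ofFinite V
  have hS := C.L.space
  have hp := C.hp
  have haf : polar Q a f = 1 := hp.2.2
  have hQa : Q a = 0 := hp.1
  have hQf : Q f = 0 := hp.2.1
  have hfa : polar Q f a = 1 := by rw [polar_comm]; exact haf
  obtain ⟨W, hWdef⟩ : ∃ W, W = lev Q ⊤ a f := ⟨_, rfl⟩
  have hW4 : 4 ≤ finrank F W := hWdef ▸ C.L.fourW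
  have hmemW : ∀ {w}, w ∈ W → polar Q a w = 0 ∧ polar Q f w = 0 := fun {w} hw => by
    rw [hWdef] at hw; exact (mem_lev.1 hw).2
  rw [← hWdef] at hA hL
  -- any element scaling the point
  have hTa : ∀ (g : Om Q) (t : F), t ≠ 0 → g • a = t • a → ∃ κ : ℂ, Complex.normSq κ = 1 ∧ act ρ g u = κ • u := by
    intro g t ht e
    have h1 : polar Q a (g • f) = t⁻¹ := by
      have h := polar_iso_smul g a f
      rw [e, polar_smul_left, haf, smul_eq_mul] at h
      exact eq_inv_of_mul_eq_one_right h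
    obtain ⟨y, hy, hy'⟩ := to_f hS hp C.L.ha C.L.hf (x := g • f) Submodule.mem_top (by rw [form_smul]; exact hQf)
      (by rw [h1]; exact inv_ne_zero ht)
    rw [h1] at hy'
    obtain ⟨κ, hκ⟩ := hT (E a y * g) t ht
      (by rw [mul_smul, e, smul_scalar, E_fix_self hS hQa (mem_lev.1 hy).2.1]) (by rw [mul_smul, hy'])
    have hg : act ρ g u = κ • u := by
      rw [← C.act_inv_apply (E a y) (act ρ g u), ← C.act_mul_apply (E a y) g, hκ, map_smul]
      congr 1
      have hfix := hA y (hWdef ▸ hy)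
      conv_lhs => rw [← hfix, C.act_inv_apply]
    exact ⟨κ, B.eigen_normSq hu (g := el (fixGrp Q ⊤) g) hg, hg⟩
  obtain ⟨φ, hφ⟩ : ∃ φ : V → ℂ, φ = fun w => B.ip u (act ρ (E f w) u) := ⟨_, rfl⟩
  have hφA : ∀ w ∈ W, ∀ y : M, B.ip u (act ρ (E a w) y) = B.ip u y := fun w hw y => by
    conv_lhs => rw [← hA w hw]
    rw [act_herm]
  have hmove : ∀ x ∈ W, ∀ y ∈ W, x ≠ 0 → y ≠ 0 → Q x = Q y → φ y = φ x := by
    intro x hx y hy hx0 hy0 hQ
    obtain ⟨g, hg, e⟩ := move_eq hS (hWdef ▸ C.ndW) hW4 hx hy hx0 hy0 hQ.symm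
    have hgf : g • f = f := C.L.fix_f (hWdef ▸ hg)
    have hgi : act ρ g⁻¹ u = u := hL _ (inv_mem hg)
    rw [hφ]
    show B.ip u (act ρ (E f y) u) = B.ip u (act ρ (E f x) u)
    rw [← e, ← hgf, ← conj_E hS hQf (hmemW hx).2, hgf, C.act_mul_apply, C.act_mul_apply, hgi]
    conv_lhs => arg 1; rw [← hL g hg]
    rw [act_herm]
  have hreal : ∀ w ∈ W, Q w ≠ 0 → φ w = B.ip u (act ρ (flip Q a f w) u) ∧ (φ w).im = 0 := by
    intro w hw hQw
    obtain ⟨haw, hfw⟩ := hmemW hw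
    have hwW : -((Q w)⁻¹ • w) ∈ W := W.neg_mem (W.smul_mem _ hw)
    have e : φ w = B.ip u (act ρ (flip Q a f w) u) := by
      rw [hφ]
      show B.ip u (act ρ (E f w) u) = _
      rw [E_eq_flip hS hp haw hfw, C.act_mul_apply, C.act_mul_apply, hA _ hwW, hφA _ hwW]
    refine ⟨e, Complex.conj_eq_iff_im.1 ?_⟩
    rw [e, B.symm]
    conv_lhs => rw [← act_herm B (flip Q a f w), ← C.act_mul_apply, flip_mul_self hS hp haw hfw hQw, act_one]
    rfl
  obtain ⟨w₁, hw₁', hQw₁⟩ := exists_value (U := W) (hWdef ▸ C.ndW) (by omega) 1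
  obtain ⟨haw₁, hfw₁⟩ := hmemW hw₁'
  have hn₁ : Q w₁ ≠ 0 := by rw [hQw₁]; exact one_ne_zero
  obtain ⟨h, hh⟩ : ∃ h, h = flip Q a f w₁ := ⟨_, rfl⟩
  have hha : h • a = -f := by rw [hh, flip_a hS hp haw₁ hfw₁ hn₁, hQw₁, neg_smul, one_smul]
  have hhf : h • f = -a := by rw [hh, flip_f hS hp haw₁ hfw₁ hn₁, hQw₁, inv_one, neg_smul, one_smul]
  have hhh : h * h = 1 := hh ▸ flip_mul_self hS hp haw₁ hfw₁ hn₁
  have hhW : ∀ w ∈ W, h • w ∈ W := by
    intro w hw
    obtain ⟨h1, h2⟩ := hmemW hw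
    rw [hh, flip_perp hS hp haw₁ hfw₁ hn₁ h1 h2]
    exact W.sub_mem hw (W.smul_mem _ hw₁')
  obtain ⟨H, hH⟩ : ∃ H, H = act ρ h u := ⟨_, rfl⟩
  obtain ⟨φ₁, hφ₁⟩ : ∃ φ₁, φ₁ = φ w₁ := ⟨_, rfl⟩
  have hφH : φ₁ = B.ip u H := by rw [hφ₁, (hreal w₁ hw₁' hn₁).1, hH, hh]
  have hflipu : ∀ w ∈ W, Q w ≠ 0 → ∃ κ : ℂ, Complex.normSq κ = 1 ∧ φ w = κ * φ₁ := by
    intro w hw hQw
    obtain ⟨haw, hfw⟩ := hmemW hw
    obtain ⟨κ, hκ, e⟩ := hTa (h * flip Q a f w) (Q w) hQw (by
      rw [mul_smul, flip_a hS hp haw hfw hQw, smul_scalar, hhf, smul_neg, neg_smul, neg_neg])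
    refine ⟨κ, hκ, ?_⟩
    rw [(hreal w hw hQw).1, hφH, hH, ← smul_eq_mul, ← map_smul, ← map_smul, ← e, ← C.act_mul_apply, ← mul_assoc,
      hhh, one_mul]
  have hclass : ∀ w ∈ W, Q w ≠ 0 → ∀ k : F, k ≠ 0 → φ (k • w) = φ w := by
    intro w hw hQw k hk
    obtain ⟨g, e1, e2, e3⟩ := C.exists_torus_fix (hWdef ▸ hw) hQw (inv_ne_zero hk)
    have econj := C.conj_flip_torus (hWdef ▸ hw) (inv_ne_zero hk) e1 e2 e3
    rw [inv_inv] at econj
    obtain ⟨κ, hκ, eκ⟩ := hTa g⁻¹ k hk (by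
      rw [inv_smul_eq_iff, smul_scalar, e1, smul_smul, mul_inv_cancel₀ hk, one_smul])
    have hQkw : Q (k • w) ≠ 0 := by
      rw [QuadraticMap.map_smul]; exact mul_ne_zero (mul_ne_zero hk hk) hQw
    rw [(hreal _ (W.smul_mem k hw) hQkw).1, (hreal w hw hQw).1, ← econj, C.act_mul_apply, C.act_mul_apply, eκ]
    conv_lhs => arg 1; rw [← C.act_apply_inv g u]
    rw [act_herm, eκ, map_smul, map_smul, B.smul_left, smul_eq_mul, ← mul_assoc, mul_comm κ,
      ← Complex.normSq_eq_conj_mul_self, hκ, Complex.ofReal_one, one_mul]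
  obtain ⟨ν, hν0, hν, hcls⟩ := exists_nonsquare_class C.two
  obtain ⟨wν, hwν, hQwν⟩ := exists_value (U := W) (hWdef ▸ C.ndW) (by omega) ν
  obtain ⟨φν, hφν⟩ : ∃ φν, φν = φ wν := ⟨_, rfl⟩
  have hvalue : ∀ w ∈ W, Q w ≠ 0 → (qc F (Q w) = 1 ∧ φ w = φ₁) ∨ (qc F (Q w) = -1 ∧ φ w = φν) := by
    intro w hw hQw
    have aux : ∀ (w₀ : V) (k : F), w₀ ∈ W → Q w₀ ≠ 0 → k ≠ 0 → Q w = Q w₀ * k ^ 2 → φ w = φ w₀ := by
      intro w₀ k hw₀ hQ₀ hk e
      have hQk : Q (k • w₀) = Q w := by rw [e, QuadraticMap.map_smul, smul_eq_mul]; ring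
      rw [hmove (k • w₀) (W.smul_mem k hw₀) w hw (fun e0 => hQw (by rw [← hQk, e0, QuadraticMap.map_zero]))
        (fun e0 => hQw (by rw [e0, QuadraticMap.map_zero])) hQk, hclass w₀ hw₀ hQ₀ k hk]
    rcases hcls _ hQw with ⟨k, hk, e, hq⟩ | ⟨k, hk, e, hq⟩
    · exact Or.inl ⟨hq, hφ₁ ▸ aux w₁ k hw₁' hn₁ hk (by rw [e, hQw₁, one_mul])⟩
    · exact Or.inr ⟨hq, hφν ▸ aux wν k hwν (by rw [hQwν]; exact hν0) hk (by rw [e, hQwν])⟩
  have hpm : φν = φ₁ ∨ φν = -φ₁ := by
    obtain ⟨κ, hκ, e⟩ := hflipu wν hwν (by rw [hQwν]; exact hν0)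
    rw [← hφν] at e
    have h1 := (hreal w₁ hw₁' hn₁).2
    have h2 := (hreal wν hwν (by rw [hQwν]; exact hν0)).2
    rw [← hφν] at h2
    rw [← hφ₁] at h1
    have h3 := congrArg Complex.normSq e
    rw [map_mul, hκ, one_mul, Complex.normSq_apply, Complex.normSq_apply, h1, h2, mul_zero, add_zero, add_zero] at h3
    rcases mul_self_eq_mul_self_iff.1 h3 with h4 | h4
    · exact Or.inl (Complex.ext h4 (by rw [h1, h2]))
    · exact Or.inr (Complex.ext (by rw [h4, Complex.neg_re]) (by rw [Complex.neg_im, h1, h2, neg_zero]))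
  -- the value at a singular vector
  obtain ⟨b, hb, hb0, hQb⟩ := exists_sing_vec C.L.shW (by have := C.two_le; omega)
  rw [← hWdef] at hb
  obtain ⟨c₁, hc₁⟩ : ∃ c₁, c₁ = φ b := ⟨_, rfl⟩
  obtain ⟨n, hn⟩ : ∃ n : ℂ, n = (B.nsq u : ℂ) := ⟨_, rfl⟩
  have hn0 : n ≠ 0 := by rw [hn]; exact Complex.ofReal_ne_zero.2 (B.pos u hu).ne'
  have hφ0 : φ 0 = n := by rw [hφ, hn, ← B.nsq_eq]; simp [E_zero hS hQf, act_one]
  have hdec : ∀ w : W, φ (w : V) = (n - c₁) * (if (w : V) = 0 then 1 else 0) +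
      (c₁ - (φ₁ + φν) / 2) * (if Q (w : V) = 0 then 1 else 0) + (φ₁ + φν) / 2 +
      (φ₁ - φν) / 2 * qc F (Q (w : V)) := by
    intro w
    by_cases hw0 : (w : V) = 0
    · rw [if_pos hw0, hw0, QuadraticMap.map_zero, if_pos rfl, MulChar.map_nonunit _ (by simp), hφ0]; ring
    by_cases hQw : Q (w : V) = 0
    · rw [if_neg hw0, if_pos hQw, hQw, MulChar.map_nonunit _ (by simp),
        hmove b hb (w : V) w.2 hb0 hw0 (hQb.trans hQw.symm), ← hc₁]
      ring
    · rw [if_neg hw0, if_neg hQw]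
      rcases hvalue _ w.2 hQw with ⟨e, e'⟩ | ⟨e, e'⟩ <;> rw [e, e'] <;> ring
  -- the transform
  have hft : ∀ y ∈ W, Q y ≠ 0 → ∑ w : W, φ (w : V) * ψ (polar Q (w : V) y) = 0 := by
    intro y hy hQy
    have h0 := C.ns (-y) (hWdef ▸ W.neg_mem hy) (by rw [QuadraticMap.map_neg]; exact hQy)
    rw [← hWdef, wt, show (Fintype.ofFinite W : Fintype W) = (inferInstance : Fintype W) from Subsingleton.elim _ _, smul_eq_zero] at h0
    have h1 := congrArg (fun T : Module.End ℂ M => B.ip H (T H)) (h0.resolve_left (inv_ne_zero (card_ne W)))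
    simp only [LinearMap.sum_apply, map_sum, LinearMap.smul_apply, map_smul, LinearMap.zero_apply, map_zero,
      smul_eq_mul, polar_neg_right, neg_neg] at h1
    rw [← h1]
    refine Finset.sum_congr rfl fun w _ => ?_
    rw [mul_comm]
    congr 1
    show φ (w : V) = B.ip H (act ρ (E a (w : V)) H)
    obtain ⟨haw, hfw⟩ := hmemW w.2
    have e : h * E a (w : V) * h = E f (-(h • (w : V))) := by
      have hhi : h⁻¹ = h := inv_eq_of_mul_eq_one_right hhh
      conv_lhs => arg 2; rw [← hhi]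
      rw [conj_E hS hQa haw, hha, show -f = (-1 : F) • f by rw [neg_smul, one_smul],
        E_smul_left hS hQf (hmemW (hhW _ w.2)).2, neg_smul, one_smul]
    rw [hH]
    conv_rhs => rw [← act_herm B h, ← C.act_mul_apply, hhh, act_one, Module.End.one_apply, ← C.act_mul_apply,
      ← C.act_mul_apply, e]
    by_cases hw0 : (w : V) = 0
    · rw [hw0, smul_zero', neg_zero, hφ]
    · have hne : -(h • (w : V)) ≠ 0 := neg_ne_zero.2 fun e0 => hw0 (smul_inj h (by rw [e0, smul_zero']))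
      rw [hmove _ (W.neg_mem (hhW _ w.2)) (w : V) w.2 hne hw0 (by rw [QuadraticMap.map_neg, form_smul]), hφ]
  obtain ⟨G, hG⟩ : ∃ G, G = ∑ t : F, qc F t * ψ t := ⟨_, rfl⟩
  have hG0 : G ≠ 0 := hG ▸ gauss_ne C.two C.psi_ne
  obtain ⟨Γ, hΓ⟩ : ∃ Γ, Γ = gam Q W ψ 1 := ⟨_, rfl⟩
  have hcz : Nat.card {w : W // Q (w : V) = 0} = Fintype.card F ^ (2 * m) := by rw [hWdef]; exact C.card_zero
  have hcW : Fintype.card F * Fintype.card F ^ (2 * m) = Nat.card W := by rw [hWdef]; exact C.mul_card_zero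
  have hWn : NonDeg Q W := hWdef ▸ C.ndW
  have hΓ2 : Γ * Γ = ((Fintype.card F : ℂ) ^ (2 * m)) * (G * G) := by
    rw [hΓ, hG, gam_one_sq C.psi_ne C.two hWn hcz hcW]; push_cast; rfl
  have hΓ0 : Γ ≠ 0 := fun e => by
    rw [e, mul_zero, eq_comm, mul_eq_zero] at hΓ2
    rcases hΓ2 with h' | h'
    · exact pow_ne_zero _ (Nat.cast_ne_zero.2 Fintype.card_ne_zero) h'
    · exact mul_ne_zero hG0 hG0 h'
  have hq : (Fintype.card F : ℂ) ≠ 0 := Nat.cast_ne_zero.2 Fintype.card_ne_zero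
  have heq : ∀ c : F, c ≠ 0 → ∀ y ∈ W, Q y = -c →
      (Fintype.card F : ℂ) * G * (n - c₁) + G * (c₁ - (φ₁ + φν) / 2) * (qc F c * (Γ * G)) -
        (φ₁ - φν) / 2 * (Fintype.card F : ℂ) * Γ = 0 := by
    intro c hc y hy hQy
    have hQ0 : Q y ≠ 0 := by rw [hQy, neg_ne_zero]; exact hc
    have hy0 : y ≠ 0 := fun e => hQ0 (by rw [e, QuadraticMap.map_zero])
    have h := hft y hy hQ0
    simp only [hdec, add_mul, mul_assoc, ite_mul, one_mul, zero_mul, Finset.sum_add_distrib, ← Finset.mul_sum] at h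
    rw [sum_psi C.psi_ne hWn hy, if_neg hy0, mul_zero, add_zero,
      show (∑ i : W, if (i : V) = 0 then ψ (polar Q (i : V) y) else 0) = 1 by
        rw [Finset.sum_eq_single (0 : W) (fun w _ hne => if_neg fun e : (w : V) = 0 => hne (Subtype.ext e))
          (fun hn' => absurd (Finset.mem_univ _) hn'), Submodule.coe_zero, if_pos rfl, polar_zero_left,
          AddChar.map_zero_eq_one], mul_one] at h
    have e1 : (Fintype.card F : ℂ) * s0 Q W ψ y = qc F c * (Γ * G) := by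
      rw [s0_eq C.psi_ne C.two hWn hcz hcW hy hy0, hQy, neg_neg, hΓ, hG]
    have e2 : G * tq Q W ψ y = Γ * -1 := by
      rw [hG, tq_eq C.psi_ne C.two hWn hcz hcW hy, if_neg hQ0, zero_sub, hΓ]
    simp only [s0, tq] at e1 e2
    linear_combination (Fintype.card F : ℂ) * G * h - G * (c₁ - (φ₁ + φν) / 2) * e1 -
      (φ₁ - φν) / 2 * (Fintype.card F : ℂ) * e2
  obtain ⟨y₁, hy₁, hQy₁⟩ := exists_value hWn (by omega) (-1 : F)
  obtain ⟨yν, hyν, hQyν⟩ := exists_value hWn (by omega) (-ν)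
  have E1 := heq 1 one_ne_zero y₁ hy₁ hQy₁
  have E2 := heq ν hν0 yν hyν hQyν
  rw [map_one] at E1
  rw [hν] at E2
  have hc : c₁ = (φ₁ + φν) / 2 := by
    have h' : G * G * Γ * (c₁ - (φ₁ + φν) / 2) = 0 := by linear_combination (E1 - E2) / 2
    exact sub_eq_zero.1 ((mul_eq_zero.1 h').resolve_left (mul_ne_zero (mul_ne_zero hG0 hG0) hΓ0))
  have hd : G * (n - c₁) = (φ₁ - φν) / 2 * Γ := by
    refine mul_left_cancel₀ hq ?_
    rw [hc] at E1 ⊢
    linear_combination E1
  rcases hpm with hsame | hneg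
  · -- the exchange fixes the vector
    rw [hsame] at hd hc
    have hn₁' : φ₁ = n := by
      have h' : G * (n - φ₁) = 0 := by rw [hc] at hd; linear_combination hd
      exact (sub_eq_zero.1 ((mul_eq_zero.1 h').resolve_left hG0)).symm
    have hHu : H = u := by
      refine sub_eq_zero.1 (B.eq_zero_of_nsq ?_)
      have e : B.ip H u = n := by rw [← B.symm, ← hφH, hn₁', hn, Complex.conj_ofReal]
      have e' : B.ip H H = n := by rw [hH, act_herm, hn, B.nsq_eq]
      have : B.ip (H - u) (H - u) = 0 := by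
        rw [B.sub_left, map_sub, map_sub, e, e', ← hφH, hn₁', B.nsq_eq, ← hn]; ring
      rw [Herm.nsq, this]; rfl
    have hhu : h ∈ C.stabVec u := (C.mem_stabVec).2 (by rw [← hH, hHu])
    have hfs : ∀ w ∈ W, (E f w : Om Q) ∈ C.stabVec u := by
      intro w hw
      obtain ⟨haw, hfw⟩ := hmemW hw
      have hw' : -(h • w) ∈ W := W.neg_mem (hhW w hw)
      have e : h * E a (-(h • w)) * h⁻¹ = E f w := by
        rw [conj_E hS hQa (hmemW hw').1, hha, show h • -(h • w) = -w by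
          rw [show -(h • w) = (-1 : F) • (h • w) by rw [neg_smul, one_smul], smul_scalar, ← mul_smul, hhh, one_smul,
            neg_smul, one_smul],
          show -f = (-1 : F) • f by rw [neg_smul, one_smul],
          E_smul_left hS hQf (by rw [polar_neg_right, hfw, neg_zero]), neg_smul, one_smul, neg_neg]
      rw [← e]
      exact mul_mem (mul_mem hhu ((C.mem_stabVec).2 (hA _ hw'))) (inv_mem hhu)
    have hall := gen_five hS hp C.L.sh.nd C.L.ha C.L.hf (K := C.stabVec u)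
      (fun w hw => (C.mem_stabVec).2 (hA w (hWdef ▸ hw))) (fun w hw => hfs w (hWdef ▸ hw)) C.two
      (fun g hg => (C.mem_stabVec).2 (hL g (hWdef ▸ hg))) (by have := C.L.six; omega)
    exact C.triv_of_fixed hu fun g => (C.mem_stabVec).1 (hall (C.mem g))
  · -- the degree is too large
    exfalso
    rw [hneg] at hd hc
    have hc0 : c₁ = 0 := by rw [hc]; ring
    have hsq : φ₁ * φ₁ * (Fintype.card F : ℂ) ^ (2 * m) = n * n := by
      refine mul_left_cancel₀ (mul_ne_zero hG0 hG0) ?_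
      rw [hc0] at hd
      linear_combination -φ₁ * φ₁ * hΓ2 - (G * n + φ₁ * Γ) * hd
    obtain ⟨P, hP⟩ : ∃ P : ℝ, P = Complex.normSq φ₁ := ⟨_, rfl⟩
    obtain ⟨N, hN⟩ : ∃ N : ℝ, N = B.nsq u := ⟨_, rfl⟩
    have hP' : P * (Fintype.card F : ℝ) ^ (2 * m) = N * N := by
      have h1 := congrArg Complex.normSq hsq
      rw [map_mul, map_mul, map_mul, ← hP, map_pow, Complex.normSq_natCast, hn, ← hN, Complex.normSq_ofReal] at h1
      have h2 : (P * (Fintype.card F : ℝ) ^ (2 * m)) ^ 2 = (N * N) ^ 2 := by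
        rw [mul_pow, pow_two P, ← pow_mul, mul_comm (2 * m) 2, pow_mul, pow_two (Fintype.card F : ℝ)]
        rw [h1]; ring
      refine (sq_eq_sq₀ ?_ (mul_self_nonneg N)).1 h2
      exact mul_nonneg (hP ▸ Complex.normSq_nonneg _) (by positivity)
    obtain ⟨Fn, hFn⟩ : ∃ Fn : V → ℝ,
        Fn = fun x => if polar Q a x ≠ 0 then P else if x ∈ F ∙ a then N * N else 0 := ⟨_, rfl⟩
    have hval : ∀ g : Om Q, Complex.normSq (B.ip u (act ρ g u)) = Fn (g • a) := by
      intro g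
      obtain ⟨x, hx⟩ : ∃ x, x = g • a := ⟨_, rfl⟩
      have hQx : Q x = 0 := by rw [hx, form_smul]; exact hQa
      have hx0 : x ≠ 0 := fun e => C.L.a_ne (smul_inj g (by rw [← hx, e, smul_zero']))
      rw [← hx, hFn]
      dsimp only
      by_cases hax : polar Q a x ≠ 0
      · rw [if_pos hax]
        obtain ⟨y, hy, e⟩ := to_f hS hp C.L.ha C.L.hf Submodule.mem_top hQx hax
        obtain ⟨κ, hκ, eκ⟩ := hTa (h * E a y * g) (-polar Q a x) (neg_ne_zero.2 hax) (by
          rw [mul_smul, mul_smul, ← hx, e, smul_scalar, hhf, smul_neg, neg_smul])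
        have : act ρ g u = κ • act ρ (E a (-y)) H := by
          rw [hH, ← map_smul, ← map_smul, ← eκ, ← C.act_mul_apply, ← C.act_mul_apply,
            ← E_inv hS hQa (mem_lev.1 hy).2.1]
          congr 2
          rw [show (E a y)⁻¹ * h * (h * E a y * g) = (E a y)⁻¹ * ((h * h) * (E a y * g)) by group, hhh, one_mul,
            inv_mul_cancel_left]
        rw [this, map_smul, smul_eq_mul, map_mul, hκ, one_mul, hφA _ (hWdef ▸ Submodule.neg_mem _ hy), ← hφH, hP]
      rw [if_neg hax]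
      push Not at hax
      by_cases hline : x ∈ F ∙ a
      · rw [if_pos hline]
        obtain ⟨t, ht⟩ := Submodule.mem_span_singleton.1 hline
        have ht0 : t ≠ 0 := fun e => hx0 (by rw [← ht, e, zero_smul])
        obtain ⟨κ, hκ, eκ⟩ := hTa g t ht0 (by rw [← hx, ht])
        rw [eκ, map_smul, smul_eq_mul, map_mul, hκ, one_mul, B.nsq_eq, ← hN, Complex.normSq_ofReal]
      rw [if_neg hline]
      obtain ⟨x0, hx0W, e⟩ := lev_split hp C.L.ha C.L.hf (Submodule.mem_top : x ∈ (⊤ : Submodule F V))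
      rw [hax, zero_smul, add_zero] at e
      rw [← hWdef] at hx0W
      have hx00 : x0 ≠ 0 := fun e0 => hline (by
        rw [e, e0, add_zero]; exact Submodule.smul_mem _ _ (Submodule.mem_span_singleton_self a))
      have hQx0 : Q x0 = 0 := by
        rw [e, map_two, QuadraticMap.map_smul, hQa, polar_smul_left, (hmemW hx0W).1] at hQx
        simpa using hQx
      obtain ⟨y, hy, -, hyx⟩ := exists_sep_in hWn (bot_le : (⊥ : Submodule F V) ≤ W) hx0W (by simpa using hx00)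
        (polar Q f x - 1)
      have hEy : (E a y : Om Q) • x = a + x0 := by
        rw [e, smul_add, smul_scalar, E_fix_self hS hQa (hmemW hy).1, E_apply_perp hS hQa (hmemW hy).1 (hmemW hx0W).1,
          hyx]
        module
      have hEf : (E f x0 : Om Q) • a = a + x0 := by
        rw [E_partner hS hQf (hmemW hx0W).2 hfa, hQx0, polar_comm Q x0 a, (hmemW hx0W).1, add_zero, zero_smul, sub_zero]
      obtain ⟨κ, hκ, eκ⟩ := hTa ((E f x0)⁻¹ * E a y * g) 1 one_ne_zero (by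
        rw [mul_smul, mul_smul, ← hx, hEy, one_smul, inv_smul_eq_iff, hEf])
      have : act ρ g u = κ • act ρ (E a (-y)) (act ρ (E f x0) u) := by
        rw [← map_smul, ← map_smul, ← eκ, ← C.act_mul_apply, ← C.act_mul_apply, ← E_inv hS hQa (hmemW hy).1]
        congr 2
        group
      rw [this, map_smul, smul_eq_mul, map_mul, hκ, one_mul, hφA _ (W.neg_mem hy),
        show B.ip u (act ρ (E f x0) u) = φ x0 by rw [hφ],
        hmove b hb x0 hx0W hb0 hx00 (hQb.trans hQx0.symm), ← hc₁, hc0, map_zero]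
    -- average over the group
    haveI := finite_om Q
    haveI := Fintype.ofFinite (fixGrp Q (⊤ : Submodule F V))
    haveI : Nontrivial M := ⟨⟨u, 0, hu⟩⟩
    have hsum := B.sum_normSq C.irr u
    rw [Finset.sum_congr rfl (g := fun g : fixGrp Q (⊤ : Submodule F V) => Fn ((g : Om Q) • a)) fun g _ => by
      rw [← hval, act, el_coe]] at hsum
    obtain ⟨X, hX⟩ : ∃ X : Finset V, X = Finset.univ.filter fun x => x ≠ 0 ∧ Q x = 0 := ⟨_, rfl⟩
    have hXmem : ∀ x, x ∈ X ↔ x ≠ 0 ∧ Q x = 0 := fun x => by rw [hX]; simp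
    have hswap : (X.card : ℝ) * ∑ g : fixGrp Q (⊤ : Submodule F V), Fn ((g : Om Q) • a) =
        (Fintype.card (fixGrp Q (⊤ : Submodule F V)) : ℝ) * ∑ x ∈ X, Fn x := by
      have e1 : ∀ x ∈ X, ∑ g : fixGrp Q (⊤ : Submodule F V), Fn ((g : Om Q) • x) =
          ∑ g : fixGrp Q (⊤ : Submodule F V), Fn ((g : Om Q) • a) := by
        intro x hx
        obtain ⟨hx0, hQx⟩ := (hXmem x).1 hx
        obtain ⟨g₀, hg₀, e⟩ := move_eq hS C.L.sh.nd (by have := C.L.six; omega) C.L.ha Submodule.mem_top C.L.a_ne hx0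
          (hQx.trans hQa.symm)
        refine Fintype.sum_equiv (Equiv.mulRight (⟨g₀, hg₀⟩ : fixGrp Q (⊤ : Submodule F V))) _ _ fun g => ?_
        rw [Equiv.coe_mulRight, Subgroup.coe_mul, mul_smul, e]
      have e2 : ∀ g : fixGrp Q (⊤ : Submodule F V), ∑ x ∈ X, Fn ((g : Om Q) • x) = ∑ x ∈ X, Fn x := by
        intro g
        refine Finset.sum_equiv (MulAction.toPerm (g : Om Q)) (fun x => ?_) (fun x _ => rfl)
        simp only [hXmem, MulAction.toPerm_apply, form_smul]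
        refine and_congr_left fun _ => not_congr ⟨fun e => by rw [e, smul_zero'], fun e => smul_inj (g : Om Q) (by rw [e, smul_zero'])⟩
      rw [← nsmul_eq_mul, ← Finset.sum_const, ← Finset.sum_congr rfl e1, Finset.sum_comm,
        Finset.sum_congr rfl fun g _ => e2 g, Finset.sum_const, Finset.card_univ, nsmul_eq_mul]
    have hcard : X.card = Fintype.card F ^ (2 * m + 2) - 1 := by
      rw [← C.card_points, Nat.card_eq_fintype_card, Fintype.card_subtype, hX]
    have hsumX : ∑ x ∈ X, Fn x = ((Fintype.card F - 1 : ℕ) : ℝ) * ((Fintype.card F : ℝ) ^ (2 * m + 1) * P) +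
        ((Fintype.card F - 1 : ℕ) : ℝ) * (N * N) := by
      have k1 : (X.filter fun x => polar Q a x ≠ 0).card = (Fintype.card F - 1) * Fintype.card F ^ (2 * m + 1) := by
        rw [← C.card_far, Nat.card_eq_fintype_card, Fintype.card_subtype]
        congr 1
        ext x
        simp only [Finset.mem_filter, hXmem, Finset.mem_univ, true_and]
        exact ⟨fun hx => ⟨hx.1.2, hx.2⟩, fun hx => ⟨⟨fun e => hx.2 (by rw [e, polar_zero_right]), hx.1⟩, hx.2⟩⟩
      have k2 : ((X.filter fun x => ¬ polar Q a x ≠ 0).filter fun x => x ∈ F ∙ a).card = Fintype.card F - 1 := by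
        rw [← C.card_line, Nat.card_eq_fintype_card, Fintype.card_subtype]
        congr 1
        ext x
        simp only [Finset.mem_filter, hXmem, Finset.mem_univ, true_and, not_not]
        refine ⟨fun hx => ⟨hx.1.1, hx.2⟩, fun hx => ⟨⟨hx.1, ?_⟩, hx.2⟩⟩
        obtain ⟨t, rfl⟩ := Submodule.mem_span_singleton.1 hx.2
        rw [polar_smul_right, polar_self_zero hQa, smul_zero]
      rw [hFn]
      dsimp only
      rw [Finset.sum_ite, Finset.sum_ite, Finset.sum_const, Finset.sum_const, Finset.sum_const_zero, add_zero, k1, k2,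
        nsmul_eq_mul, nsmul_eq_mul, Nat.cast_mul, Nat.cast_pow, mul_assoc]
    -- compare
    have hG' : (Fintype.card (fixGrp Q (⊤ : Submodule F V)) : ℝ) ≠ 0 := Nat.cast_ne_zero.2 Fintype.card_ne_zero
    have key : (∑ x ∈ X, Fn x) * (finrank ℂ M : ℝ) = (X.card : ℝ) * (N * N) := by
      refine mul_left_cancel₀ hG' ?_
      rw [← mul_assoc, ← hswap, mul_assoc, hsum, ← hN]
      ring
    have hq2 : ((Fintype.card F - 1 : ℕ) : ℝ) * ((Fintype.card F : ℝ) + 1) = ((Fintype.card F ^ 2 - 1 : ℕ) : ℝ) := by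
      rw [Nat.cast_sub Fintype.card_pos, Nat.cast_sub (Nat.one_le_pow _ _ Fintype.card_pos), Nat.cast_pow]
      push_cast; ring
    have hN0 : N * N ≠ 0 := mul_ne_zero (hN ▸ (B.pos u hu).ne') (hN ▸ (B.pos u hu).ne')
    rw [hsumX, hcard, show (Fintype.card F : ℝ) ^ (2 * m + 1) * P = (Fintype.card F : ℝ) * (N * N) by
      rw [← hP', pow_succ]; ring] at key
    have key' : ((Fintype.card F ^ 2 - 1 : ℕ) : ℝ) * (finrank ℂ M : ℝ) =
        ((Fintype.card F ^ (2 * m + 2) - 1 : ℕ) : ℝ) := by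
      refine mul_left_cancel₀ hN0 ?_
      rw [← hq2]
      linear_combination key
    have hlt := C.lt
    rw [mul_comm] at hlt
    exact absurd (by exact_mod_cast key') hlt.ne

end Ctx

end Cfsg.Agent.Char.OmegaDeg
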