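import Cfsg.Agent.Lib.Char.OmegaDeg.OddSphere

/-!
# The vector fixed by the group of the orthogonal of the pair
-/

set_option autoImplicit false
set_option linter.unusedSectionVars false
set_option linter.style.haveILetI false

universe u

namespace Cfsg.Agent.Char.OmegaDeg

open Module QuadraticMap Cfsg.Agent.Classical Cfsg.Agent.Classical.OCount
open Cfsg.Agent.Small.OMinIndex

variable {F : Type u} [Field F] [Fintype F] {V : Type u} [AddCommGroup V] [Module F V] [FiniteDimensional F V]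
  {Q : QuadraticForm F V}

variable {M : Type} [AddCommGroup M] [Module ℂ M] [FiniteDimensional ℂ M]
  {ρ : Representation ℂ (fixGrp Q (⊤ : Submodule F V)) M} {ψ : AddChar F ℂ} {a f : V} {m : ℕ}

open scoped _root_.Classical in
/-- The sum of the weights orthogonal to `z`. -/
noncomputable def perpProj (ρ : Representation ℂ (fixGrp Q (⊤ : Submodule F V)) M) (ψ : AddChar F ℂ) (a f z : V) :
    Module.End ℂ M :=
  haveI : Finite V := Module.finite_of_finite F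
  haveI := Fintype.ofFinite (lev Q ⊤ a f)
  ∑ η : lev Q ⊤ a f, if polar Q z (η : V) = 0 then wt ρ ψ a (lev Q ⊤ a f) (η : V) else 0

/-- A vector with all the singular weights, fixed by the group of the orthogonal. -/
structure IsVec (ρ : Representation ℂ (fixGrp Q (⊤ : Submodule F V)) M) (ψ : AddChar F ℂ) (a f : V) (v : M) : Prop where
  fixed : ∀ g ∈ fixGrp Q (lev Q ⊤ a f), act ρ g v = v
  zero : wt ρ ψ a (lev Q ⊤ a f) 0 v = 0
  sing : ∀ η ∈ lev Q ⊤ a f, η ≠ 0 → Q η = 0 → wt ρ ψ a (lev Q ⊤ a f) η v ≠ 0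
  unique : ∀ x, (∀ g ∈ fixGrp Q (lev Q ⊤ a f), act ρ g x = x) → ∃ c : ℂ, x = c • v

namespace Ctx

variable (C : Ctx ρ ψ a f m)
include C

theorem ext_wt {x y : M} (h : ∀ η ∈ lev Q ⊤ a f, wt ρ ψ a (lev Q ⊤ a f) η x = wt ρ ψ a (lev Q ⊤ a f) η y) : x = y := by
  haveI : Finite V := Module.finite_of_finite F
  haveI := Fintype.ofFinite (lev Q ⊤ a f)
  have hx := LinearMap.congr_fun (sum_wt (ρ := ρ) C.L.fr C.psi_ne) x
  have hy := LinearMap.congr_fun (sum_wt (ρ := ρ) C.L.fr C.psi_ne) y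
  rw [LinearMap.sum_apply, Module.End.one_apply] at hx hy
  rw [← hx, ← hy]
  exact Finset.sum_congr rfl fun η _ => h η η.2

theorem wt_wt {η η' : V} (hη : η ∈ lev Q ⊤ a f) (hη' : η' ∈ lev Q ⊤ a f) [Decidable (η = η')] (x : M) :
    wt ρ ψ a (lev Q ⊤ a f) η (wt ρ ψ a (lev Q ⊤ a f) η' x) =
      if η = η' then wt ρ ψ a (lev Q ⊤ a f) η x else 0 := by
  rw [← Module.End.mul_apply, wt_mul_wt C.L.fr C.psi_ne hη hη']
  split_ifs <;> rfl

theorem act_wt_apply {g : Om Q} {s : F} (hs : s ≠ 0) (ea : g • a = s • a) (ef : g • f = s⁻¹ • f) (η : V) (x : M) :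
    act ρ g (wt ρ ψ a (lev Q ⊤ a f) η x) = wt ρ ψ a (lev Q ⊤ a f) (s⁻¹ • g • η) (act ρ g x) :=
  LinearMap.congr_fun (C.act_wt hs ea ef η) x

theorem opA_wt_apply {w : V} (hw : w ∈ lev Q ⊤ a f) (η : V) (x : M) :
    act ρ (E a w) (wt ρ ψ a (lev Q ⊤ a f) η x) = ψ (polar Q w η) • wt ρ ψ a (lev Q ⊤ a f) η x :=
  LinearMap.congr_fun (opA_mul_wt (ρ := ρ) (ψ := ψ) C.L.fr hw η) x

/-- Distinct weights are orthogonal. -/
theorem wt_orth (B : Herm ρ) {η η' : V} (hη : η ∈ lev Q ⊤ a f) (hη' : η' ∈ lev Q ⊤ a f) (hne : η ≠ η') (x x' : M) :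
    B.ip (wt ρ ψ a (lev Q ⊤ a f) η x) (wt ρ ψ a (lev Q ⊤ a f) η' x') = 0 := by
  obtain ⟨s, hs⟩ := AddChar.ne_one_iff.1 C.psi_ne
  obtain ⟨w, hw, -, hws⟩ := exists_sep_in C.ndW (bot_le : (⊥ : Submodule F V) ≤ lev Q ⊤ a f)
    (Submodule.sub_mem _ hη' hη) (by simpa [sub_eq_zero] using Ne.symm hne) s
  have h := act_herm B (E a w) (wt ρ ψ a (lev Q ⊤ a f) η x) (wt ρ ψ a (lev Q ⊤ a f) η' x')
  rw [C.opA_wt_apply hw, C.opA_wt_apply hw, B.smul_left, map_smul, smul_eq_mul, ← mul_assoc,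
    ← AddChar.map_neg_eq_conj, ← AddChar.map_add_eq_mul, neg_add_eq_sub, ← polar_sub_right, hws] at h
  have h' : (ψ s - 1) * B.ip (wt ρ ψ a (lev Q ⊤ a f) η x) (wt ρ ψ a (lev Q ⊤ a f) η' x') = 0 := by
    linear_combination h
  exact (mul_eq_zero.1 h').resolve_left (sub_ne_zero.2 hs)

theorem nsq_sum_wt [Fintype (lev Q ⊤ a f)] (B : Herm ρ) (x : M) :
    B.nsq x = ∑ η : lev Q ⊤ a f, B.nsq (wt ρ ψ a (lev Q ⊤ a f) (η : V) x) := by
  classical
  have hx := LinearMap.congr_fun (sum_wt (ρ := ρ) C.L.fr C.psi_ne) x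
  rw [LinearMap.sum_apply, Module.End.one_apply] at hx
  have h : B.ip x x = ∑ η : lev Q ⊤ a f, B.ip (wt ρ ψ a (lev Q ⊤ a f) (η : V) x) (wt ρ ψ a (lev Q ⊤ a f) (η : V) x) := by
    conv_lhs => rw [← hx]
    rw [B.sum_left]
    refine Finset.sum_congr rfl fun η _ => ?_
    rw [map_sum, Finset.sum_eq_single η (fun η' _ hne => C.wt_orth B η.2 η'.2
      (fun e => hne (Subtype.ext e.symm)) _ _) (fun hn => absurd (Finset.mem_univ _) hn)]
  rw [Herm.nsq, h, Complex.re_sum]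
  rfl

/-- An element carrying the pair to fixed vectors normalises the group of the orthogonal. -/
theorem conj_mem {g l : Om Q} (ea : l • g • a = g • a) (ef : l • g • f = g • f) :
    g⁻¹ * l * g ∈ fixGrp Q (lev Q ⊤ a f) :=
  mem_fixGrp_lev C.L.space C.hp C.L.sh.nd C.L.ha C.L.hf (C.mem _)
    (by rw [mul_smul, mul_smul, ea, inv_smul_smul]) (by rw [mul_smul, mul_smul, ef, inv_smul_smul])

theorem fixed_image {g : Om Q} {x : M} (hx : ∀ l ∈ fixGrp Q (lev Q ⊤ a f), act ρ l x = x)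
    (h : ∀ l ∈ fixGrp Q (lev Q ⊤ a f), l • g • a = g • a ∧ l • g • f = g • f) :
    ∀ l ∈ fixGrp Q (lev Q ⊤ a f), act ρ l (act ρ g x) = act ρ g x := by
  intro l hl
  conv_lhs => rw [← C.act_mul_apply, show l * g = g * (g⁻¹ * l * g) by group, C.act_mul_apply,
    hx _ (C.conj_mem (h l hl).1 (h l hl).2)]

theorem fixed_torus {g : Om Q} {s : F} (ea : g • a = s • a) (ef : g • f = s⁻¹ • f) {x : M}
    (hx : ∀ l ∈ fixGrp Q (lev Q ⊤ a f), act ρ l x = x) :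
    ∀ l ∈ fixGrp Q (lev Q ⊤ a f), act ρ l (act ρ g x) = act ρ g x :=
  C.fixed_image hx fun l hl => ⟨by rw [ea, smul_scalar, C.L.fix_a hl], by rw [ef, smul_scalar, C.L.fix_f hl]⟩

/-- Nothing of weight zero is fixed. -/
theorem zero_fixed (hnt : ¬ Triv ρ) (B : Herm ρ) {x : M}
    (hA : ∀ w ∈ lev Q ⊤ a f, act ρ (E a w : Om Q) x = x)
    (hL : ∀ g ∈ fixGrp Q (lev Q ⊤ a f), act ρ g x = x) : x = 0 := by
  by_contra hx
  classical
  haveI := Fintype.ofFinite Fˣ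
  have hS := C.L.space
  obtain ⟨N, hN⟩ : ∃ N : Submodule ℂ M, ∀ y, y ∈ N ↔
      (∀ w ∈ lev Q ⊤ a f, act ρ (E a w : Om Q) y = y) ∧ ∀ g ∈ fixGrp Q (lev Q ⊤ a f), act ρ g y = y :=
    ⟨{ carrier := {y | (∀ w ∈ lev Q ⊤ a f, act ρ (E a w : Om Q) y = y) ∧
          ∀ g ∈ fixGrp Q (lev Q ⊤ a f), act ρ g y = y}
       add_mem' := fun {y y'} h h' => ⟨fun w hw => by rw [map_add, h.1 w hw, h'.1 w hw],
         fun g hg => by rw [map_add, h.2 g hg, h'.2 g hg]⟩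
       zero_mem' := ⟨fun _ _ => map_zero _, fun _ _ => map_zero _⟩
       smul_mem' := fun c y h => ⟨fun w hw => by rw [map_smul, h.1 w hw], fun g hg => by rw [map_smul, h.2 g hg]⟩ },
      fun y => Iff.rfl⟩
  obtain ⟨t₀, ht₀⟩ := IsCyclic.exists_generator (α := Fˣ)
  obtain ⟨g₀, -, e1, e2⟩ := exists_scale hS C.L.sh.nd (by have := C.L.six; omega) C.L.ha C.L.hf C.hp t₀.ne_zero
  have hinv : ∀ y ∈ N, act ρ g₀ y ∈ N := by
    intro y hy
    rw [hN] at hy ⊢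
    refine ⟨fun w hw => ?_, C.fixed_torus e1 e2 hy.2⟩
    have hw' : (t₀⁻¹ : Fˣ).val • g₀⁻¹ • w ∈ lev Q ⊤ a f := by
      refine Submodule.smul_mem _ _ (C.L.smul_mem (C.mem _) (inv_ne_zero t₀.ne_zero) t₀.ne_zero ?_ ?_ hw)
      · rw [inv_smul_eq_iff, smul_scalar, e1, smul_smul, inv_mul_cancel₀ t₀.ne_zero, one_smul]
      · rw [inv_smul_eq_iff, smul_scalar, e2, smul_smul, mul_inv_cancel₀ t₀.ne_zero, one_smul]
    have haw := (mem_lev.1 hw').2.1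
    conv_lhs => rw [← C.act_mul_apply, show E a w * g₀ = g₀ * E a ((t₀⁻¹ : Fˣ).val • g₀⁻¹ • w) by
      have hQa : Q a = 0 := C.hp.1
      rw [mul_inv_eq_iff_eq_mul.1 (conj_E hS hQa haw g₀), e1, smul_scalar, smul_inv_smul,
        E_smul_left hS hQa (by rw [polar_smul_right, (mem_lev.1 hw).2.1, smul_zero]), smul_smul,
        Units.mul_inv, one_smul], C.act_mul_apply, hy.1 _ hw']
  haveI : Nontrivial N := ⟨⟨⟨x, (hN x).2 ⟨hA, hL⟩⟩, 0, fun e => hx (congrArg Subtype.val e)⟩⟩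
  obtain ⟨μ, hμ⟩ := Module.End.exists_eigenvalue ((act ρ g₀).restrict hinv)
  obtain ⟨y, hy⟩ := hμ.exists_hasEigenvector
  have hy' : act ρ g₀ y.1 = μ • y.1 := congrArg Subtype.val hy.apply_eq_smul
  have hy0 : y.1 ≠ 0 := fun e => hy.2 (Subtype.ext e)
  obtain ⟨hA', hL'⟩ := (hN y.1).1 y.2
  refine hnt (C.triv_of_eigen B hy0 hA' hL' fun g t ht ea ef => ?_)
  obtain ⟨k, hk⟩ : ∃ k : ℕ, t₀ ^ k = Units.mk0 t ht :=
    Submonoid.mem_powers_iff _ _ |>.1 ((mem_powers_iff_mem_zpowers).2 (ht₀ _))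
  have hk' : (t₀ : F) ^ k = t := by rw [← Units.val_pow_eq_pow_val, hk]; rfl
  have hpow : ∀ i : ℕ, (g₀ ^ i) • a = (t₀ : F) ^ i • a ∧ (g₀ ^ i) • f = ((t₀ : F) ^ i)⁻¹ • f ∧
      act ρ (g₀ ^ i) y.1 = μ ^ i • y.1 := by
    intro i
    induction i with
    | zero => simp [act_one]
    | succ i ih =>
      refine ⟨?_, ?_, ?_⟩
      · rw [pow_succ, mul_smul, e1, smul_scalar, ih.1, smul_smul, pow_succ']
      · rw [pow_succ, mul_smul, e2, smul_scalar, ih.2.1, smul_smul, pow_succ', mul_inv]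
      · rw [pow_succ, C.act_mul_apply, hy', map_smul, ih.2.2, smul_smul, pow_succ']
  obtain ⟨q1, q2, q3⟩ := hpow k
  rw [hk'] at q1 q2
  have hl : (g₀ ^ k)⁻¹ * g ∈ fixGrp Q (lev Q ⊤ a f) :=
    mem_fixGrp_lev hS C.hp C.L.sh.nd C.L.ha C.L.hf (C.mem _)
      (by rw [mul_smul, ea, inv_smul_eq_iff, q1]) (by rw [mul_smul, ef, inv_smul_eq_iff, q2])
  refine ⟨μ ^ k, ?_⟩
  rw [← q3, ← mul_inv_cancel_left (g₀ ^ k) g, C.act_mul_apply, hL' _ hl]

/-- The vector exists. -/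
theorem exists_vec (hnt : ¬ Triv ρ) (B : Herm ρ) : ∃ v, IsVec ρ ψ a f v := by
  classical
  haveI : Finite V := Module.finite_of_finite F
  haveI := finite_om Q
  haveI := Fintype.ofFinite (fixGrp Q (lev Q ⊤ a f))
  have hW4 := C.L.fourW
  obtain ⟨η₀, hη₀, hη₀0, hQη₀⟩ := exists_sing_vec C.L.shW (by have := C.two_le; omega)
  obtain ⟨x₀, hx₀0, hspan⟩ := finrank_eq_one_iff'.1 (C.one η₀ hη₀ hη₀0 hQη₀)
  obtain ⟨z, hz⟩ := x₀.2
  have hfix₀ : wt ρ ψ a (lev Q ⊤ a f) η₀ x₀.1 = x₀.1 := by rw [← hz, C.wt_wt hη₀ hη₀, if_pos rfl]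
  obtain ⟨v, hv⟩ : ∃ v, v = ∑ g : fixGrp Q (lev Q ⊤ a f), act ρ (g : Om Q) x₀.1 := ⟨_, rfl⟩
  have hfixed : ∀ g ∈ fixGrp Q (lev Q ⊤ a f), act ρ g v = v := by
    intro g hg
    rw [hv, map_sum]
    refine Fintype.sum_equiv (Equiv.mulLeft (⟨g, hg⟩ : fixGrp Q (lev Q ⊤ a f))) _ _ fun l => ?_
    rw [Equiv.coe_mulLeft, Subgroup.coe_mul, C.act_mul_apply]
  have hat : wt ρ ψ a (lev Q ⊤ a f) η₀ v =
      (Nat.card {g : fixGrp Q (lev Q ⊤ a f) // (g : Om Q) • η₀ = η₀} : ℂ) • x₀.1 := by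
    have e : ∀ g : fixGrp Q (lev Q ⊤ a f), wt ρ ψ a (lev Q ⊤ a f) η₀ (act ρ (g : Om Q) x₀.1) =
        if (g : Om Q) • η₀ = η₀ then x₀.1 else 0 := by
      intro g
      have hgW : (g : Om Q) • η₀ ∈ lev Q ⊤ a f := fixGrp_smul_mem C.L.space.pnd g.2 hη₀
      conv_lhs => rw [← hfix₀, ← Module.End.mul_apply (act ρ _), C.act_wt_fix g.2, Module.End.mul_apply,
        C.wt_wt hη₀ hgW]
      by_cases hg : (g : Om Q) • η₀ = η₀
      · rw [if_pos hg.symm, if_pos hg]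
        have h := LinearMap.congr_fun (C.stab_fix hη₀ hη₀0 hQη₀ g.2 hg) x₀.1
        rw [Module.End.mul_apply, hfix₀] at h
        conv_lhs => arg 2; rw [← hfix₀]
        rw [← Module.End.mul_apply (act ρ _), C.act_wt_fix g.2, hg, Module.End.mul_apply, C.wt_wt hη₀ hη₀,
          if_pos rfl]
        rw [← Module.End.mul_apply, ← show act ρ (g : Om Q) * wt ρ ψ a (lev Q ⊤ a f) η₀ =
          wt ρ ψ a (lev Q ⊤ a f) η₀ * act ρ (g : Om Q) by rw [C.act_wt_fix g.2, hg], Module.End.mul_apply, hfix₀, h]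
      · rw [if_neg (Ne.symm hg), if_neg hg]
    rw [hv, map_sum, Finset.sum_congr rfl fun g _ => e g, Finset.sum_ite, Finset.sum_const_zero, add_zero,
      Finset.sum_const, Nat.card_eq_fintype_card, Fintype.card_subtype, Nat.cast_smul_eq_nsmul]
  have hat0 : wt ρ ψ a (lev Q ⊤ a f) η₀ v ≠ 0 := by
    rw [hat]
    haveI : Nonempty {g : fixGrp Q (lev Q ⊤ a f) // (g : Om Q) • η₀ = η₀} := ⟨⟨1, one_smul _ _⟩⟩
    exact smul_ne_zero (Nat.cast_ne_zero.2 Nat.card_pos.ne') fun e => hx₀0 (Subtype.ext e)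
  have hmove : ∀ η ∈ lev Q ⊤ a f, η ≠ 0 → Q η = 0 → ∀ x, (∀ g ∈ fixGrp Q (lev Q ⊤ a f), act ρ g x = x) →
      ∃ g ∈ fixGrp Q (lev Q ⊤ a f), wt ρ ψ a (lev Q ⊤ a f) η x = act ρ g (wt ρ ψ a (lev Q ⊤ a f) η₀ x) := by
    intro η hη hη0 hQη x hx
    obtain ⟨g, hg, e⟩ := move_eq C.L.space C.ndW hW4 hη₀ hη hη₀0 hη0 (hQη.trans hQη₀.symm)
    refine ⟨g, hg, ?_⟩
    rw [← Module.End.mul_apply (act ρ g), C.act_wt_fix hg, e, Module.End.mul_apply, hx g hg]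
  have hzero : ∀ x : M, (∀ g ∈ fixGrp Q (lev Q ⊤ a f), act ρ g x = x) → wt ρ ψ a (lev Q ⊤ a f) 0 x = 0 := by
    intro x hx
    refine C.zero_fixed hnt B (fun w hw => ?_) fun g hg => ?_
    · rw [C.opA_wt_apply hw, polar_zero_right, AddChar.map_zero_eq_one, one_smul]
    · rw [← Module.End.mul_apply (act ρ g), C.act_wt_fix hg, smul_zero', Module.End.mul_apply, hx g hg]
  refine ⟨v, hfixed, hzero v hfixed, fun η hη hη0 hQη h0 => ?_, fun x hx => ?_⟩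
  · obtain ⟨g, -, e⟩ := hmove η hη hη0 hQη v hfixed
    rw [h0, eq_comm] at e
    exact hat0 (by rw [← C.act_inv_apply g (wt ρ ψ a (lev Q ⊤ a f) η₀ v), e, map_zero])
  · obtain ⟨c, hc⟩ : ∃ c : ℂ, wt ρ ψ a (lev Q ⊤ a f) η₀ x = c • wt ρ ψ a (lev Q ⊤ a f) η₀ v := by
      obtain ⟨c, hc⟩ := hspan ⟨_, LinearMap.mem_range_self (wt ρ ψ a (lev Q ⊤ a f) η₀) x⟩
      obtain ⟨d, hd⟩ := hspan ⟨_, LinearMap.mem_range_self (wt ρ ψ a (lev Q ⊤ a f) η₀) v⟩
      have hc' : c • x₀.1 = wt ρ ψ a (lev Q ⊤ a f) η₀ x := congrArg Subtype.val hc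
      have hd' : d • x₀.1 = wt ρ ψ a (lev Q ⊤ a f) η₀ v := congrArg Subtype.val hd
      have hd0 : d ≠ 0 := fun e => hat0 (by rw [← hd', e, zero_smul])
      exact ⟨c / d, by rw [← hc', ← hd', smul_smul, div_mul_cancel₀ _ hd0]⟩
    have hdfix : ∀ g ∈ fixGrp Q (lev Q ⊤ a f), act ρ g (x - c • v) = x - c • v := fun g hg => by
      rw [map_sub, map_smul, hx g hg, hfixed g hg]
    refine ⟨c, sub_eq_zero.1 (C.ext_wt fun η hη => ?_)⟩
    rw [map_zero]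
    rcases eq_or_ne η 0 with rfl | hη0
    · exact hzero _ hdfix
    by_cases hQη : Q η = 0
    · obtain ⟨g, -, e⟩ := hmove η hη hη0 hQη _ hdfix
      rw [e, map_sub (wt ρ ψ a (lev Q ⊤ a f) η₀), map_smul, hc, sub_self, map_zero]
    · rw [C.ns η hη hQη, LinearMap.zero_apply]

/-! ### The projections -/

theorem perpProj_apply [Fintype (lev Q ⊤ a f)] [DecidableEq F] (z : V) (x : M) : perpProj ρ ψ a f z x =
    ∑ η : lev Q ⊤ a f, if polar Q z (η : V) = 0 then wt ρ ψ a (lev Q ⊤ a f) (η : V) x else 0 := by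
  rw [perpProj, LinearMap.sum_apply]
  refine Finset.sum_congr (Finset.ext fun x => by simp) fun η _ => ?_
  split_ifs <;> simp

theorem wt_perpProj [DecidableEq F] {η : V} (hη : η ∈ lev Q ⊤ a f) (z : V) (x : M) :
    wt ρ ψ a (lev Q ⊤ a f) η (perpProj ρ ψ a f z x) =
      if polar Q z η = 0 then wt ρ ψ a (lev Q ⊤ a f) η x else 0 := by
  classical
  haveI : Finite V := Module.finite_of_finite F
  haveI := Fintype.ofFinite (lev Q ⊤ a f)
  rw [C.perpProj_apply, map_sum, Finset.sum_eq_single (⟨η, hη⟩ : lev Q ⊤ a f)]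
  · split_ifs
    · rw [C.wt_wt hη hη, if_pos rfl]
    · rw [map_zero]
  · intro η' _ hne
    split_ifs
    · rw [C.wt_wt hη η'.2, if_neg fun e : η = (η' : V) => hne (Subtype.ext e.symm)]
    · rw [map_zero]
  · exact fun hn => absurd (Finset.mem_univ _) hn

theorem sum_line {z : V} (hz : z ∈ lev Q ⊤ a f) (x : M) :
    ∑ t : F, act ρ (E a (t • z) : Om Q) x = (Fintype.card F : ℂ) • perpProj ρ ψ a f z x := by
  classical
  refine C.ext_wt fun η hη => ?_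
  rw [map_sum, map_smul, C.wt_perpProj hη]
  have e : ∀ t : F, wt ρ ψ a (lev Q ⊤ a f) η (act ρ (E a (t • z) : Om Q) x) =
      ψ (t * polar Q z η) • wt ρ ψ a (lev Q ⊤ a f) η x := by
    intro t
    have htz : t • z ∈ lev Q ⊤ a f := Submodule.smul_mem _ _ hz
    haveI : Finite V := Module.finite_of_finite F
    haveI := Fintype.ofFinite (lev Q ⊤ a f)
    rw [show act ρ (E a (t • z) : Om Q) = opA ρ a (t • z) from rfl, opA_eq_sum C.L.fr C.psi_ne htz,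
      LinearMap.sum_apply, map_sum, Finset.sum_eq_single (⟨η, hη⟩ : lev Q ⊤ a f)]
    · rw [LinearMap.smul_apply, map_smul, C.wt_wt hη hη, if_pos rfl, polar_smul_left, smul_eq_mul]
    · intro η' _ hne
      rw [LinearMap.smul_apply, map_smul, C.wt_wt hη η'.2, if_neg fun e : η = (η' : V) => hne (Subtype.ext e.symm),
        smul_zero]
    · exact fun hn => absurd (Finset.mem_univ _) hn
  rw [Finset.sum_congr rfl fun t _ => e t, ← Finset.sum_smul,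
    AddChar.sum_mulShift _ (AddChar.IsPrimitive.of_ne_one C.psi_ne)]
  split_ifs <;> simp

end Ctx

end Cfsg.Agent.Char.OmegaDeg
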