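import Cfsg.Agent.Lib.Char.OmegaDeg.Level
import Cfsg.Agent.Lib.Small.SLnMinDeg.Main

/-!
# Reduction to irreducible representations, and the counts of the weights
-/

set_option autoImplicit false
set_option linter.unusedSectionVars false
set_option linter.style.haveILetI false

universe u

namespace Cfsg.Agent.Char.OmegaDeg

open Module QuadraticMap Cfsg.Agent.Classical Cfsg.Agent.Classical.OCount
open Cfsg.Agent.Small.OMinIndex

variable {F : Type u} [Field F] [Fintype F] {V : Type u} [AddCommGroup V] [Module F V] [FiniteDimensional F V]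
  {Q : QuadraticForm F V}

theorem finite_om (Q : QuadraticForm F V) : Finite (Om Q) := by
  haveI : Finite V := Module.finite_of_finite F
  haveI : Finite (V ≃ₗ[F] V) := Finite.of_injective _ DFunLike.coe_injective
  infer_instance

/-- No invariant subspaces but the trivial ones. -/
def Irr {G : Type*} [Group G] {M : Type*} [AddCommGroup M] [Module ℂ M] (ρ : Representation ℂ G M) : Prop :=
  ∀ S : Submodule ℂ M, (∀ g, ∀ x ∈ S, ρ g x ∈ S) → S = ⊥ ∨ S = ⊤

/-- Representations of degree below `T` kill the Siegel elements. -/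
def Low (Q : QuadraticForm F V) (U : Submodule F V) (T : ℕ) : Prop :=
  ∀ (M : Type) [AddCommGroup M] [Module ℂ M] [FiniteDimensional ℂ M] (ρ : Representation ℂ (fixGrp Q U) M),
    finrank ℂ M < T → Triv ρ

theorem low_of_irr {U : Submodule F V} {T : ℕ}
    (h : ∀ (M : Type) [AddCommGroup M] [Module ℂ M] [FiniteDimensional ℂ M] (ρ : Representation ℂ (fixGrp Q U) M),
      Nontrivial M → Irr ρ → finrank ℂ M < T → Triv ρ) : Low Q U T := by
  haveI := finite_om Q
  suffices H : ∀ d : ℕ, d < T → ∀ (M : Type) [AddCommGroup M] [Module ℂ M] [FiniteDimensional ℂ M]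
      (ρ : Representation ℂ (fixGrp Q U) M), finrank ℂ M = d → Triv ρ from fun M _ _ _ ρ hd => H _ hd M ρ rfl
  intro d
  induction d using Nat.strong_induction_on with
  | _ d ih =>
    intro hdT M _ _ _ ρ hd
    rcases subsingleton_or_nontrivial M with hs | hn
    · exact fun _ _ _ _ _ _ => LinearMap.ext fun _ => Subsingleton.elim _ _
    by_cases hirr : Irr ρ
    · exact h M ρ hn hirr (hd ▸ hdT)
    unfold Irr at hirr
    push Not at hirr
    obtain ⟨S, hS, hS0, hS1⟩ := hirr
    obtain ⟨S', hS', hi, hsup⟩ := Small.MinDeg.exists_invariant_compl ρ S hS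
    have hS'1 : S' ≠ ⊤ := fun h => hS0 (by rw [h, inf_top_eq] at hi; exact hi)
    intro x z hx hz hQx hxz
    refine LinearMap.ext fun v => ?_
    obtain ⟨v₁, h₁, v₂, h₂, rfl⟩ := Submodule.mem_sup.1 (hsup ▸ Submodule.mem_top : v ∈ S ⊔ S')
    have key : ∀ (R : Submodule ℂ M) (hR : ∀ g, ∀ x ∈ R, ρ g x ∈ R), R ≠ ⊤ → ∀ w ∈ R,
        ρ (el (fixGrp Q U) (E x z : Om Q)) w = w := by
      intro R hR hR1 w hw
      have hlt : finrank ℂ R < d := hd ▸ Submodule.finrank_lt hR1
      have := ih _ hlt (hlt.trans hdT) R (Small.MinDeg.res ρ R hR) rfl x z hx hz hQx hxz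
      exact congrArg Subtype.val (LinearMap.congr_fun this ⟨w, hw⟩)
    rw [map_add, key S hS hS1 _ h₁, key S' hS' hS'1 _ h₂]
    rfl

variable {U : Submodule F V} {a f : V} {j e : ℕ} {M : Type} [AddCommGroup M] [Module ℂ M]
  [FiniteDimensional ℂ M] {ρ : Representation ℂ (fixGrp Q U) M} {ψ : AddChar F ℂ} (L : Lv Q U a f j e) (hψ : ψ ≠ 1)
include L hψ

theorem lev_commute {g : Om Q} (hg : g ∈ fixGrp Q (lev Q U a f)) :
    Commute (ρ (el (fixGrp Q U) g)) (wt ρ ψ a (lev Q U a f) 0) := by
  have h := conj_wt (ρ := ρ) (ψ := ψ) L.fr (fixGrp_mono (lev_le U a f) hg) one_ne_zero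
    (by rw [one_smul]; exact L.fix_a hg) (fun w hw => fixGrp_smul_mem L.space.pnd hg hw) 0
  rwa [smul_zero', smul_zero] at h

/-- The representation of the smaller group on the fixed space. -/
noncomputable def zeroRep :
    Representation ℂ (fixGrp Q (lev Q U a f)) (LinearMap.range (wt ρ ψ a (lev Q U a f) 0)) :=
  restrictRep (fixGrp_mono (lev_le U a f)) ρ _ fun g hg => by
    rintro _ ⟨w, rfl⟩
    exact ⟨ρ (el (fixGrp Q U) g) w, (LinearMap.congr_fun (lev_commute L hψ hg).eq w).symm⟩

theorem zero_fix {B : ℕ} (hlow : Low Q (lev Q U a f) B) (h : mult ρ ψ a (lev Q U a f) 0 < B) {b u : V}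
    (hb : b ∈ lev Q U a f) (hu : u ∈ lev Q U a f) (hQb : Q b = 0) (hbu : polar Q b u = 0) :
    ρ (el _ (E b u : Om Q)) * wt ρ ψ a (lev Q U a f) 0 = wt ρ ψ a (lev Q U a f) 0 := by
  have h1 := hlow _ (zeroRep (ρ := ρ) L hψ) h b u hb hu hQb hbu
  refine LinearMap.ext fun w => ?_
  have h2 := congrArg Subtype.val (LinearMap.congr_fun h1 ⟨_, LinearMap.mem_range_self _ w⟩)
  rw [zeroRep, restrictRep_apply _ _ _ _ (E_mem L.space hQb hb hu hbu)] at h2
  exact h2

/-- The multiplicities depend on the square class of the value only. -/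
theorem multv_sq (c : F) {t : F} (ht : t ≠ 0) : multv a f ρ ψ (c * t ^ 2) = multv a f ρ ψ c := by
  rcases eq_or_ne c 0 with rfl | hc
  · rw [zero_mul]
  obtain ⟨y, hy, hQy⟩ := exists_value L.shW.nd (by have := L.fourW; omega) c
  have hy0 : y ≠ 0 := fun e => hc (by rw [← hQy, e, QuadraticMap.map_zero])
  obtain ⟨g, hg, e1, e2⟩ := exists_scale L.space L.sh.nd (by have := L.six; omega) L.ha L.hf L.hp (inv_ne_zero ht)
  have hgy : g • y ∈ lev Q U a f := L.smul_mem hg (inv_ne_zero ht) (inv_ne_zero (inv_ne_zero ht)) e1 e2 hy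
  have hm := mult_move (ρ := ρ) L.fr hψ hg (inv_ne_zero ht) e1
    (fun w hw => L.smul_mem hg (inv_ne_zero ht) (inv_ne_zero (inv_ne_zero ht)) e1 e2 hw) hy
  rw [inv_inv, mult_eq L hψ hy hy0, mult_eq L hψ ((lev Q U a f).smul_mem t hgy) (smul_ne_zero ht fun e =>
    hy0 (smul_inj g (by rw [e, smul_zero'])))] at hm
  rw [QuadraticMap.map_smul, form_smul, hQy, smul_eq_mul] at hm
  rw [← hm]
  congr 1
  ring

omit hψ in
theorem card_value_ge {c : F} (hc : c ≠ 0) :
    valNum (Fintype.card F) e j (base (Fintype.card F) e) ≤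
      Nat.card {y : V // y ∈ lev Q U a f ∧ y ≠ 0 ∧ Q y = c} := by
  refine (L.shW.val c hc).trans (le_of_eq (Nat.card_congr (Equiv.subtypeEquivRight fun y => ?_)))
  exact ⟨fun h => ⟨h.1, fun e => hc (by rw [← h.2, e, QuadraticMap.map_zero]), h.2⟩, fun h => ⟨h.1, h.2.2⟩⟩

theorem value_bound {c : F} (hc : c ≠ 0) :
    mult ρ ψ a (lev Q U a f) 0 +
      valNum (Fintype.card F) e j (base (Fintype.card F) e) * multv a f ρ ψ c ≤ finrank ℂ M :=
  le_trans (Nat.add_le_add_left (Nat.mul_le_mul_right _ (card_value_ge L hc)) _) (le_finrank L hψ c)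

theorem sing_bound :
    mult ρ ψ a (lev Q U a f) 0 +
      (Fintype.card F ^ j - 1) * (Fintype.card F ^ (j - 1 + e) + 1) * multv a f ρ ψ 0 ≤ finrank ℂ M := by
  rw [← L.shW.card_sing]
  exact le_finrank L hψ 0

theorem both_bound {c : F} (hc : c ≠ 0) :
    mult ρ ψ a (lev Q U a f) 0 + valNum (Fintype.card F) e j (base (Fintype.card F) e) * multv a f ρ ψ c +
      (Fintype.card F ^ j - 1) * (Fintype.card F ^ (j - 1 + e) + 1) * multv a f ρ ψ 0 ≤ finrank ℂ M := by
  classical
  rw [← L.shW.card_sing, finrank_split L hψ, add_assoc]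
  refine Nat.add_le_add_left (le_trans (Nat.add_le_add_right (Nat.mul_le_mul_right _ (card_value_ge L hc)) _) ?_) _
  rw [← Finset.sum_pair (f := fun c => Nat.card {y : V // y ∈ lev Q U a f ∧ y ≠ 0 ∧ Q y = c} * multv a f ρ ψ c) hc]
  exact Finset.sum_le_sum_of_subset (Finset.subset_univ _)

/-- A square class has many values. -/
theorem class_bound {c : F} (hc : c ≠ 0) :
    (Fintype.card F - 1) * (valNum (Fintype.card F) e j (base (Fintype.card F) e) * multv a f ρ ψ c) ≤
      Nat.card {t : F // t * t = 1} * finrank ℂ M := by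
  classical
  obtain ⟨S, hS⟩ : ∃ S, S = (Finset.univ.filter fun t : F => t ≠ 0).image fun t => c * t ^ 2 := ⟨_, rfl⟩
  have h1 : Fintype.card F - 1 ≤ Nat.card {t : F // t * t = 1} * S.card := by
    have e1 : (Finset.univ.filter fun t : F => t ≠ 0).card = Fintype.card F - 1 := by
      rw [Finset.filter_ne', Finset.card_erase_of_mem (Finset.mem_univ _), Finset.card_univ]
    rw [← e1, hS, Nat.card_eq_fintype_card, Fintype.card_subtype]
    refine Finset.card_le_mul_card_image _ _ fun v hv => ?_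
    obtain ⟨t₀, ht₀, rfl⟩ := Finset.mem_image.1 hv
    have ht0 : t₀ ≠ 0 := (Finset.mem_filter.1 ht₀).2
    refine Finset.card_le_card_of_injOn (fun t => t / t₀) (fun t ht => ?_) (fun x _ y _ he => ?_)
    · have h := mul_left_cancel₀ hc (Finset.mem_filter.1 ht).2
      simp only [Finset.coe_filter, Finset.mem_univ, true_and, Set.mem_setOf_eq]
      rw [div_mul_div_comm, ← pow_two, ← pow_two, h, div_self (pow_ne_zero 2 ht0)]
    · exact (div_left_inj' ht0).1 he
  have h2 : S.card * (valNum (Fintype.card F) e j (base (Fintype.card F) e) * multv a f ρ ψ c) ≤ finrank ℂ M := by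
    rw [finrank_split L hψ, ← smul_eq_mul, ← Finset.sum_const]
    refine le_trans (Finset.sum_le_sum fun v hv => ?_)
      (le_trans (Finset.sum_le_sum_of_subset (Finset.subset_univ S)) (Nat.le_add_left _ _))
    rw [hS] at hv
    obtain ⟨t, ht, rfl⟩ := Finset.mem_image.1 hv
    have ht0 : t ≠ 0 := (Finset.mem_filter.1 ht).2
    rw [multv_sq L hψ c ht0]
    exact Nat.mul_le_mul_right _ (card_value_ge L (mul_ne_zero hc (pow_ne_zero 2 ht0)))
  calc (Fintype.card F - 1) * _ ≤ Nat.card {t : F // t * t = 1} * S.card * _ := Nat.mul_le_mul_right _ h1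
    _ ≤ _ := by rw [mul_assoc]; exact Nat.mul_le_mul_left _ h2

omit L hψ in
theorem card_sqrt_one : Nat.card {t : F // t * t = 1} ≤ 2 ∧ ((2 : F) = 0 → Nat.card {t : F // t * t = 1} ≤ 1) := by
  classical
  rw [Nat.card_eq_fintype_card, Fintype.card_subtype]
  refine ⟨(Finset.card_le_card fun t ht => ?_).trans (Finset.card_le_two (a := (1 : F)) (b := -1)), fun h2 => ?_⟩
  · simp only [Finset.mem_filter, Finset.mem_univ, true_and] at ht
    simpa using mul_self_eq_one_iff.1 ht
  · refine Finset.card_le_one.2 fun x hx y hy => ?_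
    simp only [Finset.mem_filter, Finset.mem_univ, true_and] at hx hy
    have hn : (-1 : F) = 1 := by linear_combination -h2
    have key : ∀ t : F, t * t = 1 → t = 1 := fun t ht => by
      rcases mul_self_eq_one_iff.1 ht with h | h
      · exact h
      · rw [h, hn]
    rw [key x hx, key y hy]

end Cfsg.Agent.Char.OmegaDeg
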