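import Cfsg.Agent.Lib.Char.OmegaDeg.Moves

/-!
# Weights of a representation on the Siegel elements at one point

For a nondegenerate `W ⊆ a^⊥` the elements `E a w`, `w ∈ W`, form a copy of `W`; their characters are
indexed by `W` through the polar form.
-/

set_option autoImplicit false
set_option linter.unusedSectionVars false
set_option linter.style.haveILetI false

namespace Cfsg.Agent.Char.OmegaDeg

open Module QuadraticMap Cfsg.Agent.Classical Cfsg.Agent.Classical.OCount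
open Cfsg.Agent.Small.OMinIndex

variable {F : Type*} [Field F] [Fintype F] {V : Type*} [AddCommGroup V] [Module F V] [FiniteDimensional F V]
  {Q : QuadraticForm F V}

open scoped _root_.Classical in
/-- An element seen in a subgroup, `1` outside it. -/
noncomputable def el (G : Subgroup (Om Q)) (g : Om Q) : G := if h : g ∈ G then ⟨g, h⟩ else 1

theorem el_of_mem {G : Subgroup (Om Q)} {g : Om Q} (h : g ∈ G) : el G g = ⟨g, h⟩ := dif_pos h

theorem el_mul {G : Subgroup (Om Q)} {g h : Om Q} (hg : g ∈ G) (hh : h ∈ G) : el G (g * h) = el G g * el G h := by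
  rw [el_of_mem hg, el_of_mem hh, el_of_mem (mul_mem hg hh)]; rfl

theorem el_inv {G : Subgroup (Om Q)} {g : Om Q} (hg : g ∈ G) : el G g⁻¹ = (el G g)⁻¹ := by
  rw [el_of_mem hg, el_of_mem (inv_mem hg)]; rfl

theorem el_one {G : Subgroup (Om Q)} : el G (1 : Om Q) = 1 := el_of_mem (one_mem G)

theorem el_coe {G : Subgroup (Om Q)} (g : G) : el G (g : Om Q) = g := el_of_mem g.2

/-- Subrepresentation of a subgroup. -/
noncomputable def restrictRep {G H : Subgroup (Om Q)} (hle : H ≤ G) {M : Type*} [AddCommGroup M] [Module ℂ M]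
    (ρ : Representation ℂ G M) (N : Submodule ℂ M) (hN : ∀ h ∈ H, ∀ v ∈ N, ρ (el G h) v ∈ N) :
    Representation ℂ H N where
  toFun h := (ρ (el G (h : Om Q))).restrict (hN h h.2)
  map_one' := LinearMap.ext fun v => Subtype.ext (by
    show ρ (el G ((1 : H) : Om Q)) v.1 = v.1
    rw [OneMemClass.coe_one, el_one, map_one]
    rfl)
  map_mul' g h := LinearMap.ext fun v => Subtype.ext (by
    show ρ (el G ((g * h : H) : Om Q)) v.1 = ρ (el G (g : Om Q)) (ρ (el G (h : Om Q)) v.1)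
    rw [Subgroup.coe_mul, el_mul (hle g.2) (hle h.2), map_mul]
    rfl)

theorem restrictRep_apply {G H : Subgroup (Om Q)} (hle : H ≤ G) {M : Type*} [AddCommGroup M] [Module ℂ M]
    (ρ : Representation ℂ G M) (N : Submodule ℂ M) (hN : ∀ h ∈ H, ∀ v ∈ N, ρ (el G h) v ∈ N) {g : Om Q} (hg : g ∈ H)
    (v : N) : ((restrictRep hle ρ N hN (el H g) v : N) : M) = ρ (el G g) v.1 := by
  rw [el_of_mem hg]; rfl

/-- The setting. -/
structure Fr (Q : QuadraticForm F V) (G : Subgroup (Om Q)) (a : V) (W : Submodule F V) : Prop where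
  space : Space Q
  sing : Q a = 0
  perp : ∀ w ∈ W, polar Q a w = 0
  nd : NonDeg Q W
  mem : ∀ w ∈ W, (E a w : Om Q) ∈ G

variable {G : Subgroup (Om Q)} {M : Type*} [AddCommGroup M] [Module ℂ M] (ρ : Representation ℂ G M)
  (ψ : AddChar F ℂ) (a : V) (W : Submodule F V)

/-- The operator of `E a w`. -/
noncomputable def opA (w : V) : Module.End ℂ M := ρ (el G (E a w : Om Q))

open scoped _root_.Classical in
/-- The projection on the weight `y`. -/
noncomputable def wt (y : V) : Module.End ℂ M :=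
  haveI : Finite V := Module.finite_of_finite F
  haveI := Fintype.ofFinite W
  (Nat.card W : ℂ)⁻¹ • ∑ w : W, ψ (-polar Q (w : V) y) • opA ρ a w

/-- Its multiplicity. -/
noncomputable def mult (y : V) : ℕ := finrank ℂ (LinearMap.range (wt ρ ψ a W y))

variable {ρ ψ a W}

theorem card_ne (W : Submodule F V) : (Nat.card W : ℂ) ≠ 0 := by
  haveI : Finite V := Module.finite_of_finite F
  exact Nat.cast_ne_zero.2 Nat.card_pos.ne'

theorem sum_psi [Fintype W] (hψ : ψ ≠ 1) (hW : NonDeg Q W) {y : V} (hy : y ∈ W) [Decidable (y = 0)] :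
    ∑ w : W, ψ (polar Q (w : V) y) = if y = 0 then (Nat.card W : ℂ) else 0 := by
  by_cases h0 : y = 0
  · subst h0
    rw [if_pos rfl, Finset.sum_congr rfl fun w _ => by rw [polar_zero_right, AddChar.map_zero_eq_one]]
    simp [Nat.card_eq_fintype_card]
  rw [if_neg h0]
  obtain ⟨x, hx⟩ := AddChar.ne_one_iff.1 hψ
  obtain ⟨z, hz, -, hzy⟩ := exists_sep_in hW (bot_le : (⊥ : Submodule F V) ≤ W) hy (by simpa using h0) x
  let φ : AddChar W ℂ := ψ.compAddMonoidHom
    (AddMonoidHom.mk' (fun w : W => polar Q (w : V) y) fun w w' => polar_add_left (Q := Q) w.1 w'.1 y)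
  exact AddChar.sum_eq_zero_of_ne_one (ψ := φ) (AddChar.ne_one_iff.2 ⟨⟨z, hz⟩, by
    show ψ (polar Q z y) ≠ 1
    rw [hzy]; exact hx⟩)

section Frame

variable (hF : Fr Q G a W)
include hF

theorem opA_mul {w w' : V} (hw : w ∈ W) (hw' : w' ∈ W) : opA ρ a w * opA ρ a w' = opA ρ a (w + w') := by
  rw [opA, opA, opA, ← map_mul, ← el_mul (hF.mem w hw) (hF.mem w' hw'),
    E_mul hF.space hF.sing (hF.perp w hw) (hF.perp w' hw')]

theorem opA_zero : opA ρ a 0 = 1 := by rw [opA, E_zero hF.space hF.sing, el_one, map_one]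

theorem opA_mul_wt {w : V} (hw : w ∈ W) (y : V) :
    opA ρ a w * wt ρ ψ a W y = ψ (polar Q w y) • wt ρ ψ a W y := by
  classical
  haveI : Finite V := Module.finite_of_finite F
  letI := Fintype.ofFinite W
  simp only [wt, mul_smul_comm, Finset.mul_sum, Finset.smul_sum, smul_smul]
  refine Fintype.sum_equiv (Equiv.addLeft (⟨w, hw⟩ : W)) _ _ fun x => ?_
  rw [opA_mul hF hw x.2]
  simp only [Equiv.coe_addLeft, Submodule.coe_add]
  congr 1
  rw [mul_left_comm (ψ (polar Q w y)), ← AddChar.map_add_eq_mul, polar_add_left]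
  congr 2
  ring

theorem wt_mul_wt (hψ : ψ ≠ 1) {y y' : V} (hy : y ∈ W) (hy' : y' ∈ W) [Decidable (y = y')] :
    wt ρ ψ a W y * wt ρ ψ a W y' = if y = y' then wt ρ ψ a W y else 0 := by
  classical
  haveI : Finite V := Module.finite_of_finite F
  letI := Fintype.ofFinite W
  conv_lhs => arg 1; rw [wt]
  rw [smul_mul_assoc, Finset.sum_mul]
  simp only [smul_mul_assoc, fun x : W => opA_mul_wt (ρ := ρ) (ψ := ψ) hF x.2 y', smul_smul,
    ← AddChar.map_add_eq_mul, ← Finset.sum_smul]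
  have h : ∀ x : W, -polar Q (x : V) y + polar Q (x : V) y' = polar Q (x : V) (y' - y) := fun x => by
    rw [polar_sub_right]; ring
  rw [Finset.sum_congr rfl fun x _ => by rw [h x], sum_psi hψ hF.nd (W.sub_mem hy' hy)]
  by_cases hc : y = y'
  · subst hc
    rw [if_pos (sub_self y), if_pos rfl, inv_mul_cancel₀ (card_ne W), one_smul]
  · rw [if_neg (sub_ne_zero.2 (Ne.symm hc)), if_neg hc, mul_zero, zero_smul]

theorem wt_idem (hψ : ψ ≠ 1) {y : V} (hy : y ∈ W) : wt ρ ψ a W y * wt ρ ψ a W y = wt ρ ψ a W y := by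
  classical
  rw [wt_mul_wt hF hψ hy hy, if_pos rfl]

theorem sum_wt [Fintype W] (hψ : ψ ≠ 1) : ∑ y : W, wt ρ ψ a W y = 1 := by
  classical
  haveI : Finite V := Module.finite_of_finite F
  simp only [wt]
  rw [← Finset.smul_sum, Finset.sum_comm]
  simp only [← Finset.sum_smul]
  rw [show (Fintype.ofFinite W : Fintype W) = ‹Fintype W› from Subsingleton.elim _ _]
  have h : ∀ w : W, ∑ y : W, ψ (-polar Q (w : V) y) = if (w : V) = 0 then (Nat.card W : ℂ) else 0 := fun w => by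
    rw [show (∑ y : W, ψ (-polar Q (w : V) y)) = ∑ y : W, ψ (polar Q (y : V) (-(w : V))) from
      Finset.sum_congr rfl fun y _ => by rw [polar_neg_right, polar_comm]]
    rw [sum_psi hψ hF.nd (W.neg_mem w.2)]
    simp only [neg_eq_zero]
  rw [Finset.sum_congr rfl fun w _ => by rw [h w], Finset.sum_eq_single (0 : W)]
  · rw [Submodule.coe_zero, if_pos rfl, smul_smul, inv_mul_cancel₀ (card_ne W), one_smul, opA_zero hF]
  · intro w _ hw
    rw [if_neg (show (w : V) ≠ 0 from fun e => hw (Subtype.ext e)), zero_smul]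
  · intro h; exact absurd (Finset.mem_univ _) h

theorem opA_eq_sum [Fintype W] (hψ : ψ ≠ 1) {w : V} (hw : w ∈ W) :
    opA ρ a w = ∑ y : W, ψ (polar Q w y) • wt ρ ψ a W y := by
  conv_lhs => rw [← mul_one (opA ρ a w), ← sum_wt (ρ := ρ) hF hψ, Finset.mul_sum]
  exact Finset.sum_congr rfl fun y _ => opA_mul_wt hF hw _

/-- The elements normalising `E a W` permute the weights. -/
theorem conj_wt {g : Om Q} (hg : g ∈ G) {s : F} (hs : s ≠ 0) (hga : g • a = s • a) (hgW : ∀ w ∈ W, g • w ∈ W)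
    (y : V) : ρ (el G g) * wt ρ ψ a W y = wt ρ ψ a W (s⁻¹ • g • y) * ρ (el G g) := by
  classical
  haveI : Finite V := Module.finite_of_finite F
  letI := Fintype.ofFinite W
  simp only [wt, mul_smul_comm, smul_mul_assoc, Finset.mul_sum, Finset.sum_mul]
  congr 1
  have hmem : ∀ x : W, s • g • (x : V) ∈ W := fun x => W.smul_mem _ (hgW _ x.2)
  have hb : Function.Bijective fun x : W => (⟨_, hmem x⟩ : W) :=
    Finite.injective_iff_bijective.1 fun x x' e => by
      have e' := congrArg Subtype.val e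
      exact Subtype.ext (smul_inj g (smul_right_injective _ hs e'))
  refine Fintype.sum_equiv (Equiv.ofBijective _ hb) _ _ fun x => ?_
  rw [Equiv.ofBijective_apply, opA, opA, ← map_mul, ← map_mul, ← el_mul hg (hF.mem _ x.2),
    ← el_mul (hF.mem _ (hmem x)) hg]
  have hpol : polar Q (s • g • (x : V)) (s⁻¹ • g • y) = polar Q (x : V) y := by
    rw [polar_smul_left, polar_smul_right, polar_iso_smul, smul_smul, mul_inv_cancel₀ hs, one_smul]
  have hconj : g * E a (x : V) * g⁻¹ = E a (s • g • (x : V)) := by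
    rw [conj_E hF.space hF.sing (hF.perp _ x.2), hga, E_smul_left hF.space hF.sing (hF.perp _ (hgW _ x.2))]
  rw [hpol, ← hconj, inv_mul_cancel_right]

theorem wt_eq_zero {y : V} [FiniteDimensional ℂ M] (h : mult ρ ψ a W y = 0) : wt ρ ψ a W y = 0 :=
  LinearMap.range_eq_bot.1 (Submodule.finrank_eq_zero.1 h)

end Frame

/-- The inverse commutes as well. -/
theorem commute_inv {g : Om Q} (hg : g ∈ G) {e : Module.End ℂ M} (h : Commute (ρ (el G g)) e) :
    Commute (ρ (el G g⁻¹)) e := by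
  have h' : ρ (el G g) * ρ (el G g⁻¹) = 1 := by rw [← map_mul, el_inv hg, mul_inv_cancel, map_one]
  have h'' : ρ (el G g⁻¹) * ρ (el G g) = 1 := by rw [← map_mul, el_inv hg, inv_mul_cancel, map_one]
  calc ρ (el G g⁻¹) * e = ρ (el G g⁻¹) * (e * (ρ (el G g) * ρ (el G g⁻¹))) := by rw [h', mul_one]
    _ = ρ (el G g⁻¹) * ((ρ (el G g) * e) * ρ (el G g⁻¹)) := by rw [h.eq, mul_assoc]
    _ = e * ρ (el G g⁻¹) := by rw [mul_assoc (ρ (el G g)), ← mul_assoc, h'', one_mul]

/-- The rank of an idempotent. -/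
theorem trace_idem [FiniteDimensional ℂ M] (e : Module.End ℂ M) (h : e * e = e) :
    LinearMap.trace ℂ M e = (finrank ℂ (LinearMap.range e) : ℂ) := by
  have hp : LinearMap.IsProj (LinearMap.range e) e := by
    refine ⟨fun x => LinearMap.mem_range_self _ x, ?_⟩
    rintro _ ⟨x, rfl⟩
    exact LinearMap.congr_fun h x
  exact hp.trace

section Trace

variable [FiniteDimensional ℂ M] (hF : Fr Q G a W) (hψ : ψ ≠ 1)
include hF hψ

theorem trace_wt {y : V} (hy : y ∈ W) : LinearMap.trace ℂ M (wt ρ ψ a W y) = (mult ρ ψ a W y : ℂ) :=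
  trace_idem _ (wt_idem hF hψ hy)

theorem trace_opA [Fintype W] {w : V} (hw : w ∈ W) :
    LinearMap.trace ℂ M (opA ρ a w) = ∑ y : W, (mult ρ ψ a W y : ℂ) * ψ (polar Q w y) := by
  rw [opA_eq_sum hF hψ hw, map_sum]
  exact Finset.sum_congr rfl fun y _ => by rw [map_smul, trace_wt hF hψ y.2, smul_eq_mul, mul_comm]

theorem finrank_eq_sum [Fintype W] : finrank ℂ M = ∑ y : W, mult ρ ψ a W y := by
  have h := congrArg (LinearMap.trace ℂ M) (sum_wt (ρ := ρ) hF hψ)
  rw [map_sum, LinearMap.trace_one, Finset.sum_congr rfl fun y _ => trace_wt hF hψ y.2] at h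
  exact_mod_cast h.symm

theorem mult_move {g : Om Q} (hg : g ∈ G) {s : F} (hs : s ≠ 0) (hga : g • a = s • a)
    (hgW : ∀ w ∈ W, g • w ∈ W) {y : V} (hy : y ∈ W) :
    mult ρ ψ a W (s⁻¹ • g • y) = mult ρ ψ a W y := by
  have h1 : ρ (el G g) * ρ (el G g⁻¹) = 1 := by rw [← map_mul, el_inv hg, mul_inv_cancel, map_one]
  have h2 : ρ (el G g⁻¹) * ρ (el G g) = 1 := by rw [← map_mul, el_inv hg, inv_mul_cancel, map_one]
  have e : LinearMap.trace ℂ M (wt ρ ψ a W (s⁻¹ • g • y)) = LinearMap.trace ℂ M (wt ρ ψ a W y) := by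
    conv_lhs => rw [← mul_one (wt ρ ψ a W (s⁻¹ • g • y)), ← h1, ← mul_assoc, ← conj_wt hF hg hs hga hgW]
    rw [LinearMap.trace_mul_comm, ← mul_assoc, h2, one_mul]
  rw [trace_wt hF hψ hy, trace_wt hF hψ (W.smul_mem _ (hgW y hy))] at e
  exact_mod_cast e

/-- An element moving a weight has no trace on it. -/
theorem trace_moved {x : Module.End ℂ M} {y y' : V} (hy : y ∈ W) (hy' : y' ∈ W) (hne : y' ≠ y)
    (h : x * wt ρ ψ a W y = wt ρ ψ a W y' * x) : LinearMap.trace ℂ M (x * wt ρ ψ a W y) = 0 := by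
  classical
  conv_lhs => rw [← wt_idem hF hψ hy, ← mul_assoc, h, LinearMap.trace_mul_comm, ← mul_assoc,
    wt_mul_wt hF hψ hy hy', if_neg (Ne.symm hne), zero_mul, map_zero]

theorem trivial_of_mult (h : ∀ y ∈ W, y ≠ 0 → mult ρ ψ a W y = 0) {w : V} (hw : w ∈ W) : opA ρ a w = 1 := by
  classical
  haveI : Finite V := Module.finite_of_finite F
  letI := Fintype.ofFinite W
  have key : ∀ y : W, y ≠ 0 → wt ρ ψ a W y = 0 := fun y hy =>
    wt_eq_zero hF (h y.1 y.2 fun e => hy (Subtype.ext e))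
  rw [opA_eq_sum hF hψ hw, ← sum_wt (ρ := ρ) hF hψ]
  refine Finset.sum_congr rfl fun y _ => ?_
  by_cases hy : y = 0
  · rw [hy, Submodule.coe_zero, polar_zero_right, AddChar.map_zero_eq_one, one_smul]
  · rw [key y hy, smul_zero]

/-- An element commuting with a weight of multiplicity one is a scalar on it. -/
theorem exists_scalar {y : V} (hy : y ∈ W) (h1 : mult ρ ψ a W y = 1) {x : Module.End ℂ M}
    (hx : Commute x (wt ρ ψ a W y)) : ∃ l : ℂ, x * wt ρ ψ a W y = l • wt ρ ψ a W y := by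
  obtain ⟨v, hv0, hspan⟩ := finrank_eq_one_iff'.1 h1
  have hidem : ∀ z, wt ρ ψ a W y (wt ρ ψ a W y z) = wt ρ ψ a W y z := fun z =>
    LinearMap.congr_fun (wt_idem (ρ := ρ) hF hψ hy) z
  have hv : wt ρ ψ a W y v.1 = v.1 := by
    obtain ⟨z, hz⟩ := v.2
    rw [← hz, hidem]
  obtain ⟨l, hl⟩ := hspan ⟨x v.1, ⟨x v.1, by
    rw [← Module.End.mul_apply, ← hx.eq, Module.End.mul_apply, hv]⟩⟩
  refine ⟨l, LinearMap.ext fun z => ?_⟩
  obtain ⟨c, hc⟩ := hspan ⟨_, LinearMap.mem_range_self (wt ρ ψ a W y) z⟩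
  have hc' : c • v.1 = wt ρ ψ a W y z := congrArg Subtype.val hc
  have hl' : l • v.1 = x v.1 := congrArg Subtype.val hl
  rw [Module.End.mul_apply, LinearMap.smul_apply, ← hc', map_smul, ← hl', smul_comm]

/-- Conjugation is trivial on a weight of multiplicity one. -/
theorem conj_fix {y : V} (hy : y ∈ W) (h1 : mult ρ ψ a W y = 1) {g x : Om Q} (hg : g ∈ G) (hx : x ∈ G)
    (hgc : Commute (ρ (el G g)) (wt ρ ψ a W y)) (hxc : Commute (ρ (el G x)) (wt ρ ψ a W y)) :
    ρ (el G (g * x * g⁻¹)) * wt ρ ψ a W y = ρ (el G x) * wt ρ ψ a W y := by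
  obtain ⟨l, hl⟩ := exists_scalar hF hψ hy h1 hxc
  have h' : ρ (el G g) * ρ (el G g⁻¹) = 1 := by rw [← map_mul, el_inv hg, mul_inv_cancel, map_one]
  have hgi := commute_inv hg hgc
  rw [el_mul (mul_mem hg hx) (inv_mem hg), el_mul hg hx, map_mul, map_mul, mul_assoc, hgi.eq, ← mul_assoc,
    mul_assoc (ρ (el G g)), hl, mul_smul_comm, smul_mul_assoc, hgc.eq, mul_assoc, h', mul_one]

/-- Commutators are trivial on a weight of multiplicity one. -/
theorem comm_fix {y : V} (hy : y ∈ W) (h1 : mult ρ ψ a W y = 1) {g x : Om Q} (hg : g ∈ G) (hx : x ∈ G)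
    (hgc : Commute (ρ (el G g)) (wt ρ ψ a W y)) (hxc : Commute (ρ (el G x)) (wt ρ ψ a W y)) :
    ρ (el G (g * x * g⁻¹ * x⁻¹)) * wt ρ ψ a W y = wt ρ ψ a W y := by
  have h' : ρ (el G x) * ρ (el G x⁻¹) = 1 := by rw [← map_mul, el_inv hx, mul_inv_cancel, map_one]
  have hxi := commute_inv hx hxc
  rw [el_mul (mul_mem (mul_mem hg hx) (inv_mem hg)) (inv_mem hx), map_mul, mul_assoc, hxi.eq, ← mul_assoc,
    conj_fix hF hψ hy h1 hg hx hgc hxc, hxc.eq, mul_assoc, h', mul_one]

end Trace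

end Cfsg.Agent.Char.OmegaDeg
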